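import Cfsg.Agent.Oct.Coord

/-!
Uniqueness: the octagon determines the group.
-/

set_option autoImplicit false
set_option linter.unusedSectionVars false
set_option linter.unusedSimpArgs false
set_option linter.unnecessarySeqFocus false
set_option maxRecDepth 20000

namespace Cfsg.Agent.Oct

open Subgroup Fus
open scoped commutatorElement

variable {K : Type*} [Field K] [Tw K] {G G' : Type*} [Group G] [Group G']

theorem Nr.map' {V V' : Type*} {adj : V → V → Prop} {adj' : V' → V' → Prop} {φ : V → V'}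
    (h : ∀ u v, adj u v → adj' (φ u) (φ v)) {n : ℕ} {u v : V} (e : Nr adj n u v) : Nr adj' n (φ u) (φ v) := by
  obtain ⟨k, hk, f, hf, rfl, rfl⟩ := e
  exact ⟨k, hk, fun i => φ (f i), fun i hi => h _ _ (hf i hi), rfl, rfl⟩

namespace Loc

variable {L : Loc K G} {L' : Loc K G'} {g x y d n : G} {g' x' y' n' : G'} {v v' : Subgroup G} {a : ℤ → Subgroup G}
  {a' : ℤ → Subgroup G'} {u u' : U K}

variable (L) in
/-- No normal subgroup of odd order centralises the conjugates of `τ`. -/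
def Core : Prop := ∀ M : Subgroup G, M.Normal → (∀ g ∈ M, Two g → g = 1) →
  (∀ g ∈ M, ∀ d, L.Dd d → g * d = d * g) → M = ⊥

open Classical in
variable (L L' a a') in
/-- The map between two octagons given by the coordinates. -/
noncomputable def Φ (v : Subgroup G) : Subgroup G' :=
  if h : ∃ p : U K × ℤ, v = L.N p.1 • a p.2 then L'.N h.choose.1 • a' h.choose.2 else ⊥

variable (L L' a a') in
/-- `g` and `g'` act in the same way. -/
def Rl (g : G) (g' : G') : Prop := ∀ v, L.Vx v → Φ L L' a a' (g • v) = g' • Φ L L' a a' v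

theorem Rl.mul (h : Rl L L' a a' x x') (h' : Rl L L' a a' y y') : Rl L L' a a' (x * y) (x' * y') := fun v hv => by
  rw [mul_smul, h _ (hv.smul y), h' v hv, mul_smul]

theorem Rl.one : Rl L L' a a' 1 1 := fun v _ => by simp

theorem Rl.inv (h : Rl L L' a a' x x') : Rl L L' a a' x⁻¹ x'⁻¹ := fun v hv => by
  rw [eq_inv_smul_iff, ← h _ (hv.smul _), smul_inv_smul]

variable (L L' a a') in
/-- The elements that correspond to elements of `P`. -/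
def img (P : Subgroup G) : Subgroup G' where
  carrier := {g' | ∃ g ∈ P, Rl L L' a a' g g'}
  mul_mem' := fun ⟨_, h1, h2⟩ ⟨_, h3, h4⟩ => ⟨_, mul_mem h1 h3, h2.mul h4⟩
  one_mem' := ⟨1, one_mem _, Rl.one⟩
  inv_mem' := fun ⟨_, h1, h2⟩ => ⟨_, inv_mem h1, h2.inv⟩

variable [Finite K] [Finite G]

theorem C_le' (h8 : L.Dd (L.N (X8 1))) {P : Subgroup G} (h1 : ∀ u, L.N u ∈ P) (h2 : ∀ d ∈ L.C, L.Dd d → d ∈ P) :
    L.C ≤ P := C_le h1 fun ν => by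
  have hh := L.h_mem ν
  have a1 := h2 _ (mul_mem (mul_mem hh (L.N_mem _)) (inv_mem hh)) (h8.conj (L.h ν))
  have a2 := h2 _ (mul_mem (mul_mem hh (mul_mem (mul_mem L.w_mem (L.N_mem _)) (inv_mem L.w_mem))) (inv_mem hh))
    ((h8.conj L.w).conj (L.h ν))
  generalize hx : L.w * L.N (X8 1) * L.w⁻¹ = x at a2
  rw [L.w_eq, hx, show L.h ν * (L.N (X8 1) * x * L.N (X8 1) * x * L.N (X8 1)) * (L.h ν)⁻¹ =
    L.h ν * L.N (X8 1) * (L.h ν)⁻¹ * (L.h ν * x * (L.h ν)⁻¹ * (L.h ν * L.N (X8 1) * (L.h ν)⁻¹ *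
    (L.h ν * x * (L.h ν)⁻¹ * (L.h ν * L.N (X8 1) * (L.h ν)⁻¹)))) by group]
  exact mul_mem a1 (mul_mem a2 (mul_mem a1 (mul_mem a2 a1)))

theorem Fin.dd8 (F : L.Fin n a) : L.Dd (L.N (X8 1)) :=
  F.dd_pt ((F.pt_iff 4).2 (by decide)) F.m4 fun e => one_ne_zero (congrArg U.x8 (N_eq_one.1 e))

theorem Fin.faith (F : L.Fin n a) (c : L.Core) (h : ∀ v, L.Vx v → g • v = v) : g = 1 := by
  let M : Subgroup G :=
    { carrier := {g | ∀ v, L.Vx v → g • v = v}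
      mul_mem' := fun h h' v hv => by rw [mul_smul, h' v hv, h v hv]
      one_mem' := fun v _ => one_smul _ _
      inv_mem' := fun h v hv => inv_smul_eq_iff.2 (h v hv).symm }
  have hn : M.Normal := ⟨fun g h k v hv => by rw [mul_smul, mul_smul, h _ (hv.smul _), smul_inv_smul]⟩
  have h2 : ∀ g ∈ M, Two g → g = 1 := fun g h h2 => by
    obtain ⟨u, rfl⟩ := F.fx_base.1 ⟨h2, h _ ⟨_, adj_ZW⟩, h _ ⟨_, adj_ZW.symm⟩⟩
    rw [F.triv (h _ (F.vx _)) (h _ (F.vx _)) (h _ (F.vx _)) (h _ (F.vx _)), map_one]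
  refine (eq_bot_iff_forall M).1 (c M hn h2 fun g h d hd => ?_) g h
  obtain ⟨_, ⟨k, rfl⟩, hp⟩ := hd.exists_pt
  have h3 := mul_mem (conj_mem_of_smul_eq (h _ ⟨_, adj_ZW.smul k⟩) hp) (inv_mem hp)
  have := h2 (g * d * g⁻¹ * d⁻¹) (by simpa only [mul_assoc] using mul_mem h (hn.conj_mem _ (inv_mem h) d))
    (F.inA_line (adj_ZW.smul k) ⟨k, rfl⟩ (smul_le_smul Z_le_W h3)).1.1
  rwa [mul_inv_eq_one, mul_inv_eq_iff_eq_mul] at this

variable [Finite G'] (F : L.Fin n a) (F' : L'.Fin n' a')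
include F F'

theorem transfer {k l : ℤ} (h : L.N u • a k = L.N u' • a l) : L'.N u • a' k = L'.N u' • a' l := by
  have key : ∀ k : ℤ, ∃ k' : ℤ, -7 ≤ k' ∧ k' ≤ 8 ∧ a k = a k' ∧ a' k = a' k' := fun k =>
    have e : k = (k + 7) % 16 - 7 + (k + 7) / 16 * ((16 : ℕ) : ℤ) := by omega
    ⟨(k + 7) % 16 - 7, by omega, by omega,
      (congrArg a e).trans (Function.Periodic.int_mul (c := ((16 : ℕ) : ℤ)) F.cyc.per _ _),
      (congrArg a' e).trans (Function.Periodic.int_mul (c := ((16 : ℕ) : ℤ)) F'.cyc.per _ _)⟩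
  obtain ⟨k, k1, k2, k3, k4⟩ := key k
  obtain ⟨l, l1, l2, l3, l4⟩ := key l
  rw [k3, l3, ← inv_smul_eq_iff, ← map_inv, smul_smul, ← map_mul] at h
  obtain rfl := F.orbit_eq k1 k2 l1 l2 h
  rw [k4, l4, ← inv_smul_eq_iff, ← map_inv, smul_smul, ← map_mul, F'.stab_iff k1 k2, ← F.stab_iff k1 k2, h]

theorem Φ_eq (u : U K) (k : ℤ) : Φ L L' a a' (L.N u • a k) = L'.N u • a' k := by
  have h : ∃ p : U K × ℤ, L.N u • a k = L.N p.1 • a p.2 := ⟨(u, k), rfl⟩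
  rw [Φ, dif_pos h]
  exact (transfer F F' h.choose_spec).symm

theorem ΦΦ (h : L.Vx v) : Φ L' L a' a (Φ L L' a a' v) = v := by
  obtain ⟨u, k, rfl⟩ := F.vert h
  rw [Φ_eq F F', Φ_eq F' F]

theorem Φ_adj (h : L.adj v v') : L'.adj (Φ L L' a a' v) (Φ L L' a a' v') := by
  obtain ⟨u, k, rfl⟩ := F.vert ⟨_, h⟩
  obtain ⟨u', e, rfl | rfl⟩ := F.nb h <;> rw [e, Φ_eq F F', Φ_eq F F', adj_smul]
  · exact F'.cyc.wk k
  · simpa using (F'.cyc.wk (k - 1)).symm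

theorem Φ_vx (h : L.Vx v) : L'.Vx (Φ L L' a a' v) := let ⟨_, h⟩ := h; ⟨_, Φ_adj F F' h⟩

theorem Φ_pt (h : L.pt v) : L'.pt (Φ L L' a a' v) := by
  obtain ⟨u, k, rfl⟩ := F.vert (show L.Vx v by obtain ⟨g, rfl⟩ := h; exact ⟨_, adj_ZW.smul g⟩)
  rwa [Φ_eq F F', pt_smul, F'.pt_iff, ← F.pt_iff, ← pt_smul]

theorem rl_N (u : U K) : Rl L L' a a' (L.N u) (L'.N u) := fun v hv => by
  obtain ⟨u', k, rfl⟩ := F.vert hv
  rw [smul_smul, ← map_mul, Φ_eq F F', Φ_eq F F', map_mul, mul_smul]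

theorem Rl.symm (h : Rl L L' a a' g g') : Rl L' L a' a g' g := fun v hv => by
  rw [← ΦΦ F' F hv, ← h _ (Φ_vx F' F hv), ΦΦ F F' ((Φ_vx F' F hv).smul g), ΦΦ F' F hv]

theorem Rl.uniq (c : L'.Core) (h : Rl L L' a a' g x') (h' : Rl L L' a a' g y') : x' = y' :=
  inv_mul_eq_one.1 (F'.faith c fun v hv => by
    rw [mul_smul, inv_smul_eq_iff, ← ΦΦ F' F hv, ← h _ (Φ_vx F' F hv), ← h' _ (Φ_vx F' F hv)])

theorem exists_rl (hd : L.Dd d) : ∃ d', L'.Dd d' ∧ Rl L L' a a' d d' := by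
  obtain ⟨p, hp, hdp⟩ := hd.exists_pt
  have vp : L.Vx p := by obtain ⟨g, rfl⟩ := hp; exact ⟨_, adj_ZW.smul g⟩
  obtain ⟨g', e⟩ := Φ_pt F F' hp
  obtain ⟨s, hs⟩ := F'.elation (β := fun v => g'⁻¹ • Φ L L' a a' (d • Φ L' L a' a (g' • v)))
    (fun u v h => (Φ_adj F F' ((Φ_adj F' F (h.smul g')).smul d)).smul _) (fun u v hu hv h => by
      have := congrArg (Φ L' L a' a) (smul_left_cancel _ h)
      rw [ΦΦ F F' ((Φ_vx F' F (hu.smul _)).smul _), ΦΦ F F' ((Φ_vx F' F (hv.smul _)).smul _)] at this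
      have := congrArg (Φ L L' a a') (smul_left_cancel _ this)
      rw [ΦΦ F' F (hu.smul _), ΦΦ F' F (hv.smul _)] at this
      exact smul_left_cancel _ this) fun v h => by
      have h0 : Nr L'.adj 4 (g' • L'.Z) (g' • v) := Nr.map' (φ := (g' • ·)) (fun _ _ h => adj.smul h g') h
      have h1 := Nr.map' (adj' := L.adj) (φ := Φ L' L a' a) (fun _ _ => Φ_adj F' F) h0
      rw [← e, ΦΦ F F' vp] at h1
      have hv : L'.Vx v := by
        obtain ⟨k, -, f, hf, e, rfl⟩ := h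
        rcases k with _ | k
        exacts [e ▸ ⟨_, adj_ZW⟩, ⟨_, (hf k k.lt_succ_self).symm⟩]
      rw [F.L1 hp hdp h1, ΦΦ F' F (hv.smul _), inv_smul_smul]
  have r : Rl L L' a a' d (g' * L'.N (X4 s) * g'⁻¹) := fun v hv => by
    have := hs _ ((Φ_vx F F' hv).smul g'⁻¹)
    rw [smul_inv_smul, ΦΦ F F' hv, inv_smul_eq_iff] at this
    rw [this, mul_smul, mul_smul]
  refine ⟨_, F'.dd_pt ⟨g', rfl⟩ (conj_mem_smul.2 (mem_Z.2 ⟨s, rfl⟩)) fun h1 => ?_, r⟩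
  obtain ⟨k, rfl⟩ := hp
  have p := ns_smul (F.cyc.fw 0 5) k
  refine F.L2 p (((F.pt_iff _).2 (by decide)).smul k) (F.a0.symm ▸ hdp) hd.ne ?_
  have := congrArg (Φ L' L a' a) (r _ ((F.vx 5).smul k))
  rwa [h1, one_smul, ΦΦ F F' (((F.vx 5).smul k).smul d), ΦΦ F F' ((F.vx 5).smul k)] at this

theorem exists_normal (c : L.Core) (c' : L'.Core) (hc : ∀ g', g' * L'.τ = L'.τ * g' → g' ∈ L'.C)
    (hg : ∀ P : Subgroup G', (∀ u, L'.N u ∈ P) → (∀ d, L'.Dd d → d ∈ P) → P = ⊤) :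
    ∃ M : Subgroup G, M.Normal ∧ M.index = L.C.relIndex (centralizer {L.τ}) ∧ Nonempty (M ≃* G') := by
  set M := img L' L a' a ⊤
  have mem : ∀ {g g'}, Rl L L' a a' g g' → g ∈ M := fun h => ⟨_, mem_top _, h.symm F F'⟩
  have ex : ∀ g ∈ M, ∃ g', Rl L L' a a' g g' := fun g ⟨g', _, h⟩ => ⟨g', h.symm F' F⟩
  have uq : ∀ {x y g'}, Rl L L' a a' x g' → Rl L L' a a' y g' → x = y := fun h h' =>
    (h.symm F F').uniq F' F c (h'.symm F F')
  have MD : ∀ d, L.Dd d → d ∈ M := fun d hd => let ⟨_, _, h⟩ := exists_rl F F' hd; mem h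
  have MC : L.C ≤ M := C_le' F.dd8 (fun u => mem (rl_N F F' u)) fun d _ => MD d
  have top : ∀ P : Subgroup G, (∀ u, L.N u ∈ P) → (∀ d, L.Dd d → d ∈ P) → img L L' a a' P = ⊤ := fun P h1 h2 =>
    hg _ (fun u => ⟨_, h1 u, rl_N F F' u⟩) fun d' hd' =>
      let ⟨d, hd, h⟩ := exists_rl F' F hd'; ⟨d, h2 d hd, h.symm F' F⟩
  have le : ∀ P : Subgroup G, (∀ u, L.N u ∈ P) → (∀ d, L.Dd d → d ∈ P) → M ≤ P := fun P h1 h2 g hg => by
    obtain ⟨g', h⟩ := ex g hg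
    obtain ⟨x, hx, h'⟩ : g' ∈ img L L' a a' P := top P h1 h2 ▸ mem_top _
    exact uq h' h ▸ hx
  have sur : ∀ g', ∃ g, Rl L L' a a' g g' := fun g' =>
    let ⟨x, _, h⟩ : g' ∈ img L L' a a' ⊤ := top ⊤ (fun _ => mem_top _) (fun _ _ => mem_top _) ▸ mem_top _; ⟨x, h⟩
  have rτ : Rl L L' a a' L.τ L'.τ := rl_N F F' _
  have dec : ∀ g : G, ∃ k ∈ M, k⁻¹ * g ∈ centralizer {L.τ} := fun g => by
    obtain ⟨d', hd', h⟩ := exists_rl F F' (dd_τ.conj g)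
    obtain ⟨k', rfl⟩ := isConj_iff.1 hd'
    obtain ⟨k, hk⟩ := sur k'
    have := uq ((hk.mul rτ).mul hk.inv) h
    refine ⟨k, mem hk, mem_centralizer_singleton_iff.2 ?_⟩
    calc _ = k⁻¹ * (g * L.N (X4 1) * g⁻¹) * g := by rw [τ]; group
      _ = _ := by rw [← this]; group
  have hn : M.Normal := ⟨fun x hx g => by
    obtain ⟨k, hk, hh⟩ := dec g
    have := le ((k⁻¹ * g)⁻¹ • M) (fun u => mem_inv_smul.2 (MC (F.H.norm _ (mem_centralizer_singleton_iff.1 hh) _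
      (L.N_mem u)))) (fun d hd => mem_inv_smul.2 (MD _ (hd.conj _))) hx
    have := mul_mem (mul_mem hk (mem_inv_smul.1 this)) (inv_mem hk)
    simpa [mul_assoc] using this⟩
  refine ⟨M, hn, ?_, ?_⟩
  · have h1 : centralizer {L.τ} ⊔ M = ⊤ := eq_top_iff.2 fun g _ => by
      obtain ⟨k, hk, hh⟩ := dec g
      simpa using mul_mem (mem_sup_right hk) (mem_sup_left hh : k⁻¹ * g ∈ centralizer {L.τ} ⊔ M)
    have h2 : M ⊓ centralizer {L.τ} = L.C := le_antisymm (fun g ⟨h1, h2⟩ => by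
      obtain ⟨g', h⟩ := ex g h1
      have h3 := (h.mul rτ).uniq F F' c' (mem_centralizer_singleton_iff.1 h2 ▸ rτ.mul h)
      obtain ⟨x, hx, h'⟩ := C_le' F'.dd8 (P := img L L' a a' L.C) (fun u => ⟨_, L.N_mem u, rl_N F F' u⟩)
        (fun d' h4 hd' => by
          obtain ⟨d, hd, h5⟩ := exists_rl F' F hd'
          replace h5 := h5.symm F' F
          exact ⟨d, F.H.two_mem' (.of_sq hd.sq) (uq (h5.mul rτ) (comm_Z h4 1 ▸ rτ.mul h5)), h5⟩) (hc g' h3)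
      exact uq h' h ▸ hx) (le_inf MC fun g hg => mem_centralizer_singleton_iff.2 (comm_Z hg 1))
    rw [← relIndex_top_right, ← h1, relIndex_sup_right, ← h2, inf_relIndex_right]
  · choose φ hφ using ex
    refine ⟨MulEquiv.ofBijective (MonoidHom.mk' (fun g : M => φ g.1 g.2) fun x y =>
      (hφ _ _).uniq F F' c' ((hφ _ x.2).mul (hφ _ y.2))) ⟨fun x y e => Subtype.ext (uq (hφ _ x.2) ?_), fun g' => ?_⟩⟩
    · exact (show φ x.1 x.2 = φ y.1 y.2 from e) ▸ hφ _ y.2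
    · obtain ⟨g, h⟩ := sur g'
      exact ⟨⟨g, mem h⟩, (hφ _ _).uniq F F' c' h⟩

omit F F' in
theorem iso (H : L.Hyp) (hd : L.Dd (L.N (X6 1))) (c : L.Core) (H' : L'.Hyp) (hd' : L'.Dd (L'.N (X6 1))) (c' : L'.Core)
    (hc : ∀ g', g' * L'.τ = L'.τ * g' → g' ∈ L'.C)
    (hg : ∀ P : Subgroup G', L'.S ≤ P → (∀ d, L'.Dd d → d ∈ P) → P = ⊤) :
    ∃ M : Subgroup G, M.Normal ∧ M.index = L.C.relIndex (centralizer {L.τ}) ∧ Nonempty (M ≃* G') := by
  obtain ⟨L1, S, n, a, T, A, m⟩ := H.exists_apt hd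
  obtain ⟨L1', S', n', a', T', A', m'⟩ := H'.exists_apt hd'
  rw [← S.C, ← S.τ]
  refine exists_normal ⟨T, A, m⟩ ⟨T', A', m'⟩ (by simpa only [Core, S.dd] using c) (by simpa only [Core, S'.dd] using c')
    (by rwa [S'.τ, S'.C]) fun P h1 h2 => hg P ?_ fun d hd => h2 d (S'.dd.2 hd)
  rw [← S'.S]
  rintro _ ⟨u, rfl⟩
  exact h1 u

end Loc

end Cfsg.Agent.Oct
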