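import Cfsg.Agent.Oct.Mod1
import Cfsg.Agent.Oct.Iso
import Cfsg.Agent.Chev.TwistF4F

/-!
The local structure of `²F₄(q)`.
-/

set_option autoImplicit false
set_option linter.unusedSectionVars false
set_option linter.unusedSimpArgs false
set_option maxRecDepth 20000

namespace Cfsg.Agent.Oct

open Cfsg.Lie Cfsg.Agent.Chev Subgroup Fus
open scoped commutatorElement

variable {K : Type*} [Field K] [Tw K]

/-- Transport of the local structure. -/
def Loc.push {G G' : Type*} [Group G] [Group G'] (L : Loc K G) (φ : L.C →* G') (hφ : Function.Injective φ) :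
    Loc K G' where
  N := φ.comp (L.N.codRestrict _ L.N_mem)
  inj := fun _ _ e => L.inj (congrArg Subtype.val (hφ e))
  w := φ ⟨_, L.w_mem⟩
  h := φ.comp (L.h.codRestrict _ L.h_mem)
  C := φ.range
  ww := by rw [← map_mul, ← map_one φ]; exact congrArg φ (Subtype.ext L.ww)
  wN u hu := by
    simp only [MonoidHom.comp_apply, ← map_inv, ← map_mul]; exact congrArg φ (Subtype.ext (L.wN u hu))
  hN ν u := by
    simp only [MonoidHom.comp_apply, ← map_inv φ, ← map_mul φ]; exact congrArg φ (Subtype.ext (L.hN ν u))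
  wh ν := by
    simp only [MonoidHom.comp_apply, ← map_inv φ, ← map_mul φ]; exact congrArg φ (Subtype.ext (L.wh ν))
  rel := by
    simp only [MonoidHom.comp_apply, ← map_inv φ, ← map_mul φ]; exact congrArg φ (Subtype.ext L.rel)
  N_mem u := ⟨_, rfl⟩
  w_mem := ⟨_, rfl⟩
  h_mem ν := ⟨_, rfl⟩
  bru := by
    rintro _ ⟨c, rfl⟩
    simp only [MonoidHom.comp_apply, ← map_mul φ]
    exact (L.bru c c.2).imp (fun ⟨u, ν, e⟩ => ⟨u, ν, congrArg φ (Subtype.ext e)⟩)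
      fun ⟨u, v, ν, e⟩ => ⟨u, v, ν, congrArg φ (Subtype.ext e)⟩
  ti u v ν e := by
    simp only [MonoidHom.comp_apply, ← map_inv φ, ← map_mul φ] at e
    exact L.ti u v ν (congrArg Subtype.val (hφ e))

variable [Fintype K]

local notation "xx" => xC chevF4 K
local notation "Γ" => chevF4.group K

variable (S : ChevSys rootTableF4 (xC chevF4 K))

local notation "TT" => TwistData.T (TwMap.data (F4.tw S θ hθ0))

theorem exists_B {b : Γ} (h1 : b ∈ S.R.Bor) (h2 : b ∈ TT) : ∃ u, ∃ h ∈ S.R.H, h ∈ TT ∧ b = NN S u * h := by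
  obtain ⟨u, a1, a2, h, a3, a4, rfl⟩ := TwistData.mem_Bor_T _ h1 h2
  obtain ⟨u, rfl⟩ := exists_NN S a1 a2
  exact ⟨u, h, a3, a4, rfl⟩

theorem exists_hh {h : Γ} (h1 : h ∈ S.R.H) (h2 : h ∈ TT) (h3 : h * NN S (X4 1) = NN S (X4 1) * h) :
    ∃ ν, h = hh0 S ν := by
  obtain ⟨c, rfl⟩ := S.exists_tor h1
  obtain ⟨c, hc, e⟩ := F4.exists_fixT S θ hθ0 c (by rw [← TwMap.σ_tor]; exact TwistData.σ_eq _ h2)
  rw [← e] at h3 ⊢
  obtain ⟨a0, a1⟩ := (F4.mem_fixT S θ hθ0).1 hc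
  rw [← mul_inv_eq_iff_eq_mul, z_eq, S.tor_conj_oprod _ (by decide)] at h3
  simp only [oprod_cons, oprod_nil, mul_one, Pi.one_apply] at h3
  have a3 := (S.inj₂ rootTableF4.nil_pos (by decide +kernel) (by decide +kernel) (by decide) h3).1
  replace a3 := (congrArg Units.val (F4.chi_eq 47 ![0, 0, 0, 1] (by decide +kernel) c)).symm.trans a3
  obtain ⟨ν, hν⟩ := exists_w8 (c (2 : Fin 4))⁻¹.ne_zero
  rw [Units.mul_inv_eq_one, mul_comm] at hν
  replace a3 : (c (3 : Fin 4) : K) = 1 := by simpa using a3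
  refine ⟨ν, congrArg S.tor (funext fun i : Fin 4 => Units.ext ?_)⟩
  fin_cases i
  · exact a0.trans (by rw [a3, map_one]; rfl)
  · refine a1.trans (hν ▸ ?_)
    change _ = (ν : K) * σ (ν : K)
    rw [map_mul, θσ, ← σσ, θσ, mul_comm]
  · exact hν.symm
  · exact a3

theorem ww_z : ww K * NN S (X4 1) = NN S (X4 1) * ww K := by
  rw [← mul_inv_eq_iff_eq_mul, ww_NN S (by simp only [mem_Qs, UE, and_self])]
  exact congrArg _ (by ext <;> simp only [UE])

theorem N_z (u : U K) : NN S u * NN S (X4 1) = NN S (X4 1) * NN S u := by rw [← map_mul, comm_X4, map_mul]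

theorem bru0 {c : Γ} (h1 : c ∈ TT) (h2 : c * NN S (X4 1) = NN S (X4 1) * c) :
    (∃ u ν, c = NN S u * hh0 S ν) ∨ ∃ u v ν, c = NN S u * ww K * NN S v * hh0 S ν := by
  have hj := (TT).subtype_injective
  have hr := (TT).range_subtype
  have he := ((F4.tw S θ hθ0).data.eJ_bijective _ hj hr).2
  have hP : ∀ g : TT, g.1 * NN S (X4 1) = NN S (X4 1) * g.1 → g ∈ (Ps chevF4 xx {1, 2}).comap (TT).subtype :=
    fun g h => F4.mem_Ps_z (z_eq S ▸ h)
  have hz : ∀ a h, Commute (a * h) (NN S (X4 1)) → Commute a (NN S (X4 1)) → Commute h (NN S (X4 1)) := fun a h e e' => by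
    simpa using e'.inv_left.mul_left e
  obtain ⟨s, hs⟩ := BN.exists_le_cellSubgroup (P := (F4.tw S θ hθ0).data.bn _ hj hr)
    (a := (F4.tw S θ hθ0).data.eJ _ hj hr 0) (b := (F4.tw S θ hθ0).data.eJ _ hj hr 1) (fun s => by
      obtain ⟨a, rfl⟩ := he s
      fin_cases a <;> simp) (M := (Ps chevF4 xx {1, 2}).comap (TT).subtype)
    (comap_mono (S.Bor_eq ▸ Bs_le_Ps _)) (F4.comap_Ps_ne_top S θ hθ0 _ hj hr (by
      unfold ChevalleyDatum.InRootSub; decide +kernel))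
  have hw := (BN.mem_cellSubgroup_singleton.1 (hs (hP ⟨_, ww_T S⟩ (ww_z S)))).resolve_left fun h =>
    one_ne_zero (α := K) (ti0 S (u := X8 1) (mul_mem (mul_mem h (S.R.U_le_Bor (NN_U S _))) (inv_mem h))).2
  refine (BN.mem_cellSubgroup_singleton.1 (hs (hP ⟨c, h1⟩ h2))).imp (fun h => ?_) fun h => ?_
  · obtain ⟨u, h, a1, a2, rfl⟩ := exists_B S h h1
    obtain ⟨ν, rfl⟩ := exists_hh S a1 a2 (hz _ _ h2 (N_z S u))
    exact ⟨u, ν, rfl⟩
  · obtain ⟨b, hb, b', hb', e⟩ := BN.exists_mul_of_mem_cell hw h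
    obtain ⟨u, h, a1, a2, e1⟩ := exists_B S hb b.2
    obtain ⟨v, k, a3, a4, e2⟩ := exists_B S (b := (ww K)⁻¹ * h * ww K * b') (mul_mem (S.R.H_le_Bor (by
      simpa using S.R.conj_mem_H ⟨_, ww_N S⟩⁻¹ a1)) hb')
      (mul_mem (mul_mem (mul_mem (inv_mem (ww_T S)) a2) (ww_T S)) b'.2)
    obtain rfl : c = NN S u * ww K * NN S v * k := by
      rw [mul_assoc, ← e2, show c = b.1 * ww K * b'.1 from congrArg Subtype.val e, show b.1 = _ from e1]
      group
    obtain ⟨ν, rfl⟩ := exists_hh S a3 a4 (hz _ _ h2 (((show Commute _ _ from N_z S u).mul_left (ww_z S)).mul_left (N_z S v)))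
    exact ⟨u, v, ν, rfl⟩

/-- The local structure in `F₄(q)`. -/
noncomputable def loc0 : Loc K Γ where
  N := NN S
  inj := NN_inj S
  w := ww K
  h := hh0 S
  C := TT ⊓ centralizer {NN S (X4 1)}
  ww := ww_sq
  wN _ := ww_NN S
  hN := hh_NN S
  wh := ww_hh S
  rel := rel0 S
  N_mem u := ⟨NN_T S u, mem_centralizer_singleton_iff.2 (N_z S u)⟩
  w_mem := ⟨ww_T S, mem_centralizer_singleton_iff.2 (ww_z S)⟩
  h_mem ν := ⟨hh_T S ν, mem_centralizer_singleton_iff.2 (by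
    rw [← mul_inv_eq_iff_eq_mul, hh_NN]
    exact congrArg _ (by ext <;> simp only [UE]))⟩
  bru c hc := bru0 S hc.1 (mem_centralizer_singleton_iff.1 hc.2)
  ti u v ν e := ti0 S (e ▸ mul_mem (S.R.U_le_Bor (NN_U S v)) (S.R.H_le_Bor (S.tor_mem _)))

theorem TT_le {P : Subgroup Γ} (h1 : ∀ u, NN S u ∈ P) (h2 : ww K ∈ P) (h3 : ∀ t, n1 K * NN S (X1 t) * (n1 K)⁻¹ ∈ P) :
    TT ≤ P := by
  refine TwistData.T_le _ (fun a u hu hf => ?_) fun a u hu hf => ?_
  · obtain ⟨u, rfl⟩ := exists_NN S (S.R.UJ_le_U _ hu) (TwistData.mem_T_of_UJ _ hu hf)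
    exact h1 u
  have := (F4.fix_neg S θ hθ0 a u).1 ⟨(F4.tw S θ hθ0).VJ_eq a ▸ hu, hf⟩
  fin_cases a
  · obtain ⟨t, rfl⟩ := this
    have := h3 (θ t)
    rwa [n1_X1, σθ, (F4.comm S 14 23 (by decide +kernel) _ _).eq] at this
  · obtain ⟨s, t, rfl⟩ := this
    have := mul_mem (mul_mem h2 (h1 (Y8 (θ s) * X8 (θ t)))) (inv_mem h2)
    rwa [ww_Y8, σθ, σθ] at this

/-- The properties of the model. -/
structure Loc.Model {G : Type*} [Group G] (L : Loc K G) (n : G) : Prop where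
  card : ¬ 2 ∣ L.S.index
  cen : ∀ g, g * L.τ = L.τ * g → g ∈ L.C
  n6 : ∀ t, L.Im n (X6 t) (X4 t)
  n2 : ∀ t, L.Im n (X2 t) (X8 t)
  n3 : ∀ t, L.Im n (X3 t) (X7 t)
  gen : ∀ P : Subgroup G, (∀ u, L.N u ∈ P) → L.w ∈ P → (∀ t, n * L.N (X1 t) * n⁻¹ ∈ P) → P = ⊤

theorem exists_model {T' : Type*} [Group T'] (j : T' →* Γ) (hj : Function.Injective j) (hr : j.range = TT) :
    ∃ (L : Loc K T') (n : T'), L.Model n := by
  let φ : (loc0 S).C →* T' :=
    (MonoidHom.ofInjective hj).symm.toMonoidHom.comp (inclusion (hr ▸ inf_le_left : (loc0 S).C ≤ j.range))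
  have hφ : ∀ c, j (φ c) = c := fun c => MonoidHom.apply_ofInjective_symm hj _
  let L := (loc0 S).push φ fun a b e => Subtype.ext (by rw [← hφ, e, hφ])
  have hN : ∀ u, j (L.N u) = NN S u := fun u => hφ _
  obtain ⟨n, hn⟩ := hr.ge (n1_T S)
  have im : ∀ a b, n1 K * NN S a * (n1 K)⁻¹ = NN S b → L.Im n a b := fun a b e =>
    hj (by rw [map_mul, map_mul, map_inv, hN, hN, hn, e])
  refine ⟨L, n, ?_, fun g h => ⟨⟨j g, hr.le ⟨g, rfl⟩, mem_centralizer_singleton_iff.2 ?_⟩, hj (hφ _)⟩,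
    fun t => im _ _ (n1_X6 S t), fun t => im _ _ (n1_X2 S t), fun t => im _ _ (n1_X3 S t), fun P h1 h2 h3 => ?_⟩
  · have h1 := L.S.card_mul_index
    rw [F4.card_T S θ hθ0 rfl j hj hr, Loc.S, ← Nat.card_congr (MonoidHom.ofInjective L.inj).toEquiv, card_U,
      Nat.card_eq_fintype_card, mul_assoc, mul_assoc, mul_assoc, mul_right_inj' (by positivity)] at h1
    obtain ⟨k, -, hk⟩ := FiniteField.card K 2
    have h2 : Even (Fintype.card K) := hk ▸ (Nat.even_pow.2 ⟨even_two, k.ne_zero⟩)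
    have h3 : ∀ i, i ≠ 0 → Even (Fintype.card K ^ i) := fun i hi => Nat.even_pow.2 ⟨h2, hi⟩
    rw [Loc.S, h1, Nat.two_dvd_ne_zero, ← Nat.odd_iff]
    exact (Nat.Even.sub_odd Fintype.card_pos h2 odd_one).mul ((h3 3 (by decide)).add_one.mul
      ((Nat.Even.sub_odd (Nat.one_le_pow _ _ Fintype.card_pos) (h3 4 (by decide)) odd_one).mul (h3 6 (by decide)).add_one))
  · rw [← hN, ← map_mul, ← map_mul]; exact congrArg j h
  · refine eq_top_iff.2 fun g _ => (mem_map_iff_mem hj).1 (TT_le S (P := P.map j) (fun u => ⟨_, h1 u, hN u⟩) ⟨_, h2, hφ _⟩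
      (fun t => ⟨_, h3 t, by rw [map_mul, map_mul, map_inv, hN, hn]⟩) (hr.le ⟨g, rfl⟩))

omit [Tw K] S in
theorem exists_model' {m : ℕ} (hK : Fintype.card K = 2 ^ (2 * m + 1)) :
    ∃ (_ : Tw K) (L : Loc K (twistedF4 K (2 ^ m))) (n : _), L.Model n := by
  obtain ⟨_, S, θ', h1, -, h2⟩ := F4.exists_data hK
  let : Tw K := ⟨(frobenius K 2).comp θ', fun t => by
    simp only [RingHom.comp_apply, frobenius_def, map_pow, h1], inferInstance⟩
  have e : θ' = θ := RingHom.ext fun t => σ_inj (by rw [σθ]; exact h1 t)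
  have key : ∀ φ hφ, φ = θ → (F4.tw S φ hφ).data.T = (F4.tw S θ hθ0).data.T := by rintro _ _ rfl; rfl
  exact ⟨_, exists_model S (inclusion F4.le_group) (inclusion_injective _)
    ((inclusion_range _).trans (h2.trans (key _ _ e)))⟩

namespace Loc.Model

variable {G : Type*} [Group G] [Finite G] {L : Loc K G} {n : G} (M : L.Model n)
include M

theorem hyp : L.Hyp := ⟨sylIn_of_not_dvd_relIndex ((isPGroup_U (K := K)).of_surjective _ L.N.rangeRestrict_surjective)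
  (by rw [relIndex_top_right]; exact M.card), fun g h c hc => mul_mem (mul_mem (M.cen g h) hc) (inv_mem (M.cen g h))⟩

theorem dd6 {t : K} (h : t ≠ 0) : L.Dd (L.N (X6 t)) :=
  (cls6 (L := L) (by simp only [mem_Ws, UE, and_self]) h).symm.dd ((M.n6 1).sym.dd dd_τ)

theorem dd4 {t : K} (h : t ≠ 0) : L.Dd (L.N (X4 t)) := (M.n6 t).dd (M.dd6 h)

theorem dd2 {t : K} (h : t ≠ 0) : L.Dd (L.N (X2 t)) := by
  have := (cj_ω (L := L) (a := X6 t) (by simp only [mem_Qs, UE, and_self])).dd (M.dd6 h)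
  rwa [show ω (X6 t) = X2 t by ext <;> simp only [UE]] at this

theorem dd8 : L.Dd (L.N (X8 1)) := (M.n2 1).dd (M.dd2 one_ne_zero)

theorem core : L.Core := fun P _ h2 h3 => eq_bot_iff_forall _ |>.2 fun g hg => by
  have h4 := h3 g hg _ M.dd8
  obtain ⟨u, ν, rfl⟩ := inB_8 (M.cen g (h3 g hg _ dd_τ)) (u := X8 1) (u' := X8 1) (by rw [h4, mul_inv_cancel_right])
    fun e => one_ne_zero (α := K) e.2
  rw [mul_assoc, h_mul_N, ← mul_assoc, ← mul_assoc, mul_left_inj, ← map_mul, ← map_mul] at h4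
  have := congrArg U.x8 (L.inj h4)
  simp only [UE] at this
  have a1 : σ (ν : K) * (ν : K) ^ 2 = 1 := by grind
  have a2 := congrArg σ a1
  simp only [UE] at a2
  obtain rfl : ν = 1 := Units.ext (σ_inj (by rw [Units.val_one, map_one]; grind))
  exact h2 _ hg (by simpa using two_N u)

theorem eq_top (P : Subgroup G) (h1 : L.S ≤ P) (h2 : ∀ d, L.Dd d → d ∈ P) : P = ⊤ := by
  have h3 : ∀ u, L.N u ∈ P := fun u => h1 ⟨u, rfl⟩
  have h4 : normalClosure {L.τ} ≤ P := (closure_le _).2 fun d hd => h2 d (by simpa [Dd] using Group.mem_conjugatesOfSet_iff.1 hd)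
  have h5 : ∀ {u : U K}, L.Dd (L.N u) → L.N u ∈ normalClosure {L.τ} := fun h =>
    subset_closure (Group.mem_conjugatesOfSet_iff.2 ⟨_, rfl, h⟩)
  have cj : ∀ {x} (g : G), x ∈ normalClosure {L.τ} → g * x * g⁻¹ ∈ normalClosure {L.τ} := fun g h =>
    normalClosure_normal.conj_mem _ h g
  refine M.gen P h3 (C_le' M.dd8 h3 (fun d _ => h2 d) L.w_mem) fun t => h4 (cj _ ?_)
  by_cases h : t = 0
  · simp [h]
  have a5 : L.N (X5 t) ∈ normalClosure {L.τ} := by
    rw [show X5 t = X8 1 * (X2 t * X8 1 * (X2 t)⁻¹) * X6 t * X4 (σ t) by ext <;> simp only [UE]]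
    simp only [map_mul, map_inv]
    exact mul_mem (mul_mem (mul_mem (h5 M.dd8) (cj _ (h5 M.dd8))) (h5 (M.dd6 h))) (h5 (M.dd4 fun e => h (σ_eq_zero.1 e)))
  have a3 := cj L.w a5
  rw [L.wN _ (by simp only [mem_Qs, UE, and_self]), show ω (X5 t) = X3 t by ext <;> simp only [UE]] at a3
  have a7 := cj L.w (M.n3 t ▸ cj n a3)
  rwa [L.wN _ (by simp only [mem_Qs, UE, and_self]), show ω (X7 t) = X1 t by ext <;> simp only [UE]] at a7

theorem iso {G₀ : Type*} [Group G₀] [Finite G₀] {L₀ : Loc K G₀} (H : L₀.Hyp) (hd : L₀.Dd (L₀.N (X6 1))) (c : L₀.Core) :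
    ∃ P : Subgroup G₀, P.Normal ∧ P.index = L₀.C.relIndex (centralizer {L₀.τ}) ∧ Nonempty (P ≃* G) :=
  Loc.iso H hd c M.hyp (M.dd6 one_ne_zero) M.core M.cen M.eq_top

end Loc.Model

end Cfsg.Agent.Oct
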