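import Cfsg.Agent.Oct.Gm2

/-!
An apartment whose stabilisers are the coordinate subgroups.
-/

set_option autoImplicit false
set_option linter.unusedSectionVars false
set_option linter.unusedSimpArgs false
set_option linter.unnecessarySeqFocus false
set_option maxRecDepth 20000

namespace Cfsg.Agent.Oct

open Subgroup Fus
open scoped commutatorElement

variable {K : Type*} [Field K] [Tw K] {G : Type*} [Group G]

theorem rho_zero {ρ : K → K} (h : ∀ a b, ρ (a + b) = ρ a + ρ b) (h1 : ρ 1 = 0)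
    (h2 : ∀ ν, ν ≠ 0 → ∃ t, ∀ b, ρ b = ρ (ν * b) + t * (ν * b)) (b : K) : ρ b = 0 := by
  have h0 := h 0 0
  by_cases e0 : b = 0
  · grind
  by_cases e1 : b + 1 = 0
  · grind
  obtain ⟨t, ht⟩ := h2 b e0
  obtain ⟨s, hs⟩ := h2 _ e1
  have a1 := ht 1
  have a2 := hs 1
  have a3 := ht (b + 1)
  have a4 := hs b
  have a5 := h b 1
  rw [mul_one] at a1 a2
  rw [mul_comm (b + 1)] at a4
  grind

namespace Loc

variable {L : Loc K G} {g x y z n : G} {u v v' p p' P l l' : Subgroup G}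

theorem w_eq (L : Loc K G) : L.w = L.N (X8 1) * (L.w * L.N (X8 1) * L.w⁻¹) * L.N (X8 1) *
    (L.w * L.N (X8 1) * L.w⁻¹) * L.N (X8 1) := by
  have h1 : L.N (X8 1) = L.N (Y8 1) * L.N (Y8 1) := by
    rw [← map_mul]; congr 1; ext <;> simp only [UE]
  have h2 : L.N (X8 1) * L.N (X8 1) = 1 := by
    rw [← map_mul, N_eq_one]; ext <;> simp only [UE]
  have h3 := L.rel
  have h4 : (L.w * L.N (X8 1) * L.w⁻¹) * L.N (X8 1) * (L.w * L.N (X8 1) * L.w⁻¹) =
      (L.N (X8 1))⁻¹ * L.w * L.N (X8 1) := calc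
    _ = (L.N (Y8 1))⁻¹ * (L.w * L.N (X8 1) * L.w⁻¹) * (L.w * L.w) * L.N (Y8 1) := by
      conv_lhs => rw [h3]
      rw [h1]; group
    _ = _ := by rw [h3, L.ww, h1]; group
  calc L.w = L.w * (L.N (X8 1) * L.N (X8 1)) := by rw [h2, mul_one]
    _ = L.N (X8 1) * ((L.N (X8 1))⁻¹ * L.w * L.N (X8 1)) * L.N (X8 1) := by group
    _ = _ := by rw [← h4]; group

variable (L) in
/-- The third line is in standard position. -/
structure St2 (n : G) : Prop extends L.St1 n where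
  w3 : ∀ r, ∃ b ∈ W3, L.Im n (X2 r) b

variable (L) in
/-- The fourth point is in standard position. -/
structure H2 : Prop where
  pt : L.pt (V8.map L.N)
  y6 : ∀ b, Full L.adj (L.N (Y6 b)) (V8.map L.N)

variable (L) in
/-- An apartment whose first vertices are in standard position. -/
structure Ap (a : ℤ → Subgroup G) : Prop where
  cyc : Cyc L.adj a 16
  a0 : a 0 = L.Z
  a1 : a 1 = L.W
  a2 : a 2 = V6.map L.N
  a3 : a 3 = W3.map L.N
  a4 : a 4 = V8.map L.N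
  m1 : a (-1) = L.w • L.W
  m4 : a (-4) = L.w • V8.map L.N

variable (L) in
/-- An apartment in standard position. -/
structure Apt (a : ℤ → Subgroup G) : Prop where
  cyc : Cyc L.adj a 16
  a0 : a 0 = L.Z
  a1 : a 1 = L.W
  refl : ∀ k : ℕ, k ≤ 8 → L.w • a k = a (-k)
  fix : ∀ k : ℕ, 1 ≤ k → k ≤ 8 → ∀ u ∈ Lo k, L.N u • a k = a k

variable [Finite K] [Finite G]

theorem Hyp.exists_st2 (H : L.Hyp) (h6 : L.Dd (L.N (X6 1))) (h8 : L.Dd (L.N (X8 1))) : ∃ n, L.St2 n := by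
  obtain ⟨n, hn⟩ := H.exists_sw h6
  obtain ⟨m, hm, h⟩ := hn.exists_norm' H h8
  exact ⟨m, ⟨H, hm⟩, h⟩

/-- The elements of `U` that fix a vertex and its neighbours. -/
def St1.FS (T : L.St1 n) (h : L.adj v v') : Subgroup (U K) where
  carrier := {u | Full L.adj (L.N u) v}
  mul_mem' ha hb := by simpa only [Set.mem_ofPred_eq, map_mul] using T.full_mul h ha hb
  one_mem' := ⟨two_N 1, by simp, by simp⟩
  inv_mem' ha := by simpa only [Set.mem_ofPred_eq, map_inv] using Full.inv ha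

theorem St1.FS_cj (T : L.St1 n) (h : L.adj v v') {a b : U K} (ha : a ∈ T.FS h) (hb : L.N b • v = v) :
    b * a * b⁻¹ ∈ T.FS h := by
  have := Full.cj ha hb
  rwa [← map_inv, ← map_mul, ← map_mul] at this

theorem St1.comm_of_full (T : L.St1 n) (h : L.adj p l) (hp : L.pt p) (hx : Full L.adj x l) (hz : z ∈ l) :
    x * z = z * x :=
  let ⟨_, h1, h2⟩ := T.cover_line h hp hz
  T.comm_of_fix (T.pt_of h h1 hp) hx.1 (hx.2.2 _ h1) h2

theorem St1.adj_of_le (T : L.St1 n) (h : L.adj p l) (hp : L.pt p) (hP : L.pt P) (hle : P ≤ l) : L.adj l P := by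
  obtain ⟨z, hz, hd⟩ := hP.exists_mem
  obtain ⟨_, h1, h2⟩ := T.cover_line h hp (hle hz)
  rwa [T.ti hP (T.pt_of h h1 hp) hz h2 hd.ne]

namespace St2

variable (T : L.St2 n)
include T

theorem nw_smul : (n * L.w) • L.W = W3.map L.N := by
  have h1 : ∀ a : U K, (∃ r s, a = X2 r * X4 s) → ∃ b, b ∈ W3 ∧ L.Im n a b := by
    rintro _ ⟨r, s, rfl⟩
    obtain ⟨b, hb, e⟩ := T.w3 r
    obtain ⟨c, -, e'⟩ := T.sw.im (X4 s) rfl
    have := T.sw.mapZ e' (by simp only [mem_Zs, UE, and_self])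
    rw [mem_V6] at this
    exact ⟨_, mul_mem hb (by simp only [mem_W3, this, and_self]), e.mul e'⟩
  have h2 := (im_surj h1 (fun b => X2 b.x8 * X4 b.x6) (fun _ _ => ⟨_, _, rfl⟩) fun b b' h h' e => by
    simp only [U.ext_iff, UE, mem_W3] at e h h' ⊢; grind).1
  have h3 : ∀ r s : K, n * L.w * L.N (X6 r * X4 s) * (n * L.w)⁻¹ = n * L.N (X2 r * X4 s) * n⁻¹ := fun r s => by
    rw [show X2 r * X4 s = ω (X6 r * X4 s) by ext <;> simp only [UE], ← L.wN _ (by simp only [mem_Qs, UE, and_self])]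
    group
  ext x
  refine ⟨fun hx => ?_, ?_⟩
  · obtain ⟨x, rfl⟩ := exists_cj (n * L.w) x
    obtain ⟨u, hu, rfl⟩ := conj_mem_smul.1 hx
    obtain ⟨b, hb, e⟩ := h1 _ ⟨u.x6, u.x4, rfl⟩
    rw [eq_X46 hu, ← comm_X4, h3, e]
    exact N_mem_map.2 hb
  · rintro ⟨b, hb, rfl⟩
    obtain ⟨_, ⟨r, s, rfl⟩, e⟩ := h2 b hb
    rw [← e, ← h3, conj_mem_smul]
    exact N_mem_map.2 (by simp only [mem_Ws, UE, and_self])

theorem nw_Z : (n * L.w) • L.Z = V6.map L.N := by rw [mul_smul, C_smul_Z L.w_mem, T.n_smul_Z]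

theorem pt2 : L.pt (V6.map L.N) := ⟨_, T.n_smul_Z.symm⟩

theorem adj12 : L.adj L.W (V6.map L.N) := T.n_smul_Z ▸ T.adj_n

theorem adj23 : L.adj (V6.map L.N) (W3.map L.N) := T.nw_smul ▸ T.nw_Z ▸ adj_ZW.smul _

theorem ne13 : L.W ≠ W3.map L.N := fun e => by
  have : L.τ ∈ W3.map L.N := e ▸ Z_le_W τ_mem
  simpa [mem_W3, UE] using N_mem_map.1 this

omit T [Finite K] [Finite G] in
variable (L) in
/-- The path from the base point to a point on the third line. -/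
def _root_.Cfsg.Agent.Oct.Loc.pa (P : Subgroup G) : ℕ → Subgroup G
  | 0 => L.Z
  | 1 => L.W
  | 2 => V6.map L.N
  | 3 => W3.map L.N
  | _ => P

variable (hP : L.adj P (W3.map L.N)) (hne : P ≠ V6.map L.N)
include hP

theorem ptP : L.pt P := T.pt_of T.adj23 hP.symm T.pt2

theorem fx4 {u : U K} (hu : u ∈ Lo 4) : Fx (L.N u) P (W3.map L.N) :=
  ((T.full_of_comm T.adj23 T.pt2 (two_N u) (by
    rintro _ ⟨v, hv, rfl⟩
    rw [← map_mul, ← map_mul]
    congr 1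
    rw [SetLike.mem_coe, mem_W3] at hv
    simp only [mem_Lo, Nat.one_lt_ofNat, Nat.reduceLT, forall_const] at hu
    ext <;> simp only [UE, hu, hv] <;> grind)).fx hP.symm).symm

theorem FS_W3 {u : U K} (hu : u ∈ W3) : u ∈ T.FS hP := (T.inA_line hP (T.ptP hP) (N_mem_map.2 hu)).1

include hne

theorem ns_pa : NS L.adj (L.pa P) 4 := by
  refine ⟨fun i hi => ?_, fun i hi => ?_⟩
  · obtain rfl | rfl | rfl | rfl : i = 0 ∨ i = 1 ∨ i = 2 ∨ i = 3 := by omega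
    exacts [adj_ZW, T.adj12, T.adj23, hP.symm]
  · obtain rfl | rfl | rfl : i = 0 ∨ i = 1 ∨ i = 2 := by omega
    exacts [fun e => T.n_ne (T.n_smul_Z.trans e.symm), T.ne13, hne.symm]

theorem FS4 {s : K} (h : X4 s ∈ T.FS hP) : s = 0 := by
  obtain ⟨l, h1, h2, -⟩ := T.thick hP (W3.map L.N) (W3.map L.N)
  obtain ⟨f, hf, e, e'⟩ := (T.ns_pa hP hne).snoc h1 fun _ => h2.symm
  by_contra hs
  exact T.L2 hf (e 0 (by omega) ▸ pt_Z) (e 0 (by omega) ▸ mem_Z.2 ⟨s, rfl⟩)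
    (fun e => hs (congrArg U.x4 (N_eq_one.1 e))) (e' ▸ h.2.2 _ h1)

theorem FS4' {a s : K} (h : Y4 a * X4 s ∈ T.FS hP) : a = 0 ∧ s = 0 := by
  have h1 := mul_mem h h
  rw [show Y4 a * X4 s * (Y4 a * X4 s) = X4 (a * σ a) by ext <;> simp only [UE]] at h1
  obtain rfl := mul_σ_eq_zero (T.FS4 hP hne h1)
  exact ⟨rfl, T.FS4 hP hne (by simpa using h)⟩

theorem reg4 (h1 : L.adj P l) (n1 : l ≠ W3.map L.N) (h2 : L.adj P l') (n2 : l' ≠ W3.map L.N) :
    ∃ a s, L.N (Y4 a * X4 s) • l = l' := by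
  obtain ⟨a, h⟩ := T.regP (T.ptP hP) hP (fun a => L.N (Y4 a.1 * X4 a.2))
    (fun a => T.fx4 hP (by simp [mem_Lo, UE])) (fun a b h => by
      rw [← map_inv, ← map_mul, show (Y4 a.1 * X4 a.2)⁻¹ * (Y4 b.1 * X4 b.2) =
        Y4 (a.1 + b.1) * X4 (a.2 + b.2 + a.1 * σ (a.1 + b.1)) by ext <;> simp only [UE] <;> grind] at h
      have := T.FS4' hP hne h
      ext <;> grind) h1 n1 h2 n2
  exact ⟨_, _, h⟩

theorem FS_sq {u : U K} (hu : u ∈ Lo 4) (h : u * u ∈ T.FS hP) : ∃ s, u * X4 s ∈ T.FS hP := by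
  obtain ⟨l, h1, h2, -⟩ := T.thick hP (W3.map L.N) (W3.map L.N)
  have hf := T.fx4 hP hu
  obtain ⟨a, s, e⟩ := T.reg4 hP hne h1 h2 (hf.2.1 ▸ h1.smul (L.N u))
    fun e => h2 (smul_left_cancel _ (e.trans hf.2.2.symm))
  have hc : Y4 a * X4 s ∈ Lo 4 := by simp [mem_Lo, UE]
  have h3 : (Y4 a * X4 s)⁻¹ * u ∈ T.FS hP := T.two_nb hP (T.fx4 hP (mul_mem (inv_mem hc) hu)) h1 h2
    (by rw [map_mul, mul_smul, ← e, map_inv, inv_smul_smul])
  have h4 := mul_mem (mul_mem h (inv_mem h3)) (inv_mem (T.FS_cj hP h3 (T.fx4 hP (inv_mem hc)).2.1))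
  rw [show u * u * ((Y4 a * X4 s)⁻¹ * u)⁻¹ * ((Y4 a * X4 s)⁻¹ * ((Y4 a * X4 s)⁻¹ * u) * (Y4 a * X4 s)⁻¹⁻¹)⁻¹ =
    Y4 a * X4 s * (Y4 a * X4 s) by group,
    show Y4 a * X4 s * (Y4 a * X4 s) = X4 (a * σ a) by ext <;> simp only [UE]] at h4
  obtain rfl := mul_σ_eq_zero (T.FS4 hP hne h4)
  refine ⟨s, ?_⟩
  rwa [show u * X4 s = (Y4 0 * X4 s)⁻¹ * u by ext <;> simp only [UE] <;> grind]

theorem FS_uniq {u : U K} {s s' : K} (h : u * X4 s ∈ T.FS hP) (h' : u * X4 s' ∈ T.FS hP) : s = s' := by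
  have := mul_mem (inv_mem h) h'
  rw [show (u * X4 s)⁻¹ * (u * X4 s') = (X4 s)⁻¹ * X4 s' by group,
    show (X4 s)⁻¹ * X4 s' = X4 (s + s') by ext <;> simp only [UE]] at this
  have := T.FS4 hP hne this
  grind

theorem ex6 (b : K) : ∃ s, Y6 b * X4 s ∈ T.FS hP :=
  T.FS_sq hP hne (by simp [mem_Lo, UE]) (T.FS_W3 hP (by simp only [mem_W3, UE, and_self]))

theorem ex8 (b : K) : ∃ s, Y8 b * X4 s ∈ T.FS hP :=
  T.FS_sq hP hne (by simp [mem_Lo, UE]) (T.FS_W3 hP (by simp only [mem_W3, UE, and_self]))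

omit hP hne in
theorem fx3 (t : K) : Fx (L.N (X3 t)) (W3.map L.N) (V6.map L.N) :=
  ⟨two_N _, N_smul fun u hu => by rw [mem_W3] at hu; simp only [mem_W3, UE, hu, and_self],
    N_smul fun u hu => by rw [mem_V6] at hu; simp only [mem_V6, UE, hu, and_self]⟩

theorem smul_pt (h2 : g • V6.map L.N = V6.map L.N) (h3 : g • W3.map L.N = W3.map L.N) :
    L.adj (g • P) (W3.map L.N) ∧ g • P ≠ V6.map L.N :=
  ⟨h3 ▸ hP.smul g, fun e => hne (smul_left_cancel g (e.trans h2.symm))⟩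

theorem eq_one_of_mem {s : K} (h : L.N (X6 s) ∈ P) : s = 0 := by
  by_contra hs
  exact hne (T.ti (T.ptP hP) T.pt2 h (N_mem_map.2 (by simp only [mem_V6, UE, and_self]))
    fun e => hs (congrArg U.x6 (N_eq_one.1 e)))

theorem exists_kappa (h1 : Y6 1 ∈ T.FS hP) : ∃ κ, V8.map (L.N.comp (ψκ κ)) = P ∧ ∀ b, Y6 b ∈ T.FS hP := by
  choose ρ hρ using T.ex6 hP hne
  have hh : ∀ ν : Kˣ, ∃ t, L.N (X3 t) • P = L.h ν • P ∧ ∀ b, ρ b = ρ (ν * b) + t * (ν * b) := fun ν => by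
    obtain ⟨a1, a2⟩ := T.smul_pt hP hne (g := L.h ν)
      (h_smul fun u hu => by rw [mem_V6] at hu; simp only [mem_V6, UE, hu, and_self])
      (h_smul fun u hu => by rw [mem_W3] at hu; simp only [mem_W3, UE, hu, and_self])
    obtain ⟨t, ht⟩ := T.regL T.pt2 T.adj23.symm (fun t => L.N (X3 t)) T.fx3 (fun a b h => by
      have := T.comm_of_full T.adj23 T.pt2 h (N_mem_map.2 (show X8 1 ∈ W3 by simp only [mem_W3, UE, and_self]))
      rw [← map_inv, ← map_mul, ← map_mul, ← map_mul] at this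
      have := congrArg U.x6 (L.inj this)
      simp only [UE] at this
      grind) hP.symm hne a1.symm a2
    refine ⟨t, ht, fun b => T.FS_uniq a1 a2 (u := Y6 (ν * b)) ?_ ?_⟩
    · have := (full_conj (g := L.h ν)).2 (hρ b)
      rwa [L.hN, show η ν (Y6 b * X4 (ρ b)) = Y6 (ν * b) * X4 (ρ b) by ext <;> simp only [UE]] at this
    · have := (full_conj (g := L.N (X3 t))).2 (hρ (ν * b))
      rwa [← map_inv, ← map_mul, ← map_mul, ht, show X3 t * (Y6 (ν * b) * X4 (ρ (ν * b))) * (X3 t)⁻¹ =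
        Y6 (ν * b) * X4 (ρ (ν * b) + t * (ν * b)) by ext <;> simp only [UE] <;> grind] at this
  have h0 : ∀ b, ρ b = 0 := rho_zero (fun a b => T.FS_uniq hP hne (hρ _) (by
      have := mul_mem (mul_mem (hρ a) (hρ b)) (T.FS_W3 hP (show X6 (a * σ b) ∈ W3 by simp only [mem_W3, UE, and_self]))
      rwa [show Y6 a * X4 (ρ a) * (Y6 b * X4 (ρ b)) * X6 (a * σ b) = Y6 (a + b) * X4 (ρ a + ρ b) by
        ext <;> simp only [UE]] at this)) (T.FS_uniq hP hne (hρ 1) (by simpa using h1))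
    fun ν hν => let ⟨t, _, h⟩ := hh (Units.mk0 ν hν); ⟨t, h⟩
  have hfix : ∀ ν, L.h ν • P = P := fun ν => by
    obtain ⟨t, h2, h3⟩ := hh ν
    have := h3 1
    have := ν.ne_zero
    obtain rfl : t = 0 := by grind
    simpa using h2.symm
  have hle := T.le hP (T.ptP hP)
  obtain ⟨κ, hκ⟩ : ∃ κ, L.N (X6 κ * X8 1) ∈ P := by
    obtain ⟨z, hz, hd⟩ := (T.ptP hP).exists_mem
    obtain ⟨u, hu, rfl⟩ := hle hz
    rw [SetLike.mem_coe, mem_W3] at hu
    have h8 : u.x8 ≠ 0 := fun h8 => by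
      have e : u = X6 u.x6 := by ext <;> simp only [UE, hu, h8]
      rw [e] at hz hd
      exact hd.ne (by simp [T.eq_one_of_mem hP hne hz])
    obtain ⟨ν, hν⟩ := exists_w8 h8
    refine ⟨(η ν u).x6, ?_⟩
    have := conj_mem_of_smul_eq (hfix ν) hz
    rwa [L.hN, show η ν u = X6 (η ν u).x6 * X8 1 by ext <;> simp only [UE, hu, hν]] at this
  have key : ∀ r, L.N (ψκ κ (X8 r)) ∈ P := fun r => by
    by_cases hr : r = 0
    · simp [hr]
    obtain ⟨ν, hν⟩ := exists_w8 (inv_ne_zero hr)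
    have := conj_mem_of_smul_eq (hfix ν) hκ
    obtain rfl : r = σ (ν : K) * ν ^ 2 := by grind
    have a1 := σ_eq (ν : K)
    rwa [L.hN, show η ν (X6 κ * X8 1) = ψκ κ (X8 (σ (ν : K) * ν ^ 2)) by
      ext <;> simp only [ψκ, MonoidHom.mk'_apply, UE, map_mul, map_pow, map_zero, θσ] <;> grind] at this
  refine ⟨κ, le_antisymm ?_ fun x hx => ?_, fun b => by simpa [h0] using hρ b⟩
  · rintro _ ⟨u, hu, rfl⟩
    rw [SetLike.mem_coe, mem_V8] at hu
    rw [show u = X8 u.x8 by ext <;> simp only [UE, hu]]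
    exact key _
  · obtain ⟨u, hu, rfl⟩ := hle hx
    rw [SetLike.mem_coe, mem_W3] at hu
    have := mul_mem hx (key u.x8)
    rw [← map_mul, show u * ψκ κ (X8 u.x8) = X6 (u.x6 + κ * θ u.x8) by
      ext <;> simp only [ψκ, MonoidHom.mk'_apply, UE, map_zero, hu]] at this
    have := T.eq_one_of_mem hP hne this
    refine ⟨X8 u.x8, by simp only [SetLike.mem_coe, mem_V8, UE, and_self], congrArg L.N ?_⟩
    ext <;> simp only [ψκ, MonoidHom.mk'_apply, UE, map_zero, hu] <;> grind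

omit hP hne

theorem exists_h2 : ∃ L' : Loc K G, L.Same L' ∧ L'.H2 := by
  have a1 : L.adj ((n * L.w) • n • L.Z) (W3.map L.N) := T.nw_smul ▸ T.adj_n.symm.smul _
  have a2 : (n * L.w) • n • L.Z ≠ V6.map L.N := fun e => T.n_ne (smul_left_cancel _ (e.trans T.nw_Z.symm))
  obtain ⟨s, hs⟩ := T.ex6 a1 a2 1
  obtain ⟨b1, b2⟩ := T.smul_pt a1 a2 (T.fx3 s).2.2 (T.fx3 s).2.1
  obtain ⟨κ, e, h⟩ := T.exists_kappa b1 b2 (by
    have := (full_conj (g := L.N (X3 s))).2 hs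
    rwa [← map_inv, ← map_mul, ← map_mul, show X3 s * (Y6 1 * X4 s) * (X3 s)⁻¹ = Y6 1 by
      ext <;> simp only [UE]] at this)
  have S := same_twist (L := L) (twDκ κ)
  refine ⟨_, S, S.pt ▸ e.symm ▸ T.ptP b1, fun b => ?_⟩
  rw [S.adj, twist_N, show ψκ κ (Y6 b) = Y6 b by ext <;> simp only [ψκ, MonoidHom.mk'_apply, UE, map_zero]]
  exact e.symm ▸ h b

theorem adj43 (h : L.H2) : L.adj (V8.map L.N) (W3.map L.N) :=
  (T.adj_of_le T.adj23 T.pt2 h.pt (map_mono fun u hu => by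
    rw [mem_V8] at hu; simp only [mem_W3, hu, and_self])).symm

omit T in
theorem ne42 : V8.map L.N ≠ V6.map L.N := fun e => by
  have : L.N (X8 1) ∈ V6.map L.N := e ▸ N_mem_map.2 (by simp only [mem_V8, UE, and_self])
  simpa [mem_V6, UE] using N_mem_map.1 this

omit T in
theorem h_smul8 (ν : Kˣ) : L.h ν • V8.map L.N = V8.map L.N :=
  h_smul fun u hu => by rw [mem_V8] at hu; simp only [mem_V8, UE, hu, and_self]

theorem exists_h3 (h : L.H2) : ∃ L' : Loc K G, L.Same L' ∧ L'.H2 ∧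
    ∀ c, Full L'.adj (L'.N (Y8 c)) (V8.map L'.N) := by
  have hP := T.adj43 h
  choose ρ hρ using T.ex8 hP ne42
  obtain ⟨ρ', hρ', D⟩ : ∃ ρ' : K →+ K, (∀ c, ρ' c = ρ c) ∧ TwD (ψζ ρ') 0 :=
    ⟨AddMonoidHom.mk' ρ fun a b => T.FS_uniq hP ne42 (hρ _) (by
      have := mul_mem (mul_mem (hρ a) (hρ b)) (T.FS_W3 hP (show X8 (a * σ b) ∈ W3 by simp only [mem_W3, UE, and_self]))
      rwa [show Y8 a * X4 (ρ a) * (Y8 b * X4 (ρ b)) * X8 (a * σ b) = Y8 (a + b) * X4 (ρ a + ρ b) by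
        ext <;> simp only [UE]] at this), fun _ => rfl, twDζ _ fun ν c => T.FS_uniq hP ne42 (hρ _) (by
      have := Full.cj (hρ c) (h_smul8 ν)
      rwa [L.hN, show η ν (Y8 c * X4 (ρ c)) = Y8 (σ (ν : K) * c) * X4 (ρ c) by ext <;> simp only [UE]] at this)⟩
  have S := same_twist (L := L) D
  have key : ∀ u : U K, u.y8 = 0 → ψζ ρ' u = u := fun u hu => by
    ext <;> simp only [ψζ, MonoidHom.mk'_apply, UE, map_zero, hu]
  have e : V8.map (L.twist D).N = V8.map L.N := by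
    ext x
    simp only [mem_map, twist_N]
    exact exists_congr fun u => and_congr_right fun hu => by rw [key u (mem_V8.1 hu).2.2.2.2.2.2.2.2.2.2]
  refine ⟨_, S, ⟨?_, fun b => ?_⟩, fun c => ?_⟩
  · rw [e, S.pt]; exact h.pt
  · rw [e, S.adj, twist_N, key _ rfl]; exact h.y6 b
  · rw [e, S.adj, twist_N, show ψζ ρ' (Y8 c) = Y8 c * X4 (ρ c) by
      ext <;> simp only [ψζ, MonoidHom.mk'_apply, UE, hρ']]
    exact hρ c

theorem exists_ap (h : L.H2) : ∃ a, L.Ap a := by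
  have hP := T.adj43 h
  have h1 := T.ns_pa hP ne42
  have h2 := (h1.map (z := (L.w • ·)) (fun _ _ h => h.smul _) fun _ _ _ _ _ e => smul_left_cancel _ e).rev
    fun _ _ => adj.symm
  have e : (fun i => L.w • L.pa (V8.map L.N) (4 - i)) 4 = L.pa (V8.map L.N) 0 := C_smul_Z L.w_mem
  obtain ⟨l, l1, l2, -⟩ := T.thick hP (W3.map L.N) (W3.map L.N)
  obtain ⟨f, hf, f1, -⟩ := (h2.cat h1 e fun _ _ => w_smul_ne).snoc (y := l) l1 fun _ => l2.symm
  obtain ⟨c, hc, c1⟩ := T.geo.exists_cyc T.diam hf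
  have k : ∀ i : ℕ, i ≤ 8 → c i = _ := fun i hi => (c1 i (by omega)).trans (f1 i hi)
  exact ⟨fun i => c (i + 4), ⟨fun i => by rw [add_right_comm, hc.per], fun i => by
    rw [add_right_comm]; exact hc.wk _, fun i => by rw [add_right_comm]; exact hc.ns _⟩,
    by exact (k 4 (by omega)).trans (C_smul_Z L.w_mem), by exact k 5 (by omega), by exact k 6 (by omega),
    by exact k 7 (by omega), by exact k 8 (by omega), by exact k 3 (by omega), by exact k 0 (by omega)⟩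

end St2

end Loc

end Cfsg.Agent.Oct
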