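import Cfsg.Agent.Oct.Apt

/-!
An apartment whose stabilisers are the coordinate subgroups, continued.
-/

set_option autoImplicit false
set_option linter.unusedSectionVars false
set_option linter.unusedSimpArgs false
set_option linter.unnecessarySeqFocus false
set_option maxRecDepth 20000

namespace Cfsg.Agent.Oct

open Subgroup Fus
open scoped commutatorElement

variable {K : Type*} [Field K] [Tw K] {G : Type*} [Group G]

namespace Loc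

variable {L : Loc K G} {g x y z n : G} {u v v' p p' P l l' : Subgroup G} {a : ℤ → Subgroup G}

theorem ns_smul {f : ℕ → Subgroup G} {k : ℕ} (h : NS L.adj f k) (g : G) : NS L.adj (fun i => g • f i) k :=
  h.map (z := (g • ·)) (fun _ _ h => h.smul g) fun _ _ _ _ _ e => smul_left_cancel g e

theorem cyc_smul (h : Cyc L.adj a 16) (g : G) : Cyc L.adj (fun i => g • a i) 16 :=
  ⟨fun i => by rw [h.per], fun i => (h.wk i).smul g, fun i e => h.ns i (smul_left_cancel g e)⟩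

theorem h_mul_w (ν : Kˣ) : L.h ν * L.w = L.w * (L.h ν)⁻¹ := by
  have := L.wh ν⁻¹
  rw [map_inv, inv_inv] at this
  exact (mul_inv_eq_iff_eq_mul.1 this).symm

variable [Finite K] [Finite G]

theorem St1.refl (T : L.St1 n) (hc : Cyc L.adj a 16) (h0 : g • a 0 = a 0) (h1 : g • a 1 = a (-1))
    (h8 : g • a 8 = a 8) (k : ℕ) (hk : k ≤ 8) : g • a k = a (-k) := by
  rcases k with _ | k
  · exact h0
  have := (T.geo.uq (by omega) (ns_smul (hc.fw 1 7) g) (hc.bw (fun _ _ => adj.symm) (-1) 7) (by simpa using h1)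
    (by simpa [h8] using hc.per (-8))).2 k (by omega)
  push_cast
  rwa [add_comm, show -1 - (k : ℤ) = -(k + 1) by ring] at this

theorem St1.fix' (T : L.St1 n) (hc : Cyc L.adj a 16) {i j k : ℤ} (h0 : g • a i = a i) (h1 : g • a j = a j)
    (e1 : i ≤ k) (e2 : k ≤ j) (e3 : j ≤ i + 7) : g • a k = a k := by
  have := T.fix (k := (j - i).toNat) (by omega) (hc.fw i _) (by simpa using h0)
    (by rwa [show i + (j - i).toNat = j by omega]) (k - i).toNat (by omega)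
  rwa [show i + (k - i).toNat = k by omega] at this

theorem St1.bi5' (T : L.St1 n) {r : K} (hr : r ≠ 0) : L.BI (L.N (X5 r)) L.W :=
  ⟨⟨_, adj_ZW.symm, pt_Z⟩, T.inY_W.2 ⟨_, by simp only [mem_Ys, UE, and_self], rfl⟩,
    fun h => T.H.not_dd5 ((cls5 (by simp only [mem_Ys, UE, and_self]) hr).dd h),
    fun e => hr (congrArg U.x5 (N_eq_one.1 e))⟩

namespace St2

variable (T : L.St2 n) (A : L.Ap a) (h : L.H2)
include T A h

theorem fix8 (hx : x ∈ V8.map L.N) : x • a 8 = a 8 :=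
  T.L1 h.pt hx ⟨4, le_rfl, _, (A.cyc.fw 4 4).wk, A.a4, rfl⟩

theorem fix8' (hx : x ∈ L.w • V8.map L.N) : x • a 8 = a 8 :=
  T.L1 (h.pt.smul _) hx ⟨4, le_rfl, _, (A.cyc.bw (fun _ _ => adj.symm) (-4) 4).wk, by simpa using A.m4,
    by simpa using (A.cyc.per (-8)).symm⟩

omit T A h in
theorem x0_mem (ν : Kˣ) : L.h ν * (L.w * L.N (X8 1) * L.w⁻¹) * (L.h ν)⁻¹ ∈ L.w • V8.map L.N := by
  have := conj_mem_smul (g := L.w) |>.2 (conj_mem_of_smul_eq (h_smul8 (L := L) ν⁻¹)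
    (N_mem_map.2 (show X8 1 ∈ V8 by simp only [mem_V8, UE, and_self])))
  convert this using 1
  rw [← mul_assoc, ← mul_assoc, h_mul_w, mul_assoc _ L.w⁻¹, ← mul_inv_rev, h_mul_w, map_inv]; group

theorem reflν (ν : Kˣ) (k : ℕ) (hk : k ≤ 8) : (L.h ν * L.w * (L.h ν)⁻¹) • a k = a (-k) := by
  refine T.refl A.cyc ?_ ?_ ?_ k hk
  · rw [A.a0, C_smul_Z (mul_mem (mul_mem (L.h_mem _) L.w_mem) (inv_mem (L.h_mem _)))]
  · rw [A.a1, A.m1, h_mul_w, ← map_inv, mul_smul, mul_smul, h_smul_W, h_smul_W]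
  · have h1 := T.fix8 A h (conj_mem_of_smul_eq (h_smul8 (L := L) ν)
      (N_mem_map.2 (show X8 1 ∈ V8 by simp only [mem_V8, UE, and_self])))
    have h2 := T.fix8' A h (x0_mem ν)
    generalize hx : L.w * L.N (X8 1) * L.w⁻¹ = x at h2
    rw [L.w_eq, hx, show L.h ν * (L.N (X8 1) * x * L.N (X8 1) * x * L.N (X8 1)) * (L.h ν)⁻¹ =
      L.h ν * L.N (X8 1) * (L.h ν)⁻¹ * (L.h ν * x * (L.h ν)⁻¹ * (L.h ν * L.N (X8 1) * (L.h ν)⁻¹ *
      (L.h ν * x * (L.h ν)⁻¹ * (L.h ν * L.N (X8 1) * (L.h ν)⁻¹)))) by group]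
    rw [mul_smul _ (_ * _), mul_smul _ (_ * _), mul_smul _ (_ * _), mul_smul _ (_ * _), h1, h2, h1, h2, h1]

variable (h8 : ∀ c, Full L.adj (L.N (Y8 c)) (V8.map L.N))
include h8

theorem y8_fix (c : K) : L.N (Y8 c) • a 8 = a 8 := by
  by_cases hc : c = 0
  · simp [hc]
  obtain ⟨ν, rfl⟩ : ∃ ν : Kˣ, c = σ (ν : K) := ⟨Units.mk0 (θ c) ((map_ne_zero _).2 hc), (σθ c).symm⟩
  have r := T.reflν A h ν
  have e1 := T.fix8' A h (x0_mem ν)
  have e2 : L.h ν * L.N (Y8 1) * (L.h ν)⁻¹ = L.N (Y8 (σ (ν : K))) := by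
    rw [L.hN]; congr 1; ext <;> simp only [UE]
  have e5 : L.N (Y8 (σ (ν : K))) • a 5 = a 5 := (h8 _).2.2 _ (A.a4 ▸ A.cyc.wk 4)
  have e0 : L.N (Y8 (σ (ν : K))) • a 0 = a 0 := by rw [A.a0, C_smul_Z (L.N_mem _)]
  have e1' : L.N (Y8 (σ (ν : K))) • a 1 = a 1 := by rw [A.a1, N_smul_W]
  rw [L.rel, show L.h ν * ((L.N (Y8 1))⁻¹ * L.w * L.N (Y8 1)) * (L.h ν)⁻¹ =
    (L.h ν * L.N (Y8 1) * (L.h ν)⁻¹)⁻¹ * (L.h ν * L.w * (L.h ν)⁻¹ * (L.h ν * L.N (Y8 1) * (L.h ν)⁻¹)) by group,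
    e2, mul_smul, mul_smul, inv_smul_eq_iff] at e1
  generalize L.h ν * L.w * (L.h ν)⁻¹ = ω at r e1
  generalize L.N (Y8 (σ (ν : K))) = u at *
  have p1 := ns_smul (A.cyc.fw 5 3) u
  have p2 := ns_smul (ns_smul (A.cyc.bw (fun _ _ => adj.symm) 8 3) u) ω
  have := (T.geo.uq (by omega) (p1.cat p2 e1.symm fun _ _ e => ?_) (A.cyc.fw 5 6) e5 ?_).2 3 (by omega)
  · exact this
  · have p3 := ns_smul (A.cyc.fw 0 7) u
    have := (T.geo.uq (by omega) p3 (ns_smul p3 ω) (by simpa [e0] using (r 0 (by omega)).symm) e).2 1 (by omega)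
    refine A.cyc.ns (-1) ?_
    have h1 := r 1 (by omega)
    simp only [Nat.cast_one, zero_add, e1'] at this h1
    exact h1.symm.trans this.symm
  · change ω • u • a 5 = a (-5 + 16)
    rw [e5]
    exact (r 5 (by omega)).trans (A.cyc.per (-5)).symm

set_option maxHeartbeats 1600000 in
theorem exists_apt' : ∃ a, L.Apt a ∧ L.N (X8 1) ∈ a 4 := by
  have hP := T.adj43 h
  have N0 : ∀ u, L.N u • a 0 = a 0 := fun u => by rw [A.a0, C_smul_Z (L.N_mem _)]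
  have N1 : ∀ u, L.N u • a 1 = a 1 := fun u => by rw [A.a1, N_smul_W]
  have a45 : L.adj (V8.map L.N) (a 5) := A.a4 ▸ A.cyc.wk 4
  have a65 : L.adj (a 6) (a 5) := (A.cyc.wk 5).symm
  have F4 : ∀ {u}, u ∈ T.FS hP → L.N u • a 5 = a 5 := fun h => h.2.2 _ a45
  have F6 : ∀ {u}, u ∈ T.FS a65 → L.N u • a 7 = a 7 := fun h => h.2.2 _ (A.cyc.wk 6)
  have c4 : ∀ {u v}, u ∈ T.FS hP → v ∈ Lo 4 → ⁅u, v⁆ ∈ T.FS hP := fun {u v} hu hv => by
    have := mul_mem hu (T.FS_cj hP (inv_mem hu) (T.fx4 hP hv).2.1)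
    rwa [← mul_assoc, ← mul_assoc] at this
  have f5 : ∀ r, X5 r ∈ T.FS hP := fun r => by
    have := c4 (h.y6 r) (show Y4 1 ∈ Lo 4 by simp [mem_Lo, UE])
    rwa [show ⁅Y6 r, Y4 (1 : K)⁆ = X5 r by ext <;> simp only [commutatorElement_def, UE]] at this
  have f7 : ∀ r, X7 r ∈ T.FS hP := fun r => by
    have := c4 (h8 r) (show Y6 1 ∈ Lo 4 by simp [mem_Lo, UE])
    rwa [show ⁅Y8 r, Y6 (1 : K)⁆ = X7 r by ext <;> simp only [commutatorElement_def, UE]] at this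
  have y8 : ∀ c (k : ℤ), 1 ≤ k → k ≤ 8 → L.N (Y8 c) • a k = a k := fun c k e1 e2 =>
    T.fix' A.cyc (N1 _) (T.y8_fix A h h8 c) e1 e2 le_rfl
  have x8 : ∀ c (k : ℤ), 1 ≤ k → k ≤ 8 → L.N (X8 c) • a k = a k := fun c k e1 e2 =>
    T.fix' A.cyc (N1 _) (T.fix8 A h (N_mem_map.2 (by simp only [mem_V8, UE, and_self]))) e1 e2 le_rfl
  have x6 : ∀ s, L.N (X6 s) • a 6 = a 6 := fun s => T.L1 T.pt2 (N_mem_map.2 (by simp only [mem_V6, UE, and_self]))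
    ⟨4, le_rfl, _, (A.cyc.fw 2 4).wk, A.a2, rfl⟩
  have n46 : a 6 ≠ V8.map L.N := A.a4 ▸ (A.cyc.ns 4).symm
  choose μ hμ using fun b => T.regL h.pt a45.symm (fun r => L.N (X5 r))
    (fun r => ⟨two_N _, F4 (f5 r), (f5 r).2.1⟩) (fun r s e => by
      rw [← map_inv, ← map_mul, show (X5 r)⁻¹ * X5 s = X5 (r + s) by ext <;> simp only [UE]] at e
      by_contra hr
      exact T.YM (A.cyc.fw 1 5) (A.a1 ▸ T.bi5' (r := r + s) (by grind)) (e.2.2 _ a65.symm)) a65.symm n46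
    (F4 (h.y6 b) ▸ a65.symm.smul (L.N (Y6 b))) fun e => n46 (smul_left_cancel _ (e.trans (h.y6 b).2.1.symm))
  have e6 : ∀ b, L.N ((X5 (μ b))⁻¹ * Y6 b) • a 6 = a 6 := fun b => by
    rw [map_mul, mul_smul, ← hμ, map_inv, inv_smul_smul]
  have f76 : ∀ b c, X7 (b * c) * X6 (μ b * c) ∈ T.FS a65 := fun b c => by
    have h1 : Y8 c ∈ T.FS a65 := T.two_nb a65 ⟨two_N _, y8 c 6 (by omega) (by omega), y8 c 5 (by omega) (by omega)⟩
      (A.cyc.wk 6) (A.cyc.ns 5).symm (y8 c 7 (by omega) (by omega))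
    have := mul_mem h1 (T.FS_cj a65 (inv_mem h1) (e6 b))
    rwa [show Y8 c * ((X5 (μ b))⁻¹ * Y6 b * (Y8 c)⁻¹ * ((X5 (μ b))⁻¹ * Y6 b)⁻¹) = X7 (b * c) * X6 (μ b * c) by
      ext <;> simp only [UE] <;> grind] at this
  have lin : ∀ b, μ b = μ 1 * b := fun b => by
    have := mul_mem (f76 b 1) (f76 1 b)
    rw [show X7 (b * 1) * X6 (μ b * 1) * (X7 (1 * b) * X6 (μ 1 * b)) = X6 (μ b + μ 1 * b) by
      ext <;> simp only [UE]] at this
    by_contra hb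
    exact T.L2 (A.cyc.fw 2 5) (A.a2 ▸ T.pt2) (A.a2 ▸ N_mem_map.2 (by simp only [mem_V6, UE, and_self]))
      (fun e => hb (by have := congrArg U.x6 (N_eq_one.1 e); simp only [UE] at this; grind)) (F6 this)
  refine ⟨_, ⟨cyc_smul A.cyc (L.N (Y4 (μ 1))), (N0 _).trans A.a0, (N1 _).trans A.a1, fun k hk => ?_,
    fun k e1 e2 u hu => ?_⟩, by
      rw [A.a4, (T.fx4 hP (by simp [mem_Lo, UE])).2.1]
      exact N_mem_map.2 (by simp only [mem_V8, UE, and_self])⟩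
  · rw [smul_smul, w_mul_N ⟨rfl, rfl⟩, show ω (Y4 (μ 1)) = Y4 (μ 1) by ext <;> simp only [UE], mul_smul]
    simpa using T.reflν A h 1 k hk
  rw [← inv_smul_eq_iff, ← map_inv, smul_smul, smul_smul, ← map_mul, ← map_mul]
  obtain rfl | rfl | rfl | rfl | rfl | rfl | rfl | rfl :
    k = 1 ∨ k = 2 ∨ k = 3 ∨ k = 4 ∨ k = 5 ∨ k = 6 ∨ k = 7 ∨ k = 8 := by omega
  all_goals simp only [mem_Lo, Nat.one_lt_ofNat, Nat.reduceLT, forall_const] at hu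
  · exact N1 _
  · exact (T.full_W.2 ⟨_, by simp only [UE, hu], rfl⟩).2.2 _ (A.a1 ▸ A.cyc.wk 1)
  · refine A.a3 ▸ N_smul fun v hv => ?_
    rw [mem_W3] at hv
    simp only [mem_W3, UE, hu, hv]
    grind
  · exact A.a4 ▸ (T.fx4 hP (by simp [mem_Lo, UE, hu])).2.1
  · refine F4 ?_
    rw [show (Y4 (μ 1))⁻¹ * u * Y4 (μ 1) = X5 ((Y4 (μ 1))⁻¹ * u * Y4 (μ 1)).x5 * Y6 u.y6 *
      X6 ((Y4 (μ 1))⁻¹ * u * Y4 (μ 1)).x6 * X7 u.x7 * Y8 u.y8 * X8 u.x8 by ext <;> simp only [UE, hu]]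
    exact mul_mem (mul_mem (mul_mem (mul_mem (mul_mem (f5 _) (h.y6 _))
      (T.FS_W3 hP (by simp only [mem_W3, UE, and_self]))) (f7 _)) (h8 _))
      (T.FS_W3 hP (by simp only [mem_W3, UE, and_self]))
  · rw [show (Y4 (μ 1))⁻¹ * u * Y4 (μ 1) = (X5 (μ u.y6))⁻¹ * Y6 u.y6 * (X6 u.x6 * (X7 (1 * u.x7) * X6 (μ 1 * u.x7) *
      (Y8 u.y8 * X8 u.x8))) by ext <;> simp only [UE, hu, lin u.y6] <;> grind]
    rw [map_mul _ _ (_ * _), map_mul _ _ (_ * _), map_mul _ _ (_ * _), map_mul _ (Y8 _), mul_smul, mul_smul, mul_smul,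
      mul_smul, x8 _ _ (by omega) (by omega), y8 _ _ (by omega) (by omega)]
    exact ((congrArg _ ((congrArg _ (f76 _ _).2.1).trans (x6 _))).trans (e6 _))
  · rw [show (Y4 (μ 1))⁻¹ * u * Y4 (μ 1) = X7 (1 * u.x7) * X6 (μ 1 * u.x7) * (Y8 u.y8 * X8 u.x8) by
      ext <;> simp only [UE, hu] <;> grind]
    rw [map_mul _ _ (_ * _), map_mul _ (Y8 _), mul_smul, mul_smul, x8 _ _ (by omega) (by omega),
      y8 _ _ (by omega) (by omega)]
    exact F6 (f76 _ _)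
  · rw [show (Y4 (μ 1))⁻¹ * u * Y4 (μ 1) = Y8 u.y8 * X8 u.x8 by ext <;> simp only [UE, hu], map_mul, mul_smul,
      x8 _ _ (by omega) (by omega), y8 _ _ (by omega) (by omega)]

end St2

theorem Hyp.exists_apt (H : L.Hyp) (hd : L.Dd (L.N (X6 1))) :
    ∃ L' : Loc K G, L.Same L' ∧ ∃ n a, L'.St1 n ∧ L'.Apt a ∧ L'.N (X8 1) ∈ a 4 := by
  have key : ∀ L' : Loc K G, L.Same L' → L'.H2 → ∃ n, L'.St2 n := fun L' S h => by
    obtain ⟨n, hn⟩ := (S.hyp H).exists_sw (S.dd6 hd)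
    exact (S.hyp H).exists_st2 (S.dd6 hd) (St1.dd_pt ⟨S.hyp H, hn⟩ h.pt
      (N_mem_map.2 (by simp only [mem_V8, UE, and_self])) fun e => one_ne_zero (congrArg U.x8 (N_eq_one.1 e)))
  obtain ⟨L1, S1, h1⟩ := H.exists_dd8 hd
  obtain ⟨n1, T1⟩ := (S1.hyp H).exists_st2 (S1.dd6 hd) h1
  obtain ⟨L2, S2, h2⟩ := T1.exists_h2
  obtain ⟨n2, T2⟩ := key _ (S1.trans S2) h2
  obtain ⟨L3, S3, h3, h8⟩ := T2.exists_h3 h2
  obtain ⟨n3, T3⟩ := key _ ((S1.trans S2).trans S3) h3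
  obtain ⟨a, A⟩ := T3.exists_ap h3
  obtain ⟨a', A'⟩ := T3.exists_apt' A h3 h8
  exact ⟨L3, (S1.trans S2).trans S3, n3, a', T3.toSt1, A'⟩

end Loc

end Cfsg.Agent.Oct
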