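import Cfsg.Agent.Oct.Loc
import Cfsg.Agent.Fus.SylIn

/-!
The local structure inside a finite group: normalisers.
-/

set_option autoImplicit false
set_option linter.unusedSectionVars false
set_option linter.unusedSimpArgs false
set_option maxRecDepth 20000

namespace Cfsg.Agent.Oct

open Subgroup Fus
open scoped commutatorElement

variable {K : Type*} [Field K] [Tw K] {G : Type*} [Group G]

/-- Conjugation of subgroups. -/
@[reducible] def act (G : Type*) [Group G] : MulAction G (Subgroup G) where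
  smul g P := P.comap (MulAut.conj g⁻¹).toMonoidHom
  one_smul P := by
    ext x
    change 1⁻¹ * x * 1⁻¹⁻¹ ∈ P ↔ _
    simp
  mul_smul g k P := by
    ext x
    change (g * k)⁻¹ * x * (g * k)⁻¹⁻¹ ∈ P ↔ k⁻¹ * (g⁻¹ * x * g⁻¹⁻¹) * k⁻¹⁻¹ ∈ P
    simp [mul_assoc]

attribute [scoped instance] act

theorem mem_smul {g x : G} {P : Subgroup G} : x ∈ g • P ↔ g⁻¹ * x * g ∈ P := by
  change g⁻¹ * x * g⁻¹⁻¹ ∈ P ↔ _
  rw [inv_inv]

theorem mem_inv_smul {g x : G} {P : Subgroup G} : x ∈ g⁻¹ • P ↔ g * x * g⁻¹ ∈ P := by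
  rw [mem_smul, inv_inv]

theorem conj_mem_smul {g x : G} {P : Subgroup G} : g * x * g⁻¹ ∈ g • P ↔ x ∈ P := by
  simp [mem_smul, mul_assoc]

theorem smul_le_smul {g : G} {P P' : Subgroup G} (h : P ≤ P') : g • P ≤ g • P' :=
  fun _ hx => mem_smul.2 (h (mem_smul.1 hx))

theorem smul_eq_iff {g : G} {P : Subgroup G} : g • P = P ↔ g ∈ normalizer (P : Set G) := by
  rw [← inv_mem_iff, mem_normalizer_iff, SetLike.ext_iff]
  simp only [mem_smul, inv_inv]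
  exact forall_congr' fun _ => Iff.comm

theorem smul_eq_of_conj [Finite G] {g : G} {P : Subgroup G} (h : ∀ x ∈ P, g * x * g⁻¹ ∈ P) : g • P = P :=
  smul_eq_iff.2 (mem_normalizer_fintype h)

theorem conj_mem_of_smul_eq {g x : G} {P : Subgroup G} (h : g • P = P) (hx : x ∈ P) : g * x * g⁻¹ ∈ P :=
  h ▸ conj_mem_smul.2 hx

theorem smul_eq_of_comm {g : G} {P : Subgroup G} (h : ∀ x ∈ P, g * x = x * g) : g • P = P := by
  rw [eq_comm, ← inv_smul_eq_iff]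
  refine le_antisymm (fun x hx => ?_) fun x hx => by rwa [mem_inv_smul, h x hx, mul_inv_cancel_right]
  rw [mem_inv_smul] at hx
  have := h _ hx
  rw [inv_mul_cancel_right] at this
  rwa [mul_left_cancel this] at hx

theorem conj_smul_eq {g x : G} {P : Subgroup G} : (g * x * g⁻¹) • g • P = g • P ↔ x • P = P := by
  simp [mul_smul]

/-- A `2`-element. -/
def Two (x : G) : Prop := ∃ k : ℕ, x ^ 2 ^ k = 1

theorem Two.conj {x : G} (h : Two x) (g : G) : Two (g * x * g⁻¹) :=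
  let ⟨k, hk⟩ := h; ⟨k, by rw [conj_pow, hk]; simp⟩

theorem two_conj {x g : G} : Two (g * x * g⁻¹) ↔ Two x :=
  ⟨fun h => by simpa [mul_assoc] using h.conj g⁻¹, fun h => h.conj g⟩

theorem Two.of_sq {x : G} (h : x * x = 1) : Two x := ⟨1, by rw [pow_one, pow_two, h]⟩

theorem Two.isPGroup {x : G} (h : Two x) : IsPGroup 2 (zpowers x) := by
  obtain ⟨k, hk⟩ := h
  rintro ⟨_, n, rfl⟩
  refine ⟨k, Subtype.ext ?_⟩
  change (x ^ n) ^ 2 ^ k = 1
  rw [← zpow_natCast, ← zpow_mul, mul_comm, zpow_mul, zpow_natCast, hk, one_zpow]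

theorem mem_Zs_of_comm {u : U K} (h : ∀ v, u * v = v * u) : u ∈ Zs := by
  have a1 := congrArg U.y2 (h (X1 1))
  have a2 := congrArg U.y6 (h (X1 1))
  have a3 := congrArg U.y2 (h (Y8 1))
  have a4 := congrArg U.y6 (h (Y8 1))
  have a5 := congrArg U.x7 (h (Y8 1))
  have a6 := congrArg U.x2 (h (X1 1))
  have a7 := congrArg U.x3 (h (X1 1))
  have a8 := congrArg U.x4 (h (X1 1))
  have a9 := congrArg U.x3 (h (Y8 1))
  have a10 := congrArg U.x6 (h (X8 1))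
  have a11 := congrArg U.x6 (h (Y8 1))
  simp only [UE] at *
  have y8 : u.y8 = 0 := by grind
  have x8 : u.x8 = 0 := by grind
  have x1 : u.x1 = 0 := by grind
  have y2 : u.y2 = 0 := by grind
  have y6 : u.y6 = 0 := by grind
  simp only [UE, y8, x8, x1, y2, y6] at a6 a7 a8 a9 a10 a11
  have x2 : u.x2 = 0 := by grind
  have x7 : u.x7 = 0 := by grind
  simp only [UE, x2, x7] at a8 a10 a11
  rw [mem_Zs]
  grind

theorem mem_Ws_iff {u : U K} : u ∈ Ws ↔ ∀ v : U K, ⁅u, v⁆ ∈ (Zs : Subgroup (U K)) := by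
  refine ⟨fun h v => ?_, fun h => ?_⟩
  · rw [mem_Ws] at h
    simp only [mem_Zs, commutatorElement_def, UE, h]
    grind
  have a := h (X1 1)
  have b := h (Y8 1)
  have c := h (X8 1)
  simp only [mem_Zs, commutatorElement_def, UE] at a b c
  have y8 : u.y8 = 0 := by grind
  have x8 : u.x8 = 0 := by grind
  have x1 : u.x1 = 0 := by grind
  simp only [UE, y8, x8, x1] at a b c
  have y2 : u.y2 = 0 := by grind
  have y6 : u.y6 = 0 := by grind
  simp only [UE, y2, y6] at a b c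
  have x2 : u.x2 = 0 := by grind
  have x7 : u.x7 = 0 := by grind
  simp only [UE, x2, x7] at a b c
  rw [mem_Ws]
  grind

theorem exists_U8 (u : U K) : ∃ q ∈ Qs, u = Y8 u.y8 * X8 u.x8 * q :=
  ⟨(Y8 u.y8 * X8 u.x8)⁻¹ * u, by simp only [mem_Qs, UE]; grind, by group⟩

theorem ω_mem (u : U K) : ω u ∈ Qs := ⟨rfl, rfl⟩

namespace Loc

variable (L : Loc K G)

/-- The central involution. -/
def τ : G := L.N (X4 1)

/-- The Sylow subgroup. -/
def S : Subgroup G := L.N.range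

/-- The base point. -/
def Z : Subgroup G := Zs.map L.N

/-- The base line. -/
def W : Subgroup G := Ws.map L.N

/-- The Borel subgroup of `C`. -/
def InB (c : G) : Prop := ∃ u ν, c = L.N u * L.h ν

/-- The hypotheses on the embedding of `C` in `G`. -/
structure Hyp : Prop where
  syl : SylIn 2 L.S ⊤
  norm : ∀ g, g * L.τ = L.τ * g → ∀ c ∈ L.C, g * c * g⁻¹ ∈ L.C

variable {L}

theorem N_mem_map {P : Subgroup (U K)} {u : U K} : L.N u ∈ P.map L.N ↔ u ∈ P := mem_map_iff_mem L.inj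

theorem τ_sq : L.τ * L.τ = 1 := by
  rw [τ, ← map_mul, show (X4 1 * X4 1 : U K) = 1 by ext <;> simp only [UE], map_one]

theorem N_eq_one {u : U K} : L.N u = 1 ↔ u = 1 := map_eq_one_iff _ L.inj

theorem τ_ne : L.τ ≠ 1 := fun h => one_ne_zero (α := K) (congrArg U.x4 (N_eq_one.1 h))

theorem τ_mem : L.τ ∈ L.Z := N_mem_map.2 (by simp only [mem_Zs, UE, and_self])

theorem mem_Z {x : G} : x ∈ L.Z ↔ ∃ s, x = L.N (X4 s) :=
  ⟨fun ⟨_, h, e⟩ => ⟨_, by rw [← e, ← eq_X4 h]⟩, fun ⟨s, e⟩ => e ▸ N_mem_map.2 (by simp only [mem_Zs, UE, and_self])⟩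

theorem S_le : L.S ≤ L.C := by rintro _ ⟨u, rfl⟩; exact L.N_mem u

theorem h_eq_N {ν : Kˣ} {u : U K} (e : L.h ν = L.N u) : ν = 1 := by
  have := L.hN ν (Y8 1)
  rw [e, ← map_inv, ← map_mul, ← map_mul] at this
  have := congrArg U.y8 (L.inj this)
  simp only [UE] at this
  exact Units.ext (σ_inj (by rw [Units.val_one, map_one]; grind))

theorem h_mul_N (ν : Kˣ) (u : U K) : L.h ν * L.N u = L.N (η ν u) * L.h ν := mul_inv_eq_iff_eq_mul.1 (L.hN ν u)

theorem w_mul_N {u : U K} (h : u ∈ Qs) : L.w * L.N u = L.N (ω u) * L.w := mul_inv_eq_iff_eq_mul.1 (L.wN u h)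

theorem ωω (L : Loc K G) {u : U K} (h : u ∈ Qs) : ω (ω u) = u := L.inj (by
  rw [← L.wN _ (ω_mem u), ← L.wN u h, w_inv]
  calc _ = L.w * L.w * L.N u * (L.w * L.w) := by group
    _ = _ := by simp [L.ww])

theorem N_mul_w {u : U K} (h : u ∈ Qs) : L.N u * L.w = L.w * L.N (ω u) := by
  rw [w_mul_N (ω_mem u), L.ωω h]

theorem InB.two {x : G} (h : L.InB x) (h2 : Two x) : ∃ u, x = L.N u := by
  obtain ⟨u, ν, rfl⟩ := h
  obtain ⟨k, hk⟩ := h2
  have : ∀ n : ℕ, ∃ v, (L.N u * L.h ν) ^ n = L.N v * L.h (ν ^ n) := fun n => by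
    induction n with
    | zero => exact ⟨1, by simp⟩
    | succ n ih =>
      obtain ⟨v, hv⟩ := ih
      exact ⟨v * η (ν ^ n) u, by rw [pow_succ, hv, pow_succ, map_mul, map_mul, ← L.hN]; group⟩
  obtain ⟨v, hv⟩ := this (2 ^ k)
  have h1 : ν ^ 2 ^ k = 1 := h_eq_N (L := L) (u := v⁻¹) (by rw [map_inv, eq_comm, inv_eq_iff_mul_eq_one, ← hv, hk])
  have h2 : ((ν : K) - 1) ^ 2 ^ k = 0 := by
    rw [sub_pow_char_pow, ← Units.val_pow_eq_pow_val, h1]; simp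
  obtain rfl : ν = 1 := Units.ext (sub_eq_zero.1 (pow_eq_zero_iff (by positivity) |>.1 h2))
  exact ⟨u, by simp⟩

theorem conj_cases {c : G} (hc : c ∈ L.C) {u u' : U K} (e : c * L.N u * c⁻¹ = L.N u') :
    L.InB c ∨ ∃ a b ν, b * η ν u * b⁻¹ ∈ Qs ∧ ω (b * η ν u * b⁻¹) = a⁻¹ * u' * a := by
  refine (L.bru c hc).imp_right fun ⟨a, b, ν, hc⟩ => ⟨a, b, ν, ?_⟩
  have : L.w * L.N (b * η ν u * b⁻¹) * L.w⁻¹ = L.N (a⁻¹ * u' * a) := by
    simp only [map_mul, map_inv, ← L.hN, ← e, hc]; group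
  have h1 := L.ti _ _ 1 (by rw [this, map_one L.h, mul_one])
  exact ⟨h1, L.inj (by rw [← L.wN _ h1, this])⟩

theorem inB_W {c : G} (hc : c ∈ L.C) {u u' : U K} (e : c * L.N u * c⁻¹ = L.N u') (hu : u ∈ Ws) (h : u.x6 ≠ 0)
    (hu' : u' ∈ Ws) : L.InB c := by
  refine (conj_cases hc e).resolve_right fun ⟨a, b, ν, _, h2⟩ => h ?_
  have := congrArg U.x2 h2
  rw [mem_Ws] at hu hu'
  simp only [UE, hu, hu'] at this
  have h1 : (ν : K) * σ (ν : K) ≠ 0 := fun e => ν.ne_zero (mul_σ_eq_zero e)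
  grind

theorem inB_Y {c : G} (hc : c ∈ L.C) {u u' : U K} (e : c * L.N u * c⁻¹ = L.N u') (hu : u ∈ Ys) (h : u.x5 ≠ 0)
    (hu' : u' ∈ Ys) : L.InB c := by
  refine (conj_cases hc e).resolve_right fun ⟨a, b, ν, _, h2⟩ => h ?_
  have := congrArg U.x3 h2
  rw [mem_Ys] at hu hu'
  simp only [UE, hu, hu'] at this
  have h1 := ν.ne_zero
  grind

theorem inB_7 {c : G} (hc : c ∈ L.C) (e : c * L.N (X7 1) * c⁻¹ = L.N (X7 1)) : L.InB c := by
  refine (conj_cases hc e).resolve_right fun ⟨a, b, ν, _, h2⟩ => ?_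
  have := congrArg U.x1 h2
  simp only [UE] at this
  have h1 : (ν : K) * σ (ν : K) ≠ 0 := fun e => ν.ne_zero (mul_σ_eq_zero e)
  grind

theorem inB_8 {c : G} (hc : c ∈ L.C) {u u' : U K} (e : c * L.N u * c⁻¹ = L.N u') (h : u ∉ Qs) : L.InB c := by
  refine (conj_cases hc e).resolve_right fun ⟨a, b, ν, h1, _⟩ => h ?_
  simp only [mem_Qs, UE] at h1
  have h2 : σ (ν : K) ≠ 0 := fun e => ν.ne_zero (σ_eq_zero.1 e)
  have h3 := ν.ne_zero
  have y8 : u.y8 = 0 := by grind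
  simp only [y8, UE] at h1
  exact ⟨y8, by grind⟩

theorem conj_Q {c : G} (hc : c ∈ L.C) {u : U K} (hu : u ∈ Qs) : ∃ v ∈ Qs, c * L.N u * c⁻¹ = L.N v := by
  have h1 : ∀ a ν, a * η ν u * a⁻¹ ∈ Qs := fun a ν => by simp only [mem_Qs, UE, hu.1, hu.2]; grind
  rcases L.bru c hc with ⟨a, ν, rfl⟩ | ⟨a, b, ν, rfl⟩
  · exact ⟨_, h1 a ν, by simp only [map_mul, map_inv, ← L.hN]; group⟩
  · refine ⟨a * ω (b * η ν u * b⁻¹) * a⁻¹, by simp only [mem_Qs, UE]; grind, ?_⟩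
    rw [map_mul, map_mul, ← L.wN _ (h1 b ν)]
    simp only [map_mul, map_inv, ← L.hN]; group

theorem mem_Z_of_comm {c : G} (hc : c ∈ L.C) (h : ∀ u, c * L.N u = L.N u * c) : c ∈ L.Z := by
  obtain ⟨u, ν, rfl⟩ := inB_8 hc (u := X8 1) (u' := X8 1) (by rw [h, mul_inv_cancel_right])
    fun e => one_ne_zero (α := K) e.2
  have h1 := h (Y8 1)
  rw [mul_assoc, h_mul_N, ← mul_assoc, ← mul_assoc, mul_left_inj, ← map_mul, ← map_mul] at h1
  have := congrArg U.y8 (L.inj h1)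
  simp only [UE] at this
  obtain rfl : ν = 1 := Units.ext (σ_inj (by rw [Units.val_one, map_one]; grind))
  rw [map_one, mul_one] at h ⊢
  exact N_mem_map.2 (mem_Zs_of_comm fun v => L.inj (by rw [map_mul, map_mul, h]))

theorem smul_map_N {P : Subgroup (U K)} [Finite G] {g : G} (h : ∀ u ∈ P, ∃ v ∈ P, g * L.N u * g⁻¹ = L.N v) :
    g • P.map L.N = P.map L.N := smul_eq_of_conj (by
  rintro _ ⟨u, hu, rfl⟩
  obtain ⟨v, hv, e⟩ := h u hu
  exact ⟨v, hv, e.symm⟩)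

theorem N_smul [Finite G] {P : Subgroup (U K)} {a : U K} (h : ∀ u ∈ P, a * u * a⁻¹ ∈ P) :
    L.N a • P.map L.N = P.map L.N := smul_map_N fun u hu => ⟨_, h u hu, by simp⟩

theorem h_smul [Finite G] {P : Subgroup (U K)} {ν : Kˣ} (h : ∀ u ∈ P, η ν u ∈ P) :
    L.h ν • P.map L.N = P.map L.N := smul_map_N fun u hu => ⟨_, h u hu, L.hN ν u⟩

theorem C_smul_Z {c : G} (hc : c ∈ L.C) : c • L.Z = L.Z := smul_eq_of_comm fun x hx => by
  obtain ⟨s, rfl⟩ := mem_Z.1 hx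
  exact comm_Z hc s

variable [Finite G]

theorem N_smul_W (a : U K) : L.N a • L.W = L.W := N_smul fun u hu => by
  rw [mem_Ws] at hu
  simp only [mem_Ws, UE, hu]
  grind

theorem h_smul_W (ν : Kˣ) : L.h ν • L.W = L.W := h_smul fun u hu => by
  rw [mem_Ws] at hu
  simp only [mem_Ws, UE, hu, and_self]

theorem InB.smul_W {c : G} (h : L.InB c) : c • L.W = L.W := by
  obtain ⟨u, ν, rfl⟩ := h
  rw [mul_smul, h_smul_W, N_smul_W]

theorem inB_of_smul_W {c : G} (hc : c ∈ L.C) (h : c • L.W = L.W) : L.InB c := by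
  have h1 : X6 (1 : K) ∈ Ws := by simp only [mem_Ws, UE, and_self]
  obtain ⟨v, hv, e⟩ := conj_mem_of_smul_eq h (N_mem_map.2 h1)
  exact inB_W hc e.symm h1 one_ne_zero hv

variable [Finite K]

omit [Finite G] in
theorem two_N (u : U K) : Two (L.N u) :=
  let ⟨k, hk⟩ := isPGroup_U u; ⟨k, by rw [← map_pow, hk, map_one]⟩

omit [Finite G] in
theorem C_le {P : Subgroup G} (h1 : ∀ u, L.N u ∈ P) (h2 : ∀ ν, L.h ν * L.w * (L.h ν)⁻¹ ∈ P) : L.C ≤ P := by
  have hw : L.w ∈ P := by simpa using h2 1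
  have hh : ∀ ν, L.h ν ∈ P := fun ν => by
    obtain ⟨μ, rfl⟩ : ∃ μ : Kˣ, ν = μ * μ := ⟨Units.map ((θ : K →+* K).comp θ).toMonoidHom ν, Units.ext (by
      change (ν : K) = θ (θ (ν : K)) * θ (θ (ν : K))
      rw [← pow_two, ← σσ, σθ, σθ])⟩
    have := mul_mem (h2 μ) (inv_mem hw)
    rwa [mul_assoc (L.h μ), mul_assoc (L.h μ), ← map_inv, L.wh, map_inv, inv_inv, ← map_mul] at this
  intro c hc
  rcases L.bru c hc with ⟨a, ν, rfl⟩ | ⟨a, b, ν, rfl⟩
  · exact mul_mem (h1 a) (hh ν)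
  · exact mul_mem (mul_mem (mul_mem (h1 a) hw) (h1 b)) (hh ν)

namespace Hyp

variable (H : L.Hyp)
include H

theorem sylIn {X : Subgroup G} (h : L.S ≤ X) : SylIn 2 L.S X := H.syl.of_le h le_top

theorem two_mem {x : G} (h2 : Two x) (h : x • L.C = L.C) : x ∈ L.C := by
  obtain ⟨g, hg, e⟩ := (H.sylIn (S_le.trans le_normalizer)).exists_conj h2.isPGroup
    ((zpowers_le_of_mem (smul_eq_iff.1 h)))
  rw [← inv_smul_eq_iff.2 (smul_eq_iff.2 hg).symm, mem_inv_smul]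
  exact S_le (e x (mem_zpowers x))

theorem two_mem' {x : G} (h2 : Two x) (h : x * L.τ = L.τ * x) : x ∈ L.C :=
  H.two_mem h2 (smul_eq_of_conj (H.norm x h))

theorem exists_conj {x : G} (h2 : Two x) (hx : x ∈ L.C) : ∃ c ∈ L.C, ∃ u, c * x * c⁻¹ = L.N u := by
  obtain ⟨g, hg, e⟩ := (H.sylIn S_le).exists_conj h2.isPGroup (zpowers_le_of_mem hx)
  obtain ⟨u, hu⟩ := e x (mem_zpowers x)
  exact ⟨g, hg, u, hu.symm⟩

theorem smul_C {g : G} (h : g * L.τ * g⁻¹ ∈ L.Z) : g • L.C = L.C := by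
  obtain ⟨s, hs⟩ := mem_Z.1 h
  have key : ∀ c ∈ L.C, Two c → c ∈ g • L.C := fun c hc h2 => by
    refine mem_smul.2 (H.two_mem' (by simpa using h2.conj g⁻¹) ?_)
    calc _ = g⁻¹ * (c * (g * L.τ * g⁻¹)) * g := by group
      _ = _ := by rw [hs, comm_Z hc, ← hs]; group
  have := C_le (fun u => key _ (L.N_mem u) (two_N u)) fun ν =>
    key _ (mul_mem (mul_mem (L.h_mem ν) L.w_mem) (inv_mem (L.h_mem ν))) ((Two.of_sq L.ww).conj _)
  rw [eq_comm, ← inv_smul_eq_iff]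
  exact smul_eq_of_conj fun x hx => by simpa using mem_smul.1 (this hx)

omit H [Finite K] in
theorem _root_.Cfsg.Agent.Oct.Loc.smul_Z_of_C {g : G} (h : g • L.C = L.C) : g • L.Z = L.Z :=
  smul_eq_of_conj fun x hx => by
    obtain ⟨s, rfl⟩ := mem_Z.1 hx
    refine mem_Z_of_comm (conj_mem_of_smul_eq h (L.N_mem _)) fun u => ?_
    have := comm_Z (mem_smul.1 (h.symm ▸ L.N_mem u)) s
    calc _ = g * (L.N (X4 s) * (g⁻¹ * L.N u * g)) * g⁻¹ := by group
      _ = _ := by rw [← this]; group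

theorem smul_Z {g : G} (h : g * L.τ * g⁻¹ ∈ L.Z) : g • L.Z = L.Z := smul_Z_of_C (H.smul_C h)

theorem smul_C' {g : G} (h : g • L.Z = L.Z) : g • L.C = L.C := H.smul_C (conj_mem_of_smul_eq h τ_mem)

theorem two_mem_Z {x : G} (h2 : Two x) (h : x • L.Z = L.Z) : x ∈ L.C := H.two_mem h2 (H.smul_C' h)

omit H in
theorem _root_.Cfsg.Agent.Oct.Loc.exists_aut {k : G} (h : k • L.S = L.S) :
    ∃ φ : U K ≃* U K, ∀ u, L.N (φ u) = k * L.N u * k⁻¹ := by
  choose φ hφ using fun u => conj_mem_of_smul_eq h (show L.N u ∈ L.S from ⟨u, rfl⟩)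
  have hi : Function.Injective φ := fun a b e => L.inj (by
    have := hφ a
    rw [e, hφ] at this
    simpa using this.symm)
  exact ⟨MulEquiv.ofBijective (MonoidHom.mk' φ fun a b => L.inj (by rw [map_mul, hφ, hφ, hφ, map_mul]; group))
    ⟨hi, Finite.injective_iff_surjective.1 hi⟩, hφ⟩

omit H in
theorem _root_.Cfsg.Agent.Oct.Loc.smul_W_of_S {k : G} (h : k • L.S = L.S) : k • L.W = L.W := by
  obtain ⟨φ, hφ⟩ := exists_aut h
  refine smul_map_N fun u hu => ⟨φ u, mem_Ws_iff.2 fun v => mem_Zs_of_comm fun v' => ?_, (hφ u).symm⟩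
  obtain ⟨v, rfl⟩ := φ.surjective v
  obtain ⟨v', rfl⟩ := φ.surjective v'
  rw [← map_commutatorElement, ← map_mul, ← map_mul, eq_X4 (mem_Ws_iff.1 hu v), comm_X4]

theorem frattini {g : G} (h : g • L.C = L.C) : ∃ c ∈ L.C, (c * g) • L.S = L.S :=
  let ⟨c, hc, e⟩ := (H.sylIn S_le).frattini S_le (smul_eq_iff.1 h)
  ⟨c, hc, smul_eq_iff.2 e⟩

theorem smul_W {g : G} (h : g • L.Z = L.Z) : ∃ c ∈ L.C, g • L.W = c • L.W :=
  let ⟨c, hc, e⟩ := H.frattini (H.smul_C' h)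
  ⟨c⁻¹, inv_mem hc, by rw [eq_inv_smul_iff, ← mul_smul, smul_W_of_S e]⟩

end Hyp

end Loc

end Cfsg.Agent.Oct
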