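import Cfsg.Agent.Oct.U
import Cfsg.Agent.Chev.TwistF4Inv

/-!
A collection process for words in the root elements of `F₄` with polynomial coefficients.
-/

set_option autoImplicit false
set_option linter.unusedSectionVars false
set_option linter.unusedSimpArgs false
set_option maxRecDepth 20000

namespace Cfsg.Agent.Oct

open Cfsg.Lie Cfsg.Agent.Chev

/-- Monomials. -/
abbrev Mo := List ℕ
/-- Polynomials over the field with two elements. -/
abbrev Po := List Mo

/-- Multiply by a variable. -/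
def insN (a : ℕ) : Mo → Mo
  | [] => [a]
  | b :: l => bif Nat.ble a b then a :: b :: l else b :: insN a l

/-- Multiply monomials. -/
def mulM (m m' : Mo) : Mo := m.foldr insN m'

/-- Compare monomials. -/
def ltM : Mo → Mo → Bool
  | _, [] => false
  | [], _ :: _ => true
  | a :: l, b :: l' => bif Nat.beq a b then ltM l l' else Nat.blt a b

/-- Equality of monomials. -/
def eqM : Mo → Mo → Bool
  | [], [] => true
  | _ :: _, [] => false
  | [], _ :: _ => false
  | a :: l, b :: l' => bif Nat.beq a b then eqM l l' else false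

/-- Add a monomial. -/
def addM (m : Mo) : Po → Po
  | [] => [m]
  | n :: p => bif eqM m n then p else bif ltM m n then m :: n :: p else n :: addM m p

/-- Add polynomials. -/
def addP (p q : Po) : Po := p.foldr addM q

/-- Multiply polynomials. -/
def mulP (p q : Po) : Po := p.foldr (fun m acc => q.foldr (fun n acc => addM (mulM m n) acc) acc) []

/-- Powers. -/
def powP (p : Po) : ℕ → Po
  | 0 => [[]]
  | n + 1 => mulP p (powP p n)

/-- The Tits endomorphism on monomials. -/
def sgM (m : Mo) : Mo :=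
  m.foldr (fun a acc => bif Nat.beq (a % 2) 0 then insN (a + 1) acc else insN (a - 1) (insN (a - 1) acc)) []

/-- The Tits endomorphism on polynomials. -/
def sgP (p : Po) : Po := p.foldr (fun m acc => addM (sgM m) acc) []

/-- The position of a positive root. -/
def od (r : ℕ) : ℕ := [1, 21, 3, 20, 22, 8, 23, 15, 19, 0, 2, 14, 4, 18, 6, 12, 16, 9, 5, 7, 10, 13, 17, 11].getD (r - 24) 0

/-- The commutator terms. -/
def swp (l m : ℕ × Po) : List (ℕ × Po) :=
  (chevF4.commTerms m.1 l.1).map fun c =>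
    (c.1, bif Nat.beq (c.2.1.natAbs % 2) 0 then [] else mulP (powP m.2 c.2.2.1) (powP l.2 c.2.2.2))

/-- Multiply a collected word by a letter on the left, and collect. -/
def ins : ℕ → ℕ × Po → List (ℕ × Po) → List (ℕ × Po)
  | 0, l, w => l :: w
  | _ + 1, l, [] => [l]
  | n + 1, l, m :: w =>
    bif Nat.ble 24 l.1 && Nat.blt l.1 48 && Nat.ble 24 m.1 && Nat.blt m.1 48 then
      bif l.2.isEmpty then m :: w else
      bif Nat.beq l.1 m.1 then (l.1, addP l.2 m.2) :: w
      else bif Nat.blt (od m.1) (od l.1) then m :: ins n l ((swp l m).foldr (ins n) w) else l :: m :: w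
    else l :: m :: w

/-- Drop the trivial letters. -/
def drp (w : List (ℕ × Po)) : List (ℕ × Po) := w.filter fun l => !(l.2.isEmpty && Nat.blt l.1 48)

/-- The collected form of a word. -/
def nfL (w : List (ℕ × Po)) : List (ℕ × Po) := drp ((drp w).foldr (ins 60) [])

/-- The word attached to coordinates. -/
def nw {α : Type*} (m a : α → α → α) (s : α → α) (u : U α) : List (ℕ × α) :=
  [(33, u.x1), (24, s u.x1), (34, u.y2), (26, s u.y2), (36, a (m u.y2 (s u.y2)) u.x2), (42, s u.x2), (38, u.x3), (43, s u.x3),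
    (29, u.y4), (41, s u.y4), (44, a (m u.y4 (s u.y4)) u.x4), (47, s u.x4), (39, u.x5), (45, s u.x5),
    (35, u.y6), (31, s u.y6), (40, a (m u.y6 (s u.y6)) u.x6), (46, s u.x6), (37, u.x7), (32, s u.x7),
    (27, u.y8), (25, s u.y8), (28, a (m u.y8 (s u.y8)) u.x8), (30, s u.x8)]

/-- A generic element. -/
def pA : U Po := ⟨[[0]], [[2]], [[4]], [[6]], [[8]], [[10]], [[12]], [[14]], [[16]], [[18]], [[20]], [[22]]⟩
/-- Another generic element. -/
def pB : U Po := ⟨[[24]], [[26]], [[28]], [[30]], [[32]], [[34]], [[36]], [[38]], [[40]], [[42]], [[44]], [[46]]⟩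
/-- Their product. -/
def pM : U Po where
  x1 := [[0], [24]]
  y2 := [[2], [20, 24], [26]]
  x2 := [[2, 21, 25], [2, 27], [4], [8, 24], [14, 25], [20, 24, 27], [22, 24, 25], [28]]
  x3 := [[6], [8, 20, 24], [8, 26], [15, 24], [18, 25], [20, 20, 21, 24, 25], [20, 22, 24, 25], [20, 26, 27], [20, 28], [22, 25, 26], [23, 24, 25], [30]]
  y4 := [[8], [20, 27], [22, 25], [32]]
  x4 := [[8, 21, 26, 26], [8, 23, 24, 24], [8, 33], [10], [12, 20, 24], [12, 26], [14, 18, 25], [14, 20, 20, 21, 24, 25], [14, 20, 22, 24, 25], [14, 20, 26, 27], [14, 20, 28], [14, 22, 25, 26], [14, 23, 24, 25], [14, 30], [16, 24], [18, 20, 21, 24, 25], [18, 21, 25, 26], [18, 22, 24, 25], [18, 26, 27], [18, 28], [19, 20, 24, 24], [19, 24, 26], [20, 20, 20, 21, 21, 24, 24, 25], [20, 20, 21, 21, 24, 25, 26], [20, 21, 23, 24, 24, 25], [20, 21, 24, 30], [20, 21, 26, 26, 27], [20, 21, 26, 28], [20, 22, 22, 24, 24, 25], [20, 27, 33], [20, 31], [21, 22, 25, 26, 26], [21, 23, 24, 25, 26], [21, 26, 30],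 [22, 22, 24, 25, 26], [22, 23, 24, 24, 25], [22, 24, 30], [22, 25, 33], [22, 26, 26, 27], [22, 26, 28], [22, 29], [23, 24, 26, 27], [23, 24, 28], [34]]
  x5 := [[12], [14, 20, 27], [14, 22, 25], [14, 32], [18, 21, 25], [18, 27], [19, 24], [20, 20, 21, 21, 24, 25], [20, 21, 24, 32], [20, 21, 28], [21, 23, 24, 25], [21, 26, 32], [21, 30], [22, 22, 24, 25], [22, 24, 32], [22, 28], [23, 24, 27], [36]]
  y6 := [[14], [20, 21, 24], [21, 26], [22, 24], [38]]
  x6 := [[14, 20, 20, 21, 25], [14, 20, 20, 27], [14, 23, 25], [14, 39], [16], [18, 20, 27], [18, 22, 25], [18, 32], [19, 20, 24], [19, 26], [20, 20, 20, 21, 21, 24, 25], [20, 20, 21, 21, 25, 26], [20, 20, 21, 24, 32], [20, 20, 21, 28], [20, 21, 23, 24, 25], [20, 21, 24, 39], [20, 22, 22, 24, 25], [20, 22, 24, 32], [20, 22, 28], [20, 23, 24, 27], [20, 36], [21, 23, 25, 26], [21, 26, 39], [22, 22, 25, 26], [22, 24, 39], [22, 26, 32], [22, 30], [23, 24, 32], [23, 26, 27], [23, 28], [40]]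
  x7 := [[18], [20, 20, 21, 24], [20, 22, 24], [20, 38], [22, 26], [23, 24], [42]]
  y8 := [[20], [44]]
  x8 := [[20, 45], [22], [46]]

/-- A generic element of `Q`. -/
def pQ : U Po := ⟨[[0]], [[2]], [[4]], [[6]], [[8]], [[10]], [[12]], [[14]], [[16]], [[18]], [], []⟩
/-- Its image under the reflection. -/
def pW : U Po where
  x1 := [[18]]
  y2 := [[14]]
  x2 := [[2, 19], [8, 18], [16]]
  x3 := [[0, 19], [3, 18], [8, 14], [12]]
  y4 := [[8]]
  x4 := [[0, 2, 19], [0, 8, 18], [0, 14, 15], [0, 16], [1, 14, 18], [2, 8, 14], [2, 12], [4, 18], [6, 14], [10]]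
  x5 := [[0, 15], [1, 18], [2, 8], [6]]
  y6 := [[2]]
  x6 := [[0, 8], [1, 14], [4]]
  x7 := [[0]]
  y8 := []
  x8 := []

/-- The action of the reflection on the roots. -/
def wact (s : ℕ) : ℕ := chevF4.reflectRoot 1 (chevF4.reflectRoot 2 (chevF4.reflectRoot 1 (chevF4.reflectRoot 2 s)))

/-- The image of the word under the twisting endomorphism. -/
def sw {α : Type*} (m a : α → α → α) (s : α → α) (u : U α) : List (ℕ × α) :=
  [(24, s u.x1), (33, u.x1), (26, s u.y2), (34, u.y2), (42, s (a (m u.y2 (s u.y2)) u.x2)), (36, u.x2), (43, s u.x3), (38, u.x3), (41, s u.y4), (29, u.y4), (47, s (a (m u.y4 (s u.y4)) u.x4)), (44, u.x4), (45, s u.x5), (39, u.x5), (31, s u.y6), (35, u.y6), (46, s (a (m u.y6 (s u.y6)) u.x6)), (40, u.x6), (32, s u.x7), (37, u.x7), (25, s u.y8), (27, u.y8), (30, s (a (m u.y8 (s u.y8)) u.x8)), (28, u.x8)]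

theorem chk_mul : nfL (nw mulP addP sgP pA ++ nw mulP addP sgP pB) = nw mulP addP sgP pM := by decide +kernel

theorem chk_ω : nfL ((nw mulP addP sgP pQ).map (Prod.map wact id)) = drp (nw mulP addP sgP pW) := by decide +kernel

theorem chk_sw : nfL (sw mulP addP sgP pA) = nw mulP addP sgP pA := by decide +kernel

variable {K : Type*} [Field K] [Tw K] {G : Type*} [Group G] {x : ℕ → K → G} {v : ℕ → K}

variable (v) in
/-- The value of a monomial. -/
def evM (m : Mo) : K := (m.map v).prod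

variable (v) in
/-- The value of a polynomial. -/
def evP (p : Po) : K := (p.map (evM v)).sum

theorem evM_nil : evM v [] = 1 := rfl
theorem evM_cons (a : ℕ) (m : Mo) : evM v (a :: m) = v a * evM v m := by simp [evM]
theorem evP_nil : evP v [] = 0 := rfl
theorem evP_cons (m : Mo) (p : Po) : evP v (m :: p) = evM v m + evP v p := by simp [evP]

theorem evM_insN (a : ℕ) (m : Mo) : evM v (insN a m) = v a * evM v m := by
  induction m with
  | nil => rfl
  | cons b l ih =>
    rw [insN]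
    cases Nat.ble a b <;> simp only [cond_true, cond_false, evM_cons, ih]
    ring

theorem evM_mulM (m n : Mo) : evM v (mulM m n) = evM v m * evM v n := by
  induction m with
  | nil => simp [mulM, evM_nil]
  | cons b l ih => rw [mulM, List.foldr_cons, evM_insN, ← mulM, ih, evM_cons, mul_assoc]

theorem eq_of_eqM : ∀ {m n : Mo}, eqM m n = true → m = n
  | [], [], _ => rfl
  | _ :: _, [], h => by simp [eqM] at h
  | [], _ :: _, h => by simp [eqM] at h
  | a :: l, b :: l', h => by
    rw [eqM] at h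
    cases e : Nat.beq a b <;> rw [e] at h
    · simp at h
    · rw [Nat.eq_of_beq_eq_true e, eq_of_eqM h]

theorem evP_addM (m : Mo) (p : Po) : evP v (addM m p) = evM v m + evP v p := by
  induction p with
  | nil => rfl
  | cons n p ih =>
    rw [addM]
    cases e : eqM m n
    · cases ltM m n <;> simp only [cond_true, cond_false, evP_cons, ih]
      ring
    · rw [eq_of_eqM e, cond_true, evP_cons, CharTwo.add_cancel_left]

theorem evP_addP (p q : Po) : evP v (addP p q) = evP v p + evP v q := by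
  induction p with
  | nil => simp [addP, evP_nil]
  | cons b l ih => rw [addP, List.foldr_cons, evP_addM, ← addP, ih, evP_cons, add_assoc]

theorem evP_mulP (p q : Po) : evP v (mulP p q) = evP v p * evP v q := by
  have key : ∀ (m : Mo) (q acc : Po), evP v (q.foldr (fun n acc => addM (mulM m n) acc) acc) =
      evM v m * evP v q + evP v acc := fun m q acc => by
    induction q with
    | nil => simp [evP_nil]
    | cons n q ih => rw [List.foldr_cons, evP_addM, ih, evM_mulM, evP_cons]; ring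
  induction p with
  | nil => simp [mulP, evP_nil]
  | cons b l ih => rw [mulP, List.foldr_cons, key, ← mulP, ih, evP_cons, add_mul]

theorem evP_powP (p : Po) (n : ℕ) : evP v (powP p n) = evP v p ^ n := by
  induction n with
  | zero => simp [powP, evP_cons, evP_nil, evM_nil]
  | succ n ih => rw [powP, evP_mulP, ih, pow_succ']

variable (x v) in
/-- The value of a word. -/
def evW (w : List (ℕ × Po)) : G := word x (w.map fun l => (l.1, evP v l.2))

theorem evW_cons (l : ℕ × Po) (w : List (ℕ × Po)) : evW x v (l :: w) = x l.1 (evP v l.2) * evW x v w := by simp [evW]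

theorem evW_append (w w' : List (ℕ × Po)) : evW x v (w ++ w') = evW x v w * evW x v w' := by simp [evW, word]

theorem neg_lt : ∀ r < 48, 24 ≤ r → chevF4.neg r < 24 := by decide +kernel

theorem evW_ins (h : IsSt0 chevF4 x) (n : ℕ) (l : ℕ × Po) (w : List (ℕ × Po)) :
    evW x v (ins n l w) = evW x v (l :: w) := by
  induction n generalizing l w with
  | zero => rfl
  | succ n ih =>
    have hf : ∀ u w, evW x v (List.foldr (ins n) w u) = evW x v (u ++ w) := by
      intro u w
      induction u with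
      | nil => rfl
      | cons a u ih' => rw [List.foldr_cons, ih, List.cons_append, evW_cons, evW_cons, ih']
    rcases w with _ | ⟨m, w⟩
    · rfl
    rw [ins]
    cases h1 : (Nat.ble 24 l.1 && Nat.blt l.1 48 && Nat.ble 24 m.1 && Nat.blt m.1 48)
    · rfl
    simp only [Bool.and_eq_true, Nat.ble_eq, Nat.blt_eq] at h1
    obtain ⟨⟨⟨h1, h2⟩, h3⟩, h4⟩ := h1
    rw [cond_true]
    cases h5 : l.2.isEmpty
    swap
    · rw [cond_true, evW_cons l, List.isEmpty_iff.1 h5, evP_nil, h.x_zero h2, one_mul]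
    rw [cond_false]
    cases h6 : Nat.beq l.1 m.1
    swap
    · rw [cond_true, evW_cons, evW_cons, evW_cons, ← mul_assoc, ← Nat.eq_of_beq_eq_true h6, h.add _ h2, evP_addP]
    rw [cond_false]
    cases Nat.blt (od m.1) (od l.1)
    · rfl
    rw [cond_true, evW_cons, ih, evW_cons, hf, evW_append, evW_cons, evW_cons, ← mul_assoc, ← mul_assoc, ← mul_assoc,
      h.comm _ _ h4 h2 (Nat.ne_of_beq_eq_false h6) (by have := neg_lt _ h4 h3; omega)]
    congr 2
    rw [evW, swp, ChevalleyDatum.commWord, List.map_map]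
    refine congrArg _ (List.map_congr_left fun c _ => Prod.ext rfl ?_)
    have e2 : (c.2.1 : K) = ((c.2.1 % 2 : ℤ) : K) := CharP.intCast_eq_intCast_mod K 2
    simp only [Function.comp, CharTwo.neg_eq]
    rcases Int.emod_two_eq_zero_or_one c.2.1 with h7 | h7
    · rw [e2, h7, show c.2.1.natAbs % 2 = 0 by omega]; simp [evP_nil]
    · rw [e2, h7, show c.2.1.natAbs % 2 = 1 by omega]; simp [evP_mulP, evP_powP, Nat.beq]

theorem evW_drp (h : IsSt0 chevF4 x) (w : List (ℕ × Po)) : evW x v (drp w) = evW x v w := by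
  induction w with
  | nil => rfl
  | cons l w ih =>
    rw [drp, List.filter_cons, ← drp]
    split_ifs with h1
    · rw [evW_cons, evW_cons, ih]
    · simp only [Bool.not_eq_true', Bool.not_eq_false, Bool.and_eq_true, Nat.blt_eq, List.isEmpty_iff] at h1
      rw [evW_cons, h1.1, evP_nil, h.x_zero h1.2, one_mul, ih]

theorem evW_nfL (h : IsSt0 chevF4 x) (w : List (ℕ × Po)) : evW x v (nfL w) = evW x v w := by
  rw [nfL, evW_drp h, ← evW_drp h w]
  induction drp w with
  | nil => rfl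
  | cons a w ih => rw [List.foldr_cons, evW_ins h, evW_cons, evW_cons, ih]

/-- The coordinates of two elements. -/
def crd (a b : U K) : ℕ → K
  | 0 => a.x1
  | 1 => a.y2
  | 2 => a.x2
  | 3 => a.x3
  | 4 => a.y4
  | 5 => a.x4
  | 6 => a.x5
  | 7 => a.y6
  | 8 => a.x6
  | 9 => a.x7
  | 10 => a.y8
  | 11 => a.x8
  | 12 => b.x1
  | 13 => b.y2
  | 14 => b.x2
  | 15 => b.x3
  | 16 => b.y4
  | 17 => b.x4
  | 18 => b.x5
  | 19 => b.y6
  | 20 => b.x6
  | 21 => b.x7
  | 22 => b.y8
  | 23 => b.x8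
  | _ => 0

/-- The values of the variables. -/
def vl (a b : U K) (n : ℕ) : K := bif Nat.beq (n % 2) 0 then crd a b (n / 2) else σ (crd a b (n / 2))

theorem vl_eq (a b : U K) : vl a b 0 = a.x1 ∧
    vl a b 1 = σ a.x1 ∧
    vl a b 2 = a.y2 ∧
    vl a b 3 = σ a.y2 ∧
    vl a b 4 = a.x2 ∧
    vl a b 5 = σ a.x2 ∧
    vl a b 6 = a.x3 ∧
    vl a b 7 = σ a.x3 ∧
    vl a b 8 = a.y4 ∧
    vl a b 9 = σ a.y4 ∧
    vl a b 10 = a.x4 ∧
    vl a b 11 = σ a.x4 ∧
    vl a b 12 = a.x5 ∧
    vl a b 13 = σ a.x5 ∧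
    vl a b 14 = a.y6 ∧
    vl a b 15 = σ a.y6 ∧
    vl a b 16 = a.x6 ∧
    vl a b 17 = σ a.x6 ∧
    vl a b 18 = a.x7 ∧
    vl a b 19 = σ a.x7 ∧
    vl a b 20 = a.y8 ∧
    vl a b 21 = σ a.y8 ∧
    vl a b 22 = a.x8 ∧
    vl a b 23 = σ a.x8 ∧
    vl a b 24 = b.x1 ∧
    vl a b 25 = σ b.x1 ∧
    vl a b 26 = b.y2 ∧
    vl a b 27 = σ b.y2 ∧
    vl a b 28 = b.x2 ∧
    vl a b 29 = σ b.x2 ∧
    vl a b 30 = b.x3 ∧
    vl a b 31 = σ b.x3 ∧
    vl a b 32 = b.y4 ∧
    vl a b 33 = σ b.y4 ∧
    vl a b 34 = b.x4 ∧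
    vl a b 35 = σ b.x4 ∧
    vl a b 36 = b.x5 ∧
    vl a b 37 = σ b.x5 ∧
    vl a b 38 = b.y6 ∧
    vl a b 39 = σ b.y6 ∧
    vl a b 40 = b.x6 ∧
    vl a b 41 = σ b.x6 ∧
    vl a b 42 = b.x7 ∧
    vl a b 43 = σ b.x7 ∧
    vl a b 44 = b.y8 ∧
    vl a b 45 = σ b.y8 ∧
    vl a b 46 = b.x8 ∧
    vl a b 47 = σ b.x8 :=
  ⟨rfl, rfl, rfl, rfl, rfl, rfl, rfl, rfl, rfl, rfl, rfl, rfl, rfl, rfl, rfl, rfl, rfl, rfl, rfl, rfl, rfl, rfl, rfl, rfl, rfl, rfl, rfl, rfl, rfl, rfl, rfl, rfl, rfl, rfl, rfl, rfl, rfl, rfl, rfl, rfl, rfl, rfl, rfl, rfl, rfl, rfl, rfl, rfl⟩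

variable {a b : U K}

theorem evM_sgM (m : Mo) : evM (vl a b) (sgM m) = σ (evM (vl a b) m) := by
  induction m with
  | nil => simp [sgM, evM_nil]
  | cons c m ih =>
    rw [sgM, List.foldr_cons, ← sgM, evM_cons, map_mul]
    rcases Nat.mod_two_eq_zero_or_one c with h | h
    · simp only [h, Nat.beq, cond_true, evM_insN, ih, vl, show (c + 1) % 2 = 1 by omega, cond_false,
        show (c + 1) / 2 = c / 2 by omega]
    · simp only [h, Nat.beq, cond_true, evM_insN, ih, vl, show (c - 1) % 2 = 0 by omega, cond_false,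
        show (c - 1) / 2 = c / 2 by omega, σσ]
      ring

theorem evP_sgP (p : Po) : evP (vl a b) (sgP p) = σ (evP (vl a b) p) := by
  induction p with
  | nil => simp [sgP, evP_nil]
  | cons c m ih => rw [sgP, List.foldr_cons, ← sgP, evP_addM, ih, evM_sgM, evP_cons, map_add]

variable (v) in
/-- The value of a tuple. -/
def evU (p : U Po) : U K := ⟨evP v p.x1, evP v p.y2, evP v p.x2, evP v p.x3, evP v p.y4, evP v p.x4, evP v p.x5, evP v p.y6, evP v p.x6, evP v p.x7, evP v p.y8, evP v p.x8⟩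

theorem map_nw (p : U Po) : ((nw mulP addP sgP p).map fun l => (l.1, evP (vl a b) l.2)) =
    nw (· * ·) (· + ·) σ (evU (vl a b) p) := by
  simp only [nw, evU, List.map, evP_mulP, evP_addP, evP_sgP]

theorem evU_A : evU (vl a b) pA = a := by
  ext <;> simp only [evU, pA, evP_cons, evP_nil, evM_cons, evM_nil, vl_eq, mul_one, add_zero]

theorem evU_B : evU (vl a b) pB = b := by
  ext <;> simp only [evU, pB, evP_cons, evP_nil, evM_cons, evM_nil, vl_eq, mul_one, add_zero]

theorem evU_M : evU (vl a b) pM = a * b := by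
  ext <;> simp only [evU, pM, evP_cons, evP_nil, evM_cons, evM_nil, vl_eq, mul_one, add_zero, UE] <;> ring

theorem evU_Q (h : a ∈ Qs) : evU (vl a b) pQ = a := by
  ext <;> simp only [evU, pQ, evP_cons, evP_nil, evM_cons, evM_nil, vl_eq, mul_one, add_zero, (mem_Qs.1 h).1, (mem_Qs.1 h).2]

theorem evU_W : evU (vl a b) pW = ω a := by
  ext <;> simp only [evU, pW, evP_cons, evP_nil, evM_cons, evM_nil, vl_eq, mul_one, add_zero, ω] <;> ring

variable (x) in
/-- The element with given coordinates. -/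
def Nw (u : U K) : G := word x (nw (· * ·) (· + ·) σ u)

variable (h : IsSt0 chevF4 x)
include h

theorem Nw_mul (a b : U K) : Nw x (a * b) = Nw x a * Nw x b := by
  have := evW_nfL (v := vl a b) h (nw mulP addP sgP pA ++ nw mulP addP sgP pB)
  rwa [chk_mul, evW_append, evW, evW, evW, map_nw, map_nw, map_nw, evU_A, evU_B, evU_M] at this

theorem Nw_ω (ha : a ∈ Qs) : word x ((nw (· * ·) (· + ·) σ a).map (Prod.map wact id)) = Nw x (ω a) := by
  have := evW_nfL (v := vl a a) h ((nw mulP addP sgP pQ).map (Prod.map wact id))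
  rw [chk_ω, evW_drp h, evW, evW, map_nw, evU_W] at this
  rw [Nw, this, ← evU_Q (b := a) ha, ← map_nw, evU_Q ha, List.map_map, List.map_map]
  rfl

theorem Nw_sw (a : U K) : word x (sw (· * ·) (· + ·) σ a) = Nw x a := by
  have := evW_nfL (v := vl a a) h (sw mulP addP sgP pA)
  rw [chk_sw, evW, evW, map_nw, evU_A] at this
  rw [Nw, this]
  conv_lhs => rw [← evU_A (a := a) (b := a)]
  simp only [sw, evU, List.map, evP_mulP, evP_addP, evP_sgP]

end Cfsg.Agent.Oct
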