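import Cfsg.Agent.Oct.Apt2

/-!
Coordinates for the octagon.
-/

set_option autoImplicit false
set_option linter.unusedSectionVars false
set_option linter.unusedSimpArgs false
set_option linter.unnecessarySeqFocus false
set_option maxRecDepth 20000

namespace Cfsg.Agent.Oct

open Subgroup Fus
open scoped commutatorElement

variable {K : Type*} [Field K] [Tw K] {G : Type*} [Group G]

/-- The root groups. -/
def fam : ℕ → K × K → U K
  | 1, c => X1 c.1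
  | 2, c => Y2 c.1 * X2 c.2
  | 3, c => X3 c.1
  | 4, c => Y4 c.1 * X4 c.2
  | 5, c => X5 c.1
  | 6, c => Y6 c.1 * X6 c.2
  | 7, c => X7 c.1
  | _, c => Y8 c.1 * X8 c.2

/-- Membership in a root group. -/
def Rt (k : ℕ) (u : U K) : Prop := u ∈ Lo k ∧ (k ≤ 7 → u ∈ Qs ∧ ω u ∈ Lo (8 - k))

theorem cases8 {k : ℕ} (h1 : 1 ≤ k) (h8 : k ≤ 8) :
    k = 1 ∨ k = 2 ∨ k = 3 ∨ k = 4 ∨ k = 5 ∨ k = 6 ∨ k = 7 ∨ k = 8 := by omega

theorem rt_fam {k : ℕ} (h1 : 1 ≤ k) (h8 : k ≤ 8) (b c : K × K) : Rt k ((fam k b)⁻¹ * fam k c) := by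
  obtain rfl | rfl | rfl | rfl | rfl | rfl | rfl | rfl := cases8 h1 h8 <;> simp [Rt, fam, mem_Lo, mem_Qs, UE]

theorem rt_fam' {k : ℕ} (h1 : 1 ≤ k) (h8 : k ≤ 8) (c : K × K) : Rt k (fam k c) := by
  obtain rfl | rfl | rfl | rfl | rfl | rfl | rfl | rfl := cases8 h1 h8 <;> simp [Rt, fam, mem_Lo, mem_Qs, UE]

theorem fam_inj {k : ℕ} (h1 : 1 ≤ k) (h8 : k ≤ 8) {b c : K × K} (h : fam k b = fam k c) :
    b.1 = c.1 ∧ (Even k → b.2 = c.2) := by
  obtain rfl | rfl | rfl | rfl | rfl | rfl | rfl | rfl := cases8 h1 h8 <;>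
    simp only [fam, U.ext_iff, UE, true_and, and_true] at h <;> simp [h] <;>
    exact fun e => absurd e (by decide)

theorem exists_fam {k : ℕ} (h1 : 1 ≤ k) (h8 : k ≤ 8) {u : U K} (h : u ∈ Lo k) :
    ∃ c, (fam k c)⁻¹ * u ∈ Lo (k + 1) := by
  obtain rfl | rfl | rfl | rfl | rfl | rfl | rfl | rfl := cases8 h1 h8 <;>
    simp only [mem_Lo, Nat.one_lt_ofNat, Nat.reduceLT, forall_const] at h
  · exact ⟨(u.x1, 0), by simp [fam, mem_Lo, UE]⟩
  · exact ⟨(u.y2, u.x2), by simp [fam, mem_Lo, UE, h]; grind⟩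
  · exact ⟨(u.x3, 0), by simp [fam, mem_Lo, UE, h]⟩
  · exact ⟨(u.y4, u.x4), by simp [fam, mem_Lo, UE, h]; grind⟩
  · exact ⟨(u.x5, 0), by simp [fam, mem_Lo, UE, h]⟩
  · exact ⟨(u.y6, u.x6), by simp [fam, mem_Lo, UE, h]; grind⟩
  · exact ⟨(u.x7, 0), by simp [fam, mem_Lo, UE, h]⟩
  · exact ⟨(u.y8, u.x8), by simp [fam, mem_Lo, UE, h]; grind⟩

/-- The stabilisers of the vertices of the apartment. -/
def Stb (k : ℤ) (u : U K) : Prop := if 0 ≤ k then u ∈ Lo k.toNat else u ∈ Qs ∧ ω u ∈ Lo (-k).toNat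

theorem Cyc.exists_eq {V : Type*} (k : ℤ) :
    ∃ k' : ℤ, -7 ≤ k' ∧ k' ≤ 8 ∧ ∀ (adj : V → V → Prop) (c : ℤ → V), Cyc adj c 16 → ∀ j, c (k + j) = c (k' + j) :=
  ⟨(k + 7) % 16 - 7, by omega, by omega, fun adj c hc j => by
    have := Function.Periodic.int_mul (f := c) (c := ((16 : ℕ) : ℤ)) hc.per ((k + 7) / 16) ((k + 7) % 16 - 7 + j)
    rw [← this]; congr 1; push_cast; omega⟩

namespace Loc

variable {L : Loc K G} {g x y z n : G} {v v' p p' P l l' : Subgroup G} {a : ℤ → Subgroup G} {u u' : U K}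

variable (L) in
/-- All the data of the non-degenerate case. -/
structure Fin (n : G) (a : ℤ → Subgroup G) : Prop extends L.St1 n, L.Apt a where
  m4 : L.N (X8 1) ∈ a 4

variable (L) in
/-- Vertices. -/
def Vx (v : Subgroup G) : Prop := ∃ v', L.adj v v'

theorem Vx.smul (h : L.Vx v) (g : G) : L.Vx (g • v) := let ⟨_, h⟩ := h; ⟨_, h.smul g⟩

variable [Finite K] [Finite G]

namespace Fin

variable (F : L.Fin n a)
include F

theorem vx (k : ℤ) : L.Vx (a k) := ⟨_, F.cyc.wk k⟩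

theorem N0 (u : U K) : L.N u • a 0 = a 0 := by rw [F.a0, C_smul_Z (L.N_mem _)]

theorem N1 (u : U K) : L.N u • a 1 = a 1 := by rw [F.a1, N_smul_W]

theorem m1 : a (-1) = L.w • L.W := by rw [← F.a1]; exact (F.refl 1 (by omega)).symm

theorem pt_iff (k : ℤ) : L.pt (a k) ↔ Even k := by
  induction k using Int.induction_on with
  | zero => simp [F.a0, pt_Z]
  | succ k ih => have := F.bip (F.cyc.wk k); rw [Int.even_add_one]; tauto
  | pred k ih =>
    have := F.bip (F.cyc.wk (-k - 1))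
    rw [sub_add_cancel] at this
    rw [Int.even_sub_one]; tauto

theorem neg_iff (hu : u ∈ Qs) {k : ℕ} (hk : k ≤ 8) : L.N u • a (-k) = a (-k) ↔ L.N (ω u) • a k = a k := by
  rw [← F.refl k hk, smul_smul, N_mul_w hu, mul_smul, smul_left_cancel_iff]

theorem lo4 (h : L.N u • a 4 = a 4) : u.x1 = 0 ∧ u.y2 = 0 ∧ u.x2 = 0 ∧ u.x3 = 0 :=
  (comm8 (s := 0) one_ne_zero).1 (L.inj (by
    simpa using F.comm_of_fix ((F.pt_iff 4).2 (by decide)) (two_N u) h F.m4))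

theorem triv (h1 : L.N u • a (-1) = a (-1)) (h2 : L.N u • a (-4) = a (-4)) (h3 : L.N u • a 4 = a 4)
    (h4 : L.N u • a 5 = a 5) : u = 1 := by
  have hq := F.mem_Q_of (F.m1 ▸ h1)
  have e1 := F.lo4 h3
  have e2 := F.lo4 ((F.neg_iff hq (k := 4) (by omega)).1 h2)
  simp only [UE, e1] at e2
  obtain ⟨x7, y6, e3, e4⟩ := e2
  simp only [UE, x7, y6] at e3 e4
  have key : ∀ s, L.N (X4 s) • a 5 = a 5 → s = 0 := fun s h => by
    by_contra hs
    exact F.L2 (F.cyc.fw 0 5) ((F.pt_iff 0).2 (by decide)) (F.a0 ▸ mem_Z.2 ⟨s, rfl⟩)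
      (fun e => hs (congrArg U.x4 (N_eq_one.1 e))) h
  have y4 : u.y4 = 0 := mul_σ_eq_zero (key _ (by
    rw [show X4 (u.y4 * σ u.y4) = u * u by ext <;> simp only [UE, e1, x7, y6, e3, e4, hq.1, hq.2], map_mul, mul_smul,
      h4, h4]))
  have e : u = X4 u.x4 := by ext <;> simp only [UE, e1, x7, y6, e3, e4, hq.1, hq.2, y4]
  rw [e, key u.x4 (e ▸ h4), X4_zero]

theorem rt_fix {k : ℕ} (h1 : 1 ≤ k) (h7 : k ≤ 7) (h : Rt k u) {j : ℤ} (e1 : k - 8 ≤ j) (e2 : j ≤ k) :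
    L.N u • a j = a j := by
  rcases le_total j 0 with e | e
  · exact F.fix' F.cyc ((F.neg_iff (h.2 h7).1 (k := 8 - k) (by omega)).2 (F.toApt.fix _ (by omega) (by omega) _
      (h.2 h7).2)) (F.N0 u) (by omega) e (by omega)
  · exact F.fix' F.cyc (F.N0 u) (F.toApt.fix k h1 (by omega) _ h.1) e e2 (by omega)

theorem semi {k : ℕ} (h1 : 1 ≤ k) (h8 : k ≤ 8) (h : Rt k u) (e : L.N u • a (k + 1) = a (k + 1)) : u = 1 := by
  rcases h8.eq_or_lt with rfl | h7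
  · have hq := F.mem_Q_of (F.m1 ▸ F.fix' F.cyc (i := -7) (by rw [← F.cyc.per]; exact e) (F.N0 u) (by omega)
      (by omega) (by omega))
    have := h.1
    simp only [mem_Lo, Nat.one_lt_ofNat, Nat.reduceLT, forall_const] at this
    ext <;> simp only [UE, this, hq.1, hq.2]
  have key : ∀ j : ℤ, k - 8 ≤ j → j ≤ k + 8 → L.N u • a j = a j := fun j e1 e2 => by
    rcases le_or_gt j k with e3 | e3
    · exact F.rt_fix h1 (by omega) h e1 e3
    · refine F.fix' F.cyc e (j := k + 8) ?_ e3 e2 (by omega)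
      have := F.rt_fix h1 (by omega) h le_rfl (by omega)
      rwa [← F.cyc.per, show (k : ℤ) - 8 + (16 : ℕ) = k + 8 by omega] at this
  refine F.triv (key _ (by omega) (by omega)) ?_ (key _ (by omega) (by omega)) (key _ (by omega) (by omega))
  rcases le_total k 4 with e | e
  · exact key _ (by omega) (by omega)
  · rw [← F.cyc.per]; exact key _ (by omega) (by omega)

theorem step {k : ℕ} (h1 : 1 ≤ k) (h8 : k ≤ 8) (h : L.adj (a k) v) (hne : v ≠ a (k - 1)) :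
    ∃ c, L.N (fam k c) • a (k + 1) = v := by
  have a1 : L.adj (a k) (a (k - 1)) := by simpa using (F.cyc.wk (k - 1)).symm
  have n1 : a (k + 1) ≠ a (k - 1) := by
    have := (F.cyc.ns (k - 1)).symm
    rwa [show (k : ℤ) - 1 + 2 = k + 1 by ring] at this
  have hf : ∀ c, Fx (L.N (fam k c)) (a k) (a (k - 1)) := fun c =>
    have := F.toApt.fix k h1 h8 _ (rt_fam' h1 h8 c).1
    ⟨two_N _, this, by
      rcases h1.eq_or_lt with rfl | h2
      · exact F.N0 _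
      · exact F.fix' F.cyc (F.N1 _) this (by omega) (by omega) (by omega)⟩
  have hi : ∀ b c, Full L.adj ((L.N (fam k b))⁻¹ * L.N (fam k c)) (a k) → b.1 = c.1 ∧ (Even k → b.2 = c.2) :=
    fun b c h => fam_inj h1 h8 (inv_mul_eq_one.1 (F.semi h1 h8 (rt_fam h1 h8 b c)
      (by rw [map_mul, map_inv]; exact h.2.2 _ (F.cyc.wk k))))
  by_cases hk : Even k
  · exact F.regP ((F.pt_iff k).2 (by simpa using hk)) a1 _ hf (fun b c h => Prod.ext (hi b c h).1 ((hi b c h).2 hk))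
      (F.cyc.wk k) n1 h hne
  · obtain ⟨c, hc⟩ := F.regL ((F.pt_iff (k - 1)).2 (by simpa [Int.even_sub_one] using hk)) a1
      (fun t => L.N (fam k (t, 0))) (fun _ => hf _) (fun b c h => (hi _ _ h).1) (F.cyc.wk k) n1 h hne
    exact ⟨_, hc⟩

theorem stab {k : ℕ} (h8 : k ≤ 8) (h : L.N u • a k = a k) : u ∈ Lo k := by
  induction k with
  | zero => simp [mem_Lo]
  | succ k ih =>
    rcases k.eq_zero_or_pos with rfl | h1
    · simp [mem_Lo]
    obtain ⟨c, hc⟩ := exists_fam h1 (by omega) (ih (by omega) (F.fix' F.cyc (F.N1 u) h (by omega) (by omega) (by omega)))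
    have := F.toApt.fix (k + 1) (by omega) h8 _ hc
    rw [map_mul, mul_smul, h, map_inv, inv_smul_eq_iff] at this
    simpa [F.semi h1 (by omega) (rt_fam' h1 (by omega) c) this.symm] using hc

theorem stab_iff' {k : ℕ} (h8 : k ≤ 8) : L.N u • a k = a k ↔ u ∈ Lo k :=
  ⟨F.stab h8, fun h => k.eq_zero_or_pos.elim (fun e => e ▸ F.N0 u) fun e => F.toApt.fix k e h8 u h⟩

theorem stab_iff {k : ℤ} (h1 : -7 ≤ k) (h8 : k ≤ 8) : L.N u • a k = a k ↔ Stb k u := by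
  obtain ⟨k, rfl | rfl⟩ := k.eq_nat_or_neg
  · simp [Stb, F.stab_iff' (k := k) (by omega)]
  rcases k.eq_zero_or_pos with rfl | h0
  · simp [Stb, F.N0, mem_Lo]
  rw [Stb, if_neg (by omega), neg_neg, Int.toNat_natCast, ← F.stab_iff' (by omega)]
  refine ⟨fun h => ?_, fun h => (F.neg_iff h.1 (by omega)).2 h.2⟩
  have hq := F.mem_Q_of (F.m1 ▸ F.fix' F.cyc h (F.N0 u) (by omega) (by omega) (by omega))
  exact ⟨hq, (F.neg_iff hq (by omega)).1 h⟩

theorem orbit_eq {k l : ℤ} (h1 : -7 ≤ k) (h2 : k ≤ 8) (h3 : -7 ≤ l) (h4 : l ≤ 8) (h : L.N u • a k = a l) : k = l := by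
  have sy : ∀ u v, L.adj u v → L.adj v u := fun _ _ => adj.symm
  have n1 : ∀ u, L.N u • a (-1) ≠ a 1 := fun u e =>
    F.cyc.ns (-1) (smul_left_cancel _ (e.trans (F.N1 u).symm))
  obtain ⟨k, rfl | rfl⟩ := k.eq_nat_or_neg <;> obtain ⟨l, rfl | rfl⟩ := l.eq_nat_or_neg
  · by_contra e
    have := (F.geo.uq (by omega) (ns_smul (F.cyc.fw 0 k) (L.N u)) (F.cyc.fw 0 l) (F.N0 u) (by simpa using h)).1
    omega
  · have := F.geo.uq (by omega) (ns_smul (F.cyc.fw 0 k) (L.N u)) (F.cyc.bw sy 0 l) (F.N0 u) (by simpa using h)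
    by_contra e
    exact n1 1 (by simpa [F.N1] using (this.2 1 (by omega)).symm)
  · have := F.geo.uq (by omega) (ns_smul (F.cyc.bw sy 0 k) (L.N u)) (F.cyc.fw 0 l) (F.N0 u) (by simpa using h)
    by_contra e
    exact n1 u (this.2 1 (by omega))
  · have := (F.geo.uq (by omega) (ns_smul (F.cyc.bw sy 0 k) (L.N u)) (F.cyc.bw sy 0 l) (F.N0 u) (by simpa using h)).1
    omega

theorem nb' {k : ℤ} (h1 : -7 ≤ k) (h8 : k ≤ 8) (h : L.adj (a k) v) :
    ∃ u, L.N u • a k = a k ∧ (v = L.N u • a (k + 1) ∨ v = L.N u • a (k - 1)) := by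
  rcases lt_trichotomy k 0 with h0 | rfl | h0
  · obtain ⟨k, rfl⟩ : ∃ j : ℕ, k = -j := ⟨(-k).toNat, by omega⟩
    by_cases e : v = a (-k + 1)
    · exact ⟨1, by simp, .inl (by simpa using e)⟩
    have r := F.refl k (by omega)
    have ww : ∀ P : Subgroup G, L.w • L.w • P = P := fun P => by rw [smul_smul, L.ww, one_smul]
    obtain ⟨c, hc⟩ := F.step (k := k) (v := L.w • v) (by omega) (by omega) (by rw [← ww (a k), r]; exact h.smul _) fun e' => e (by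
      have := F.refl (k - 1) (by omega)
      rw [Nat.cast_sub (by omega), Nat.cast_one, ← e', ww] at this
      rw [this]; congr 1; ring)
    obtain ⟨q1, q2⟩ := rt_fam' (k := k) (by omega) (by omega) c
    replace q2 := q2 (by omega)
    refine ⟨ω (fam k c), (F.neg_iff (ω_mem _) (by omega)).2 (by
      rw [L.ωω q2.1]; exact F.toApt.fix k (by omega) (by omega) _ q1),
      .inr ?_⟩
    have := F.refl (k + 1) (by omega)
    push_cast at this
    rw [← ww v, ← hc, smul_smul, w_mul_N q2.1, mul_smul, this]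
    congr 2; ring
  · rcases F.lines_Z (F.a0 ▸ h) with rfl | ⟨b, c, rfl⟩
    · exact ⟨1, by simp, .inl (by simp [F.a1])⟩
    · exact ⟨_, F.N0 _, .inr (by rw [mul_smul, ← F.m1]; rfl)⟩
  · obtain ⟨k, rfl⟩ : ∃ j : ℕ, k = j := ⟨k.toNat, by omega⟩
    by_cases e : v = a (k - 1)
    · exact ⟨1, by simp, .inr (by simpa using e)⟩
    obtain ⟨c, hc⟩ := F.step (k := k) (by omega) (by omega) h e
    exact ⟨_, F.toApt.fix k (by omega) (by omega) _ (rt_fam' (by omega) (by omega) c).1, .inl hc.symm⟩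

theorem nb {k : ℤ} (h : L.adj (L.N u • a k) v) :
    ∃ u', L.N u • a k = L.N u' • a k ∧ (v = L.N u' • a (k + 1) ∨ v = L.N u' • a (k - 1)) := by
  obtain ⟨k', h1, h2, h3⟩ := Cyc.exists_eq (V := Subgroup G) k
  have e0 : a k = a k' := by simpa using h3 _ _ F.cyc 0
  obtain ⟨v, rfl⟩ := exists_smul (L.N u) v
  obtain ⟨u', e, h⟩ := F.nb' h1 h2 (e0 ▸ adj_smul.1 h)
  refine ⟨u * u', by rw [map_mul, mul_smul, e0, e], ?_⟩
  rw [map_mul, mul_smul, mul_smul, h3 _ _ F.cyc 1, sub_eq_add_neg, h3 _ _ F.cyc (-1)]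
  exact h.imp (congrArg _) (congrArg _)

theorem nr (h : L.Vx v) : Nr L.adj 8 L.Z v := by
  obtain ⟨v', h⟩ := h
  by_cases hp : L.pt v
  · exact (F.diam _ _ ⟨_, adj_ZW⟩ ⟨_, h.symm⟩ pt_Z ((F.bip h).1 hp)).trans (.of_adj h.symm)
  · exact (F.diam _ _ ⟨_, adj_ZW⟩ ⟨_, h⟩ pt_Z hp).mono (by omega)

theorem vert (h : L.Vx v) : ∃ u k, v = L.N u • a k := by
  obtain ⟨k, -, f, hf, e, rfl⟩ := F.nr h
  clear h
  induction k with
  | zero => exact ⟨1, 0, by simp [e, F.a0]⟩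
  | succ k ih =>
    obtain ⟨u, j, e⟩ := ih (hf.mono k.le_succ)
    obtain ⟨u', -, h | h⟩ := F.nb (e ▸ hf k k.lt_succ_self)
    exacts [⟨_, _, h⟩, ⟨_, _, h⟩]

theorem elation {β : Subgroup G → Subgroup G} (h1 : ∀ u v, L.adj u v → L.adj (β u) (β v))
    (h2 : ∀ u v, L.Vx u → L.Vx v → β u = β v → u = v) (h3 : ∀ v, Nr L.adj 4 L.Z v → β v = v) :
    ∃ s, ∀ v, L.Vx v → β v = L.N (X4 s) • v := by
  have fw : ∀ k : ℕ, k ≤ 4 → Nr L.adj 4 L.Z (a k) := fun k hk =>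
    ⟨k, hk, _, (F.cyc.fw 0 k).wk, F.a0, by simp⟩
  obtain ⟨c, hc⟩ := F.step (k := 4) (v := β (a 5)) (by omega) (by omega) (h3 _ (fw 4 le_rfl) ▸ h1 _ _ (F.cyc.wk 4))
    fun e => F.cyc.ns 3 (h2 _ _ (F.vx _) (F.vx _) (e.trans (h3 _ (fw 3 (by omega))).symm)).symm
  have r := rt_fam' (k := 4) (by omega) (by omega) c
  have g1 : ∀ u v, L.adj u v → L.adj ((L.N (fam 4 c))⁻¹ • β u) ((L.N (fam 4 c))⁻¹ • β v) :=
    fun u v h => (h1 u v h).smul _
  have g2 : ∀ u v w, L.adj u v → L.adj v w → (L.N (fam 4 c))⁻¹ • β u = (L.N (fam 4 c))⁻¹ • β w → u = w :=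
    fun u v w h h' e => h2 _ _ ⟨_, h⟩ ⟨_, h'.symm⟩ (smul_left_cancel _ e)
  have g3 : ∀ v, Nr L.adj 4 L.Z v → L.N (fam 4 c) • v = v → (L.N (fam 4 c))⁻¹ • β v = v := fun v h e => by
    rw [h3 v h, inv_smul_eq_iff, e]
  have fZ := F.full_Z.2 ⟨_, (r.2 (by omega)).1, rfl⟩
  have fW := F.full_W.2 ⟨_, r.1.1 (by omega), rfl⟩
  have key : ∀ v, L.Vx v → β v = L.N (fam 4 c) • v := fun v hv =>
    inv_smul_eq_iff.1 (F.geo.rigid (α := fun v => (L.N (fam 4 c))⁻¹ • β v) F.diam (fun _ _ h => F.thick h) g1 g2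
      (F.cyc.fw 0 8) (v := L.W) (F.a0 ▸ adj_ZW)
      (F.a0 ▸ ⟨g3 _ ((Nr.refl _).mono (by omega)) fZ.2.1, fun u h => g3 _ ((Nr.of_adj h).mono (by omega)) (fZ.2.2 _ h)⟩)
      ⟨g3 _ ((Nr.of_adj adj_ZW).mono (by omega)) fW.2.1,
        fun u h => g3 _ (((Nr.of_adj adj_ZW).trans (.of_adj h)).mono (by omega)) (fW.2.2 _ h)⟩
      (F.geo.fix (z := fun v => (L.N (fam 4 c))⁻¹ • β v) le_rfl (F.cyc.fw 5 7) g1 g2 (inv_smul_eq_iff.2 hc.symm)
        (by
          have := g3 _ ⟨4, le_rfl, _, (F.cyc.bw (fun _ _ => adj.symm) 0 4).wk, F.a0, rfl⟩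
            (F.rt_fix (by omega) (by omega) r (by omega) (by omega))
          rwa [← F.cyc.per] at this) 3 (by omega)) (F.a0 ▸ F.nr hv))
  have := key _ ((F.vx 4).smul (L.N (X1 1)))
  rw [h3 (L.N (X1 1) • a 4) ⟨4, le_rfl, _, (ns_smul (F.cyc.fw 0 4) (L.N (X1 1))).wk, (F.N0 _).trans F.a0, rfl⟩, eq_comm,
    ← inv_smul_eq_iff, ← map_inv, smul_smul, smul_smul, ← map_mul, ← map_mul] at this
  have := (F.lo4 this).2.2.1
  simp only [fam, UE] at this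
  exact ⟨c.2, by simpa [fam, this] using key⟩

end Fin

end Loc

end Cfsg.Agent.Oct
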