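import Cfsg.Agent.Oct.Base

/-!
Fusion of the central involution.
-/

set_option autoImplicit false
set_option linter.unusedSectionVars false
set_option linter.unusedSimpArgs false
set_option linter.unnecessarySeqFocus false
set_option maxRecDepth 20000

namespace Cfsg.Agent.Oct

open Subgroup Fus
open scoped commutatorElement

variable {K : Type*} [Field K] [Tw K] {G : Type*} [Group G]

theorem comm6 {a : U K} : a * X6 1 = X6 1 * a ↔ a.x1 = 0 := by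
  simp only [U.ext_iff, UE]; grind

theorem comm5 {a : U K} : a * X5 1 = X5 1 * a ↔ a.y2 = 0 ∧ a.y8 = 0 := by
  simp only [U.ext_iff, UE]; grind

theorem comm7 {a : U K} : a * X7 1 = X7 1 * a ↔ a.x1 = 0 ∧ a.y2 = 0 ∧ a.x2 = 0 ∧ a.y4 = 0 := by
  refine ⟨fun h => ?_, fun h => by ext <;> simp only [UE, h] <;> grind⟩
  have h3 := congrArg U.x3 h
  have h4 := congrArg U.x4 h
  have h5 := congrArg U.x5 h
  have h6 := congrArg U.x6 h
  simp only [UE] at h3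
  have x1 : a.x1 = 0 := σ_eq_zero.1 (by grind)
  simp only [UE, x1] at h5
  have y2 : a.y2 = 0 := σ_eq_zero.1 (by grind)
  simp only [UE, x1, y2] at h4 h6
  grind

theorem comm8 {a : U K} {r s : K} (hr : r ≠ 0) :
    a * (X8 r * X4 s) = X8 r * X4 s * a ↔ a.x1 = 0 ∧ a.y2 = 0 ∧ a.x2 = 0 ∧ a.x3 = 0 := by
  refine ⟨fun h => ?_, fun h => by ext <;> simp only [UE, h] <;> grind⟩
  have h3 := congrArg U.y6 h
  have h4 := congrArg U.x7 h
  have h5 := congrArg U.x5 h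
  have h6 := congrArg U.x6 h
  simp only [UE] at h3
  have x1 : a.x1 = 0 := by grind
  simp only [UE, x1] at h4
  have y2 : a.y2 = 0 := by grind
  simp only [UE, x1, y2] at h5
  have x2 : a.x2 = 0 := by grind
  simp only [UE, x1, y2, x2] at h6
  grind

theorem test5 {e f : U K} (he : e.y2 = 0 ∧ e.y8 = 0) (hf : f.y2 = 0 ∧ f.y8 = 0)
    (h : ∀ v v' : U K, v.y2 = 0 ∧ v.y8 = 0 → v'.y2 = 0 ∧ v'.y8 = 0 → ⁅e, v⁆ * v' = v' * ⁅e, v⁆)
    (h4 : ∀ v : U K, v.y2 = 0 ∧ v.y8 = 0 → ⁅e, v⁆ ≠ X4 1) : ⁅e, f⁆ ≠ X5 1 := by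
  have Z : ∀ v : U K, v.y2 = 0 ∧ v.y8 = 0 → ⁅e, v⁆.x1 = 0 ∧ ⁅e, v⁆.x2 = 0 ∧ ⁅e, v⁆.x3 = 0 ∧ ⁅e, v⁆.y4 = 0 ∧
      ⁅e, v⁆.y6 = 0 ∧ ⁅e, v⁆.x6 = 0 ∧ ⁅e, v⁆.x7 = 0 ∧ ⁅e, v⁆.x8 = 0 := fun v hv => by
    have c := comm5.1 (h v (X5 1) hv ⟨rfl, rfl⟩)
    have a1 := h v (X1 1) hv ⟨rfl, rfl⟩
    have a4 := h v (Y4 1) hv ⟨rfl, rfl⟩
    have a6 := h v (Y6 1) hv ⟨rfl, rfl⟩
    have a8 := (comm8 (s := 0) one_ne_zero).1 (h v (X8 1 * X4 0) hv (by simp only [UE, and_self]))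
    generalize ⁅e, v⁆ = u at *
    simp only [U.ext_iff, UE, c, a8] at a1 a4 a6
    have x8 : u.x8 = 0 := by grind
    have y6 : u.y6 = 0 := by grind
    have x7 : u.x7 = 0 := by grind
    simp only [UE, x8, y6, x7] at a1 a4 a6
    grind
  have a1 := Z (X1 1) ⟨rfl, rfl⟩
  have a4 := Z (Y4 1) ⟨rfl, rfl⟩
  have a8 := Z (X8 1) ⟨rfl, rfl⟩
  simp only [commutatorElement_def, UE, he] at a1 a4 a8
  have x1 : e.x1 = 0 := by grind
  have x8 : e.x8 = 0 := by grind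
  simp only [UE, x1, x8] at a1 a4 a8
  have x7 : e.x7 = 0 := by grind
  simp only [UE, x7] at a1
  have y6 : e.y6 = 0 := σ_eq_zero.1 (by grind)
  have y4 : e.y4 = 0 := by grind
  have x2 : e.x2 = 0 := by
    by_contra h2
    refine h4 (X7 e.x2⁻¹) ⟨rfl, rfl⟩ ?_
    ext <;> simp only [commutatorElement_def, UE, he, x1, x8, x7, y6, y4] <;> grind
  simp only [UE, x2, y6, y4, x7] at a8
  have x3 : e.x3 = 0 := by grind
  intro h5
  have := congrArg U.x5 h5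
  simp only [commutatorElement_def, UE, he, hf, x1, x8, x7, y6, y4, x2, x3] at this
  grind

theorem gamma7 {a b c : U K} (ha : a * X7 1 = X7 1 * a) (hb : b * X7 1 = X7 1 * b) (hc : c * X7 1 = X7 1 * c) :
    ⁅⁅a, b⁆, c⁆ ∈ (V6 : Subgroup (U K)) := by
  rw [comm7] at ha hb hc
  simp only [mem_V6, commutatorElement_def, UE, ha, hb, hc]
  grind

theorem gamma8 {a b c : U K} {s : K} (ha : a * (X8 1 * X4 s) = X8 1 * X4 s * a)
    (hb : b * (X8 1 * X4 s) = X8 1 * X4 s * b) (hc : c * (X8 1 * X4 s) = X8 1 * X4 s * c) :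
    ⁅⁅a, b⁆, c⁆ ∈ (V6 : Subgroup (U K)) := by
  rw [comm8 one_ne_zero] at ha hb hc
  simp only [mem_V6, commutatorElement_def, UE, ha, hb, hc]
  grind

/-- Representatives of the classes of non-central involutions. -/
def Rep (u : U K) : Prop := u = X6 1 ∨ u = X5 1 ∨ u = X7 1 ∨ ∃ s, u = X8 1 * X4 s

theorem Rep.not_mem {u : U K} (h : Rep u) : u ∉ Zs := by
  rcases h with rfl | rfl | rfl | ⟨s, rfl⟩ <;> simp [mem_Zs, UE]

namespace Loc

variable (L : Loc K G)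

/-- `g` conjugates `a` to `b`. -/
def Im (g : G) (a b : U K) : Prop := g * L.N a * g⁻¹ = L.N b

/-- The conjugates of the central involution. -/
def Dd (d : G) : Prop := IsConj L.τ d

variable {L} {g k : G} {a b a' b' c : U K}

theorem Im.mul (h : L.Im g a a') (h' : L.Im g b b') : L.Im g (a * b) (a' * b') := by
  rw [Im, map_mul, map_mul, ← h, ← h']; group

theorem Im.inv (h : L.Im g a a') : L.Im g a⁻¹ a'⁻¹ := by
  rw [Im, map_inv, map_inv, ← h]; group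

theorem Im.comm (h : L.Im g a a') (h' : L.Im g b b') : L.Im g ⁅a, b⁆ ⁅a', b'⁆ :=
  ((h.mul h').mul h.inv).mul h'.inv

theorem Im.one : L.Im g 1 1 := by simp [Im]

theorem Im.uniq (h : L.Im g a b) (h' : L.Im g a b') : b = b' := L.inj (h.symm.trans h')

theorem Im.sym (h : L.Im g a b) : L.Im g⁻¹ b a := by rw [Im, ← h]; group

theorem Im.sym' (h : L.Im g⁻¹ a b) : L.Im g b a := by simpa using h.sym

theorem Im.uniq' (h : L.Im g a b) (h' : L.Im g a' b) : a = a' := h.sym.uniq h'.sym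

theorem Im.trans (h : L.Im g a b) (h' : L.Im k b c) : L.Im (k * g) a c := by rw [Im, ← h', ← h]; group

theorem Im.conj (r a : U K) : L.Im (L.N r) a (r * a * r⁻¹) := by simp [Im]

theorem Im.commute (h : L.Im g a a') (h' : L.Im g b b') (e : a * b = b * a) : a' * b' = b' * a' :=
  (h.mul h').uniq (e ▸ h'.mul h)

theorem Im.dd (h : L.Im g a b) (hd : L.Dd (L.N a)) : L.Dd (L.N b) := hd.trans (isConj_iff.2 ⟨g, h⟩)

theorem Cj.dd (h : L.Cj a b) (hd : L.Dd (L.N a)) : L.Dd (L.N b) := hd.trans h.isConj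

theorem dd_τ : L.Dd (L.N (X4 1)) := IsConj.refl _

theorem Dd.sq {d : G} (h : L.Dd d) : d * d = 1 := by
  obtain ⟨g, rfl⟩ := isConj_iff.1 h
  calc _ = g * (L.τ * L.τ) * g⁻¹ := by group
    _ = 1 := by rw [τ_sq]; simp

theorem Dd.ne {d : G} (h : L.Dd d) : d ≠ 1 := fun e => τ_ne (isConj_one_left.1 (e ▸ h))

theorem Dd.conj {d : G} (h : L.Dd d) (g : G) : L.Dd (g * d * g⁻¹) := h.trans (isConj_iff.2 ⟨g, rfl⟩)

theorem Rep.inB {u : U K} (h : Rep u) {c : G} (hc : c ∈ L.C) (e : L.Im c u u) : L.InB c := by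
  rcases h with rfl | rfl | rfl | ⟨s, rfl⟩
  · exact inB_W hc e (by simp [mem_Ws, UE]) one_ne_zero (by simp [mem_Ws, UE])
  · exact inB_Y hc e (by simp [mem_Ys, UE]) one_ne_zero (by simp [mem_Ys, UE])
  · exact inB_7 hc e
  · exact inB_8 hc e (by simp [mem_Qs, UE])

variable [Finite K]

theorem im_surj {P P' : U K → Prop} (h : ∀ a, P a → ∃ b, P' b ∧ L.Im g a b) (π : U K → U K)
    (h1 : ∀ b, P' b → P (π b)) (h2 : ∀ b b', P' b → P' b' → π b = π b' → b = b') :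
    (∀ b, P' b → ∃ a, P a ∧ L.Im g a b) ∧ ∀ a, P a → ∃ b, P' b ∧ π b = a := by
  choose f f1 f2 using h
  have := Finite.injective_iff_surjective.1
    (show Function.Injective (fun a : {a // P a} => (⟨π (f a.1 a.2), h1 _ (f1 _ _)⟩ : {a // P a})) from
    fun a a' e => Subtype.ext ((f2 _ a.2).uniq' (h2 _ _ (f1 _ _) (f1 _ _) (congrArg Subtype.val e) ▸ f2 _ a'.2)))
  refine ⟨fun b hb => ?_, fun a ha => ?_⟩
  · obtain ⟨a, e⟩ := this ⟨π b, h1 b hb⟩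
    exact ⟨a.1, a.2, h2 _ _ (f1 _ _) hb (congrArg Subtype.val e) ▸ f2 _ a.2⟩
  · obtain ⟨a', e⟩ := this ⟨a, ha⟩
    exact ⟨_, f1 _ _, congrArg Subtype.val e⟩

theorem not_65 (h : ∀ a, a * X6 1 = X6 1 * a → ∃ b, b * X5 1 = X5 1 * b ∧ L.Im g a b) : False := by
  simp only [comm6, comm5] at h
  obtain ⟨b, hb, e⟩ := (im_surj h (fun b => {b with x1 := 0, y2 := b.x1}) (fun _ _ => rfl) (fun b b' h h' e => by
    simp only [U.ext_iff] at e ⊢; grind)).2 (Y8 1) rfl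
  exact one_ne_zero ((congrArg U.y8 e).symm.trans hb.2)

theorem not_small {u : U K} (hu : u = X7 1 ∨ ∃ s, u = X8 1 * X4 s) {v : U K} (hv : v = X6 1 ∨ v = X5 1)
    (h : ∀ a, a * v = v * a → ∃ b, b * u = u * b ∧ L.Im g a b) : False := by
  have h' : ∀ a, a * v = v * a → ∃ b, (b.x1 = 0 ∧ b.y2 = 0 ∧ b.x2 = 0) ∧ L.Im g a b := fun a ha => by
    obtain ⟨b, hb, e⟩ := h a ha
    refine ⟨b, ?_, e⟩
    rcases hu with rfl | ⟨s, rfl⟩
    · rw [comm7] at hb; tauto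
    · rw [comm8 one_ne_zero] at hb; tauto
  rcases hv with rfl | rfl
  · simp only [comm6] at h'
    obtain ⟨b, hb, e⟩ := (im_surj h' id (fun _ h => h.1) fun _ _ _ _ e => e).2 (X2 1) rfl
    exact one_ne_zero ((congrArg U.x2 e).symm.trans hb.2.2)
  · simp only [comm5] at h'
    obtain ⟨b, hb, e⟩ := (im_surj h' (fun b => {b with y8 := 0, x1 := b.y8}) (fun _ h => ⟨h.2.1, rfl⟩)
      (fun b b' h h' e => by simp only [U.ext_iff] at e ⊢; grind)).2 (X2 1) ⟨rfl, rfl⟩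
    exact one_ne_zero ((congrArg U.x2 e).symm.trans hb.2.2)

variable (L) in
/-- An element that interchanges the two base points of the base line. -/
structure Sw (n : G) : Prop where
  im : ∀ a, a.x1 = 0 → ∃ b, b.x1 = 0 ∧ L.Im n a b
  im' : ∀ a, a.x1 = 0 → ∃ b, b.x1 = 0 ∧ L.Im n⁻¹ a b
  t4 : L.Im n (X4 1) (X6 1)
  t6 : L.Im n (X6 1) (X4 1)

variable [Finite G]

namespace Hyp

variable (H : L.Hyp)
include H

theorem classify {t : G} (ht : t ∈ L.C) (h2 : t * t = 1) :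
    t ∈ L.Z ∨ ∃ c ∈ L.C, ∃ u, Rep u ∧ c * t * c⁻¹ = L.N u := by
  obtain ⟨c, hc, a, e⟩ := H.exists_conj (Two.of_sq h2) ht
  have ha : a * a = 1 := L.inj (by
    rw [map_mul, ← e, map_one]
    calc _ = c * (t * t) * c⁻¹ := by group
      _ = 1 := by rw [h2]; simp)
  have key : ∀ u, Rep u → L.Cj a u → ∃ c ∈ L.C, ∃ u, Rep u ∧ c * t * c⁻¹ = L.N u :=
    fun u hu ⟨c', hc', e'⟩ => ⟨c' * c, mul_mem hc' hc, u, hu, by rw [← e', ← e]; group⟩
  rcases L.classify ha with ((h | h | h) | h) | ⟨s, h⟩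
  · exact .inl (by rw [← C_smul_Z (inv_mem hc), mem_inv_smul, e]; exact N_mem_map.2 h)
  · exact .inr (key _ (.inl rfl) h)
  · exact .inr (key _ (.inr (.inl rfl)) h)
  · exact .inr (key _ (.inr (.inr (.inl rfl))) h)
  · exact .inr (key _ (.inr (.inr (.inr ⟨s, rfl⟩))) h)

theorem im_of {u u' : U K} (hu : Rep u) (h : L.Im g (X4 1) u) (h' : L.Im g u' (X4 1)) (a : U K)
    (ha : a * u' = u' * a) : ∃ b, b * u = u * b ∧ L.Im g a b := by
  have h2 := (two_N (L := L) a).conj g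
  have h3 : g * L.N a * g⁻¹ ∈ L.C := H.two_mem' h2 (by
    rw [τ, ← h']
    calc _ = g * L.N (a * u') * g⁻¹ := by rw [map_mul]; group
      _ = _ := by rw [ha, map_mul]; group)
  obtain ⟨b, hb⟩ := (Rep.inB hu h3 (by
    rw [Im, ← h]
    calc _ = g * L.N (a * X4 1 * a⁻¹) * g⁻¹ := by simp only [map_mul, map_inv]; group
      _ = _ := by rw [comm_X4, mul_inv_cancel_right])).two h2
  exact ⟨b, Im.commute hb h (comm_X4 a 1), hb⟩

theorem swap {u : U K} (hu : Rep u) (hd : L.Dd (L.N u)) :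
    ∃ g u', Rep u' ∧ L.Im g (X4 1) u ∧ L.Im g u' (X4 1) := by
  obtain ⟨g, hg⟩ := isConj_iff.1 hd
  have h2 : g⁻¹ * L.τ * g⁻¹⁻¹ * (g⁻¹ * L.τ * g⁻¹⁻¹) = 1 := (dd_τ.conj g⁻¹).sq
  rcases H.classify (H.two_mem' (Two.of_sq h2) (by
    calc _ = g⁻¹ * (L.τ * (g * L.τ * g⁻¹)) * g := by group
      _ = _ := by rw [hg, τ, ← comm_Z (L.N_mem u), ← hg, τ]; group)) h2 with h | ⟨c, hc, u', hu', e⟩
  · have := inv_smul_eq_iff.1 (H.smul_Z h)
    exact (hu.not_mem (N_mem_map.1 (hg ▸ conj_mem_of_smul_eq this.symm τ_mem))).elim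
  · refine ⟨g * c⁻¹, u', hu', ?_, by rw [Im, ← e, τ]; group⟩
    rw [Im, ← hg, τ, mul_assoc g, comm_Z (inv_mem hc)]; group

theorem not_dd5 : ¬ L.Dd (L.N (X5 1)) := fun hd => by
  have r5 : Rep (X5 1 : U K) := .inr (.inl rfl)
  obtain ⟨g, u, hu, h1, h2⟩ := H.swap r5 hd
  have T := H.im_of r5 h1 h2
  have T' := H.im_of hu h2.sym h1.sym
  rcases hu with rfl | rfl | hu
  · exact not_65 T
  · simp only [comm5] at T T'
    obtain ⟨e, he, e1⟩ := T' (X6 1) ⟨rfl, rfl⟩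
    obtain ⟨f, hf, e2⟩ := T' (X1 1) ⟨rfl, rfl⟩
    have key : ∀ v : U K, v.y2 = 0 ∧ v.y8 = 0 → ∃ s, L.Im g ⁅e, v⁆ (X4 s) := fun v hv => by
      obtain ⟨v', -, e3⟩ := T v hv
      exact ⟨_, eq_X4 (mem_Ws_iff.1 (show X6 (1 : K) ∈ Ws by simp [mem_Ws, UE]) v') ▸ e1.sym'.comm e3⟩
    refine test5 he hf (fun v v' hv hv' => ?_) (fun v hv e4 => ?_) ?_
    · obtain ⟨s, hs⟩ := key v hv
      obtain ⟨v'', -, e3⟩ := T v' hv'
      exact hs.sym.commute e3.sym (comm_X4 _ _).symm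
    · obtain ⟨s, hs⟩ := key v hv
      exact one_ne_zero (congrArg U.x5 (h1.uniq (e4 ▸ hs)))
    · refine (e1.comm e2).uniq ?_
      rw [show ⁅X6 (1 : K), X1 (1 : K)⁆ = X4 (1 : K) by ext <;> simp only [commutatorElement_def, UE]]
      exact h2.sym
  · exact not_small hu (.inr rfl) T'

theorem dd6 {u : U K} (hu : Rep u) (hd : L.Dd (L.N u)) : L.Dd (L.N (X6 1)) := by
  obtain ⟨g, u', hu', h1, h2⟩ := H.swap hu hd
  have T := H.im_of hu h1 h2
  have hd' := h2.sym.dd dd_τ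
  rcases hu with rfl | rfl | hu
  · exact hd
  · exact (H.not_dd5 hd).elim
  rcases hu' with rfl | rfl | hu'
  · exact hd'
  · exact (H.not_dd5 hd').elim
  obtain ⟨a, b, c, ha, hb, hc, e, e'⟩ : ∃ a b c : U K, a * u' = u' * a ∧ b * u' = u' * b ∧ c * u' = u' * c ∧
      ⁅⁅a, b⁆, c⁆ = X6 1 ∧ L.Cj u' (u' * X6 1) := by
    rcases hu' with rfl | ⟨s, rfl⟩
    · refine ⟨Y8 1, X3 1, Y8 1, by simp [comm7, UE], by simp [comm7, UE], by simp [comm7, UE], ?_,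
        cj_of (Y4 1) 1 ?_⟩ <;> ext <;> simp only [commutatorElement_def, UE, inv_one, Units.val_one]
    · refine ⟨Y6 1, Y4 1, Y8 1, by simp [comm8, UE], by simp [comm8, UE], by simp [comm8, UE], ?_,
        cj_of (X3 1) 1 ?_⟩ <;> ext <;> simp only [commutatorElement_def, UE, inv_one, Units.val_one]
  obtain ⟨a', ha', e1⟩ := T a ha
  obtain ⟨b', hb', e2⟩ := T b hb
  obtain ⟨c', hc', e3⟩ := T c hc
  have h3 := e ▸ (e1.comm e2).comm e3
  have h4 : ⁅⁅a', b'⁆, c'⁆ ∈ (V6 : Subgroup (U K)) := by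
    rcases hu with rfl | ⟨s, rfl⟩
    exacts [gamma7 ha' hb' hc', gamma8 ha' hb' hc']
  generalize ⁅⁅a', b'⁆, c'⁆ = d at h3 h4
  rw [mem_V6] at h4
  refine (cls6 (by simp only [mem_Ws, UE, h4, and_self]) ?_).dd ((h2.mul h3).dd (e'.dd hd'))
  simp only [UE, h4]
  intro h6
  obtain rfl : d = 1 := by ext <;> simp only [UE, h4, h6]
  exact one_ne_zero (congrArg U.x6 (h3.uniq' Im.one))

theorem exists_sw (hd : L.Dd (L.N (X6 1))) : ∃ n, L.Sw n := by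
  obtain ⟨g, u', hu', h1, h2⟩ := H.swap (.inl rfl) hd
  have T := H.im_of (.inl rfl) h1 h2
  have T' := H.im_of hu' h2.sym h1.sym
  rcases hu' with rfl | rfl | hu'
  · simp only [comm6] at T T'
    exact ⟨g, T, T', h1, h2⟩
  · exact (H.not_dd5 (h2.sym.dd dd_τ)).elim
  · exact (not_small hu' (.inl rfl) T').elim

end Hyp

end Loc

end Cfsg.Agent.Oct
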