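import Mathlib

/-!
Graphs with many central elations have girth at least sixteen; rigidity.
-/

set_option autoImplicit false

namespace Cfsg.Agent.Oct

variable {V : Type*} {adj : V → V → Prop} {pt : V → Prop}

/-- A walk of length `n`. -/
def Wk (adj : V → V → Prop) (f : ℕ → V) (n : ℕ) : Prop := ∀ i < n, adj (f i) (f (i + 1))

/-- A non-stammering path of length `n`. -/
structure NS (adj : V → V → Prop) (f : ℕ → V) (n : ℕ) : Prop where
  wk : Wk adj f n
  ns : ∀ i, i + 2 ≤ n → f i ≠ f (i + 2)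

theorem Wk.mono {f : ℕ → V} {n m : ℕ} (h : Wk adj f n) (hm : m ≤ n) : Wk adj f m :=
  fun i hi => h i (by omega)

theorem NS.mono {f : ℕ → V} {n m : ℕ} (h : NS adj f n) (hm : m ≤ n) : NS adj f m :=
  ⟨h.wk.mono hm, fun i hi => h.ns i (by omega)⟩

theorem NS.drop {f : ℕ → V} {n : ℕ} (h : NS adj f n) (k : ℕ) : NS adj (fun i => f (k + i)) (n - k) :=
  ⟨fun i hi => h.wk (k + i) (by omega), fun i hi => h.ns (k + i) (by omega)⟩

theorem Wk.rev (hs : ∀ u v, adj u v → adj v u) {f : ℕ → V} {n : ℕ} (h : Wk adj f n) :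
    Wk adj (fun i => f (n - i)) n := fun i hi => by
  have := hs _ _ (h (n - (i + 1)) (by omega))
  rwa [show n - (i + 1) + 1 = n - i by omega] at this

theorem NS.rev (hs : ∀ u v, adj u v → adj v u) {f : ℕ → V} {n : ℕ} (h : NS adj f n) :
    NS adj (fun i => f (n - i)) n := ⟨h.wk.rev hs, fun i hi => by
  have := (h.ns (n - (i + 2)) (by omega)).symm
  rwa [show n - (i + 2) + 2 = n - i by omega] at this⟩

theorem Wk.map {f : ℕ → V} {n : ℕ} (h : Wk adj f n) {z : V → V} (hz : ∀ u v, adj u v → adj (z u) (z v)) :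
    Wk adj (fun i => z (f i)) n := fun i hi => hz _ _ (h i hi)

theorem NS.map {f : ℕ → V} {n : ℕ} (h : NS adj f n) {z : V → V} (hz : ∀ u v, adj u v → adj (z u) (z v))
    (hi : ∀ u v w, adj u v → adj v w → z u = z w → u = w) : NS adj (fun i => z (f i)) n :=
  ⟨h.wk.map hz, fun i hn e => h.ns i hn (hi _ _ _ (h.wk i (by omega)) (h.wk (i + 1) (by omega)) e)⟩

/-- Concatenation. -/
def cat (f : ℕ → V) (k : ℕ) (g : ℕ → V) (i : ℕ) : V := if i ≤ k then f i else g (i - k)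

theorem cat_le {f g : ℕ → V} {k i : ℕ} (h : i ≤ k) : cat f k g i = f i := if_pos h

theorem cat_ge {f g : ℕ → V} {k i : ℕ} (e : f k = g 0) (h : k ≤ i) : cat f k g i = g (i - k) := by
  rcases h.eq_or_lt with rfl | h
  · rw [cat_le le_rfl, e, Nat.sub_self]
  · exact if_neg (by omega)

theorem Wk.cat {f g : ℕ → V} {k l : ℕ} (hf : Wk adj f k) (hg : Wk adj g l) (e : f k = g 0) :
    Wk adj (cat f k g) (k + l) := fun i hi => by
  rcases lt_or_ge i k with h | h
  · rw [cat_le h.le, cat_le h]; exact hf i h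
  · rw [cat_ge e h, cat_ge e (by omega), show i + 1 - k = i - k + 1 by omega]
    exact hg _ (by omega)

theorem NS.cat {f g : ℕ → V} {k l : ℕ} (hf : NS adj f k) (hg : NS adj g l) (e : f k = g 0)
    (hne : 0 < k → 0 < l → f (k - 1) ≠ g 1) : NS adj (cat f k g) (k + l) :=
  ⟨hf.wk.cat hg.wk e, fun i hi => by
    rcases (by omega : i + 2 ≤ k ∨ i + 1 = k ∨ k ≤ i) with h | h | h
    · rw [cat_le h, cat_le (by omega)]; exact hf.ns i h
    · rw [cat_le (by omega), cat_ge e (by omega), show i + 2 - k = 1 by omega,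
        show i = k - 1 by omega]
      exact hne (by omega) (by omega)
    · rw [cat_ge e h, cat_ge e (by omega), show i + 2 - k = i - k + 2 by omega]
      exact hg.ns _ (by omega)⟩

theorem Wk.one {u v : V} (h : adj u v) : Wk adj (fun i => if i = 0 then u else v) 1 := fun i hi => by
  obtain rfl : i = 0 := by omega
  simpa using h

theorem NS.snoc {f : ℕ → V} {k : ℕ} (hf : NS adj f k) {y : V} (h : adj (f k) y)
    (hne : 0 < k → f (k - 1) ≠ y) : ∃ g, NS adj g (k + 1) ∧ (∀ i ≤ k, g i = f i) ∧ g (k + 1) = y :=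
  ⟨Oct.cat f k fun i => if i = 0 then f k else y, hf.cat ⟨Wk.one h, fun i hi => by omega⟩ rfl
    fun h _ => by simpa using hne h, fun i hi => cat_le hi, by rw [cat_ge (by rfl) (by omega)]; simp⟩

theorem Wk.snoc {f : ℕ → V} {k : ℕ} (hf : Wk adj f k) {y : V} (h : adj (f k) y) :
    ∃ g, Wk adj g (k + 1) ∧ g 0 = f 0 ∧ g (k + 1) = y :=
  ⟨Oct.cat f k fun i => if i = 0 then f k else y, hf.cat (Wk.one h) rfl, cat_le (Nat.zero_le _),
    by rw [cat_ge (by rfl) (by omega)]; simp⟩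

theorem Wk.reduce {f : ℕ → V} {n : ℕ} (h : Wk adj f n) :
    ∃ m ≤ n, ∃ g, NS adj g m ∧ g 0 = f 0 ∧ g m = f n := by
  induction n with
  | zero => exact ⟨0, le_rfl, f, ⟨h, fun i hi => by omega⟩, rfl, rfl⟩
  | succ n ih =>
    obtain ⟨m, hm, g, hg, e0, e1⟩ := ih (h.mono n.le_succ)
    by_cases hc : 0 < m ∧ g (m - 1) = f (n + 1)
    · exact ⟨m - 1, by omega, g, hg.mono (by omega), e0, hc.2⟩
    · obtain ⟨g', h1, h2, h3⟩ := hg.snoc (e1 ▸ h n n.lt_succ_self) fun h1 h2 => hc ⟨h1, h2⟩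
      exact ⟨m + 1, by omega, g', h1, (h2 0 (by omega)).trans e0, h3⟩

/-- `v` is at distance at most `n` from `u`. -/
def Nr (adj : V → V → Prop) (n : ℕ) (u v : V) : Prop := ∃ k ≤ n, ∃ f, Wk adj f k ∧ f 0 = u ∧ f k = v

theorem Nr.refl (u : V) : Nr adj 0 u u := ⟨0, le_rfl, fun _ => u, fun i hi => by omega, rfl, rfl⟩

theorem Nr.of_adj {u v : V} (h : adj u v) : Nr adj 1 u v := ⟨1, le_rfl, _, Wk.one h, rfl, rfl⟩

theorem Nr.mono {n m : ℕ} {u v : V} (h : Nr adj n u v) (hm : n ≤ m) : Nr adj m u v :=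
  let ⟨k, hk, f⟩ := h; ⟨k, hk.trans hm, f⟩

theorem Nr.trans {n m : ℕ} {u v w : V} (h : Nr adj n u v) (h' : Nr adj m v w) : Nr adj (n + m) u w := by
  obtain ⟨k, hk, f, hf, rfl, e⟩ := h
  obtain ⟨l, hl, g, hg, rfl, rfl⟩ := h'
  exact ⟨k + l, by omega, _, hf.cat hg e, cat_le (Nat.zero_le _), by rw [cat_ge e (by omega)]; simp⟩

theorem Nr.symm (hs : ∀ u v, adj u v → adj v u) {n : ℕ} {u v : V} (h : Nr adj n u v) : Nr adj n v u := by
  obtain ⟨k, hk, f, hf, rfl, rfl⟩ := h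
  exact ⟨k, hk, _, hf.rev hs, rfl, by simp⟩

theorem Nr.ns {n : ℕ} {u v : V} (h : Nr adj n u v) : ∃ k ≤ n, ∃ f, NS adj f k ∧ f 0 = u ∧ f k = v := by
  obtain ⟨k, hk, f, hf, rfl, rfl⟩ := h
  obtain ⟨m, hm, g, h⟩ := hf.reduce
  exact ⟨m, hm.trans hk, g, h⟩

/-- A cyclically non-stammering closed walk of length `n`. -/
structure Cyc (adj : V → V → Prop) (c : ℤ → V) (n : ℕ) : Prop where
  per : ∀ i, c (i + n) = c i
  wk : ∀ i, adj (c i) (c (i + 1))
  ns : ∀ i, c i ≠ c (i + 2)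

theorem Cyc.fw {c : ℤ → V} {n : ℕ} (h : Cyc adj c n) (j : ℤ) (k : ℕ) : NS adj (fun i => c (j + i)) k :=
  ⟨fun i _ => by simpa [add_assoc] using h.wk (j + i), fun i _ => by simpa [add_assoc] using h.ns (j + i)⟩

theorem Cyc.bw (hs : ∀ u v, adj u v → adj v u) {c : ℤ → V} {n : ℕ} (h : Cyc adj c n) (j : ℤ) (k : ℕ) :
    NS adj (fun i => c (j - i)) k :=
  ⟨fun i _ => by
    have := hs _ _ (h.wk (j - (i + 1 : ℕ)))
    rwa [show j - (i + 1 : ℕ) + 1 = j - i by push_cast; ring] at this, fun i _ => by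
    have := (h.ns (j - (i + 2 : ℕ))).symm
    rwa [show j - (i + 2 : ℕ) + 2 = j - i by push_cast; ring] at this⟩

theorem NS.cyc {f : ℕ → V} {n : ℕ} (h : NS adj f n) (hn : 0 < n) (e : f n = f 0) (hne : f (n - 1) ≠ f 1) :
    ∃ c, Cyc adj c n ∧ ∀ i : ℕ, i ≤ n → c i = f i := by
  have h2 := h.cat h e fun _ _ => hne
  have key : ∀ i : ℤ, ∀ j : ℕ, j ≤ n → f ((i + j) % n).toNat = Oct.cat f n f ((i % n).toNat + j) := by
    intro i j hj
    have h0 : (0 : ℤ) < n := by omega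
    have a1 := Int.emod_nonneg i h0.ne'
    have a2 := Int.emod_lt_of_pos i h0
    rw [← Int.emod_add_emod]
    generalize i % n = r at a1 a2
    rcases lt_or_ge (r + j) n with h3 | h3
    · rw [Int.emod_eq_of_lt (by omega) h3, cat_le (by omega)]; congr 1; omega
    · rw [cat_ge e (by omega), ← Int.sub_emod_right, Int.emod_eq_of_lt (by omega) (by omega)]
      congr 1; omega
  have lt : ∀ i : ℤ, (i % n).toNat < n := fun i => by
    have := Int.emod_lt_of_pos i (show (0 : ℤ) < n by omega)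
    omega
  refine ⟨fun i => f (i % n).toNat, ⟨fun i => by simp, fun i => ?_, fun i => ?_⟩, fun i hi => ?_⟩
  · have := key i 1 hn
    have h3 := h2.wk (i % n).toNat (by have := lt i; omega)
    rw [← this, cat_le (lt i).le] at h3
    exact_mod_cast h3
  · rcases (by omega : n = 1 ∨ 2 ≤ n) with rfl | h1
    · exact absurd e.symm hne
    have := key i 2 h1
    have h3 := h2.ns (i % n).toNat (by have := lt i; omega)
    rw [← this, cat_le (lt i).le] at h3
    exact_mod_cast h3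
  · have := key 0 i hi
    simpa [cat_le hi] using this

/-- A bipartite graph with central elations. -/
structure Geo (adj : V → V → Prop) (pt : V → Prop) : Prop where
  symm : ∀ u v, adj u v → adj v u
  bip : ∀ u v, adj u v → (pt u ↔ ¬ pt v)
  loc : ∀ p, pt p → ∃ z : V → V, (∀ u v, adj u v → adj (z u) (z v)) ∧ Function.Injective z ∧
    (∀ v, Nr adj 4 p v → z v = v) ∧ ∀ f, NS adj f 5 → f 0 = p → z (f 5) ≠ f 5

/-- Uniqueness of paths of total length at most `n`. -/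
def Uq (adj : V → V → Prop) (n : ℕ) : Prop := ∀ (f g : ℕ → V) (k l : ℕ), k + l ≤ n → NS adj f k → NS adj g l →
  f 0 = g 0 → f k = g l → k = l ∧ ∀ i ≤ k, f i = g i

theorem uq_of_cyc (hs : ∀ u v, adj u v → adj v u) (hi : ∀ v, ¬ adj v v) {n : ℕ}
    (h : ∀ m ≤ n, 0 < m → ∀ c, ¬ Cyc adj c m) : Uq adj n := by
  induction n with
  | zero =>
    intro f g k l hn _ _ e _
    exact ⟨by omega, fun i hi => by rw [show i = 0 by omega, e]⟩
  | succ n ih =>
    replace ih := ih fun m hm => h m (by omega)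
    have closed : ∀ (f : ℕ → V) (k : ℕ), k ≤ n + 1 → NS adj f k → f k = f 0 → k = 0 := by
      intro f k hk hf e
      by_contra h0
      by_cases hne : f (k - 1) = f 1
      · rcases (by omega : k = 1 ∨ 2 ≤ k) with rfl | h1
        · have h1 := hf.wk 0 (by omega)
          rw [e] at h1
          exact hi _ h1
        · have := (ih (fun i => f (1 + i)) (fun i => f 1) (k - 2) 0 (by omega)
            ((hf.drop 1).mono (by omega)) ⟨fun i hi => by omega, fun i hi => by omega⟩ rfl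
            (by rw [← hne]; congr 1; omega)).1
          obtain rfl : k = 2 := by omega
          exact hf.ns 0 le_rfl e.symm
      · obtain ⟨c, hc, -⟩ := hf.cyc (by omega) e hne
        exact h k hk (by omega) c hc
    intro f g k l hn hf hg e0 e1
    by_cases hc : 0 < k ∧ 0 < l ∧ f (k - 1) = g (l - 1)
    · obtain ⟨h1, h2⟩ := ih f g (k - 1) (l - 1) (by omega) (hf.mono (by omega)) (hg.mono (by omega)) e0 hc.2.2
      obtain rfl : k = l := by omega
      refine ⟨rfl, fun i hi => ?_⟩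
      rcases hi.eq_or_lt with rfl | hi
      exacts [e1, h2 i (by omega)]
    · have := closed _ _ hn (hf.cat (hg.rev hs) e1 fun h1 h2 h3 => hc ⟨h1, h2, h3⟩)
        (by rw [cat_ge e1 (by omega), cat_le (by omega), e0]; simp)
      exact ⟨by omega, fun i hi => by rw [show i = 0 by omega, e0]⟩

theorem Geo.irr (h : Geo adj pt) (v : V) : ¬ adj v v := fun e => by have := h.bip v v e; tauto

theorem Geo.uq_le (h : Geo adj pt) (n : ℕ) (hn : n ≤ 15) : Uq adj n := by
  induction n using Nat.strong_induction_on with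
  | _ n ih =>
  refine uq_of_cyc h.symm h.irr fun m hm h0 c hc => ?_
  obtain ⟨j, hj⟩ : ∃ j, pt (c j) := by
    by_cases h1 : pt (c 0)
    · exact ⟨0, h1⟩
    · exact ⟨0 + 1, by have := h.bip _ _ (hc.wk 0); tauto⟩
  obtain ⟨z, z1, z2, z3, z4⟩ := h.loc _ hj
  have fw : ∀ i : ℕ, i ≤ 4 → z (c (j + i)) = c (j + i) := fun i hi =>
    z3 _ ⟨i, hi, _, (hc.fw j i).wk, by simp, rfl⟩
  have bw : ∀ i : ℕ, i ≤ 4 → z (c (j - i)) = c (j - i) := fun i hi =>
    z3 _ ⟨i, hi, _, (hc.bw h.symm j i).wk, by simp, rfl⟩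
  refine z4 _ (hc.fw j 5) (by simp) ?_
  rcases (by omega : m ≤ 5 ∨ (5 ≤ m ∧ m ≤ 9) ∨ 10 ≤ m) with h1 | h1 | h1
  · have := fw (5 - m) (by omega)
    rwa [← hc.per, show j + (5 - m : ℕ) + m = j + (5 : ℕ) by omega] at this
  · have := bw (m - 5) (by omega)
    rwa [← hc.per, show j - (m - 5 : ℕ) + m = j + (5 : ℕ) by omega] at this
  · have hp := hc.fw (j + 4) (m - 8)
    have := (ih (m - 1) (by omega) (by omega) _ _ (m - 8) (m - 8) (by omega)
      (hp.map z1 fun _ _ _ _ _ e => z2 e) hp (by simpa using fw 4 le_rfl) (by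
        have := bw 4 le_rfl
        rwa [← hc.per, show j - (4 : ℕ) + m = j + 4 + (m - 8 : ℕ) by omega] at this)).2 1 (by omega)
    simpa [add_assoc] using this

theorem Geo.uq (h : Geo adj pt) {f g : ℕ → V} {k l : ℕ} (hn : k + l ≤ 15) (hf : NS adj f k)
    (hg : NS adj g l) (e0 : f 0 = g 0) (e1 : f k = g l) : k = l ∧ ∀ i ≤ k, f i = g i :=
  h.uq_le 15 le_rfl f g k l hn hf hg e0 e1

/-- A map that fixes the ends of a short path fixes the path. -/
theorem Geo.fix (h : Geo adj pt) {f : ℕ → V} {k : ℕ} (hk : k ≤ 7) (hf : NS adj f k) {z : V → V}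
    (hz : ∀ u v, adj u v → adj (z u) (z v)) (hi : ∀ u v w, adj u v → adj v w → z u = z w → u = w)
    (e0 : z (f 0) = f 0) (e1 : z (f k) = f k) : ∀ i ≤ k, z (f i) = f i :=
  (h.uq (by omega) (hf.map hz hi) hf e0 e1).2

theorem Geo.pt_iff (h : Geo adj pt) {f : ℕ → V} {k : ℕ} (hf : Wk adj f k) :
    pt (f k) ↔ (pt (f 0) ↔ Even k) := by
  induction k with
  | zero => simp
  | succ k ih =>
    have := h.bip _ _ (hf k k.lt_succ_self)
    have := ih (hf.mono k.le_succ)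
    rw [Nat.even_add_one]
    tauto

/-- The diameter condition. -/
def Diam (adj : V → V → Prop) (pt : V → Prop) : Prop :=
  ∀ u v, (∃ u', adj u u') → (∃ v', adj v v') → pt u → ¬ pt v → Nr adj 7 u v

theorem Geo.opp (h : Geo adj pt) (hd : Diam adj pt) {f : ℕ → V} (hf : NS adj f 8) {y : V} (hy : adj (f 8) y) :
    ∃ g, NS adj g 7 ∧ g 0 = f 0 ∧ g 7 = y ∧ (y ≠ f 7 → g 1 ≠ f 1 ∧ g 6 ≠ f 8) := by
  by_cases e : y = f 7
  · exact ⟨f, hf.mono (by omega), rfl, e.symm, fun h => absurd e h⟩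
  obtain ⟨f', h1, h2, h3⟩ := hf.snoc hy fun _ => Ne.symm e
  have hp := h.pt_iff h1.wk
  rw [h3, h2 0 (by omega)] at hp
  have hn : Nr adj 7 (f 0) y := by
    by_cases hq : pt (f 0)
    · exact hd _ _ ⟨_, hf.wk 0 (by omega)⟩ ⟨_, h.symm _ _ hy⟩ hq (by simp [hp, hq]; decide)
    · exact (hd _ _ ⟨_, h.symm _ _ hy⟩ ⟨_, hf.wk 0 (by omega)⟩ (by simp [hp, hq]; decide) hq).symm h.symm
  obtain ⟨k, hk, g, hg, e0, e1⟩ := hn.ns
  obtain rfl : k = 7 := by
    by_contra hk'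
    have := (h.uq (by omega) hg h1 (e0.trans (h2 0 (by omega)).symm) (e1.trans h3.symm)).1
    omega
  refine ⟨g, hg, e0, e1, fun _ => ⟨fun e2 => ?_, fun e2 => ?_⟩⟩
  · have := (h.uq (by omega) (hg.drop 1) (h1.drop 1) (e2.trans (h2 1 (by omega)).symm)
      (e1.trans h3.symm)).1
    omega
  · have := (h.uq (by omega) (hg.mono (show 6 ≤ 7 by omega)) hf e0 e2).1
    omega

/-- An apartment through a path of length nine. -/
theorem Geo.exists_cyc (h : Geo adj pt) (hd : Diam adj pt) {f : ℕ → V} (hf : NS adj f 9) :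
    ∃ c, Cyc adj c 16 ∧ ∀ i : ℕ, i ≤ 9 → c i = f i := by
  obtain ⟨g, hg, e0, e1, h1⟩ := h.opp hd (hf.mono (by omega)) (hf.wk 8 (by omega))
  replace h1 := h1 (hf.ns 7 le_rfl).symm
  have e2 : f 9 = (fun i => g (7 - i)) 0 := e1.symm
  obtain ⟨c, hc, h2⟩ := (hf.cat (hg.rev h.symm) e2 fun _ _ => h1.2.symm).cyc (by omega)
    (by rw [cat_ge e2 (by omega), cat_le (by omega)]; exact e0)
    (by rw [cat_ge e2 (by omega), cat_le (by omega)]; exact h1.1)
  exact ⟨c, hc, fun i hi => by rw [h2 i (by omega), cat_le hi]⟩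

section Rigid

variable {α : V → V}

/-- `α` fixes `v` and its neighbours. -/
def Fl (adj : V → V → Prop) (α : V → V) (v : V) : Prop := α v = v ∧ ∀ u, adj v u → α u = u

theorem Geo.fl_opp (h : Geo adj pt) (hd : Diam adj pt) (hz : ∀ u v, adj u v → adj (α u) (α v))
    (hi : ∀ u v w, adj u v → adj v w → α u = α w → u = w) {f : ℕ → V} (hf : NS adj f 8)
    (h0 : Fl adj α (f 0)) (h8 : α (f 8) = f 8) : Fl adj α (f 8) := by
  refine ⟨h8, fun y hy => ?_⟩
  obtain ⟨g, hg, e0, e1, -⟩ := h.opp hd hf hy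
  have hne : g 6 ≠ f 8 := fun e => by
    have := (h.uq (by omega) (hg.mono (show 6 ≤ 7 by omega)) hf e0 e).1
    omega
  obtain ⟨g', h1, h2, h3⟩ := hg.snoc (e1 ▸ h.symm _ _ hy) fun _ => hne
  have := h.fix (k := 7) le_rfl (h1.drop 1) hz hi
    (h0.2 _ (by rw [← e0, ← h2 0 (by omega)]; exact h1.wk 0 (by omega))) (by simpa [h3] using h8) 6 (by omega)
  simpa [h2, e1] using this

theorem Geo.rigid (h : Geo adj pt) (hd : Diam adj pt)
    (thick : ∀ v v', adj v v' → ∀ x y, ∃ u, adj v u ∧ u ≠ x ∧ u ≠ y)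
    (hz : ∀ u v, adj u v → adj (α u) (α v))
    (hi : ∀ u v w, adj u v → adj v w → α u = α w → u = w) {f : ℕ → V} (hf : NS adj f 8)
    {v : V} (hv : adj (f 0) v) (h0 : Fl adj α (f 0)) (h1 : Fl adj α v) (h8 : α (f 8) = f 8) {n : ℕ} {u : V}
    (hu : Nr adj n (f 0) u) : α u = u := by
  obtain ⟨k, -, g, hg, e0, rfl⟩ := hu
  suffices H : ∃ v f, NS adj f 8 ∧ f 0 = g k ∧ adj (f 0) v ∧ Fl adj α (f 0) ∧ Fl adj α v ∧ α (f 8) = f 8 by
    obtain ⟨v, f, -, e, -, H, -⟩ := H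
    exact e ▸ H.1
  induction k with
  | zero => exact ⟨v, f, hf, e0.symm, hv, h0, h1, h8⟩
  | succ k ih =>
    obtain ⟨v, f, hf, e, hv, h0, h1, h8⟩ := ih (hg.mono k.le_succ)
    have hv' : adj (f 0) (g (k + 1)) := e ▸ hg k k.lt_succ_self
    have o := h.fl_opp hd hz hi hf h0 h8
    have hf' := hf.rev h.symm
    obtain ⟨p, hp, p0, p7, -⟩ := h.opp hd hf' (y := v) (by simpa using hv)
    obtain ⟨r, hr, r0, r7, -⟩ := h.opp hd hf' (y := g (k + 1)) (by simpa using hv')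
    simp only [Nat.sub_zero] at p0 r0
    obtain ⟨y, y1, y2, y3⟩ := thick (f 8) (f 7) (h.symm _ _ (hf.wk 7 (by omega))) (p 1) (r 1)
    obtain ⟨p', hp', p1, p2⟩ := (hp.rev h.symm).snoc (y := y) (by simpa [p0] using y1) fun _ => y2.symm
    obtain ⟨r', hr', r1, r2⟩ := (hr.rev h.symm).snoc (y := y) (by simpa [r0] using y1) fun _ => y3.symm
    have e1 : p' 0 = v := (p1 0 (by omega)).trans p7
    have e2 : r' 0 = g (k + 1) := (r1 0 (by omega)).trans r7
    have hy : Fl adj α y := p2 ▸ h.fl_opp hd hz hi hp' (e1 ▸ h1) (by rw [p2]; exact o.2 y y1)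
    have := h.fl_opp hd hz hi (hr'.rev h.symm) (by simpa [r2] using hy) (by simpa [e2] using h0.2 _ hv')
    exact ⟨f 0, r', hr', e2, e2 ▸ h.symm _ _ hv', by simpa using this, h0, by rw [r2]; exact hy.1⟩

end Rigid

end Cfsg.Agent.Oct
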