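import Cfsg.Agent.Oct.Sw
import Cfsg.Agent.Oct.Geo

/-!
The geometry of conjugates of `Z` and `W`.
-/

set_option autoImplicit false
set_option linter.unusedSectionVars false
set_option linter.unusedSimpArgs false
set_option linter.unnecessarySeqFocus false
set_option maxRecDepth 20000

namespace Cfsg.Agent.Oct

open Subgroup Fus
open scoped commutatorElement

variable {K : Type*} [Field K] [Tw K] {G : Type*} [Group G]

theorem exists_cj (g x : G) : ∃ y, x = g * y * g⁻¹ := ⟨g⁻¹ * x * g, by group⟩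

theorem exists_smul (g : G) (P : Subgroup G) : ∃ P', P = g • P' := ⟨g⁻¹ • P, by simp⟩

theorem smul_eq_of_mem {g : G} {P : Subgroup G} (h : g ∈ P) : g • P = P := smul_eq_iff.2 (le_normalizer h)

theorem mem_As_of {u : U K} (hu : u ∈ Qs) (h : ∀ v ∈ Qs, ⁅u, v⁆ ∈ (Zs : Subgroup (U K))) : u ∈ As := by
  have a1 := h (X1 1) ⟨rfl, rfl⟩
  have a4 := h (Y4 1) ⟨rfl, rfl⟩
  simp only [mem_Zs, commutatorElement_def, UE, hu.1, hu.2] at a1 a4
  have x1 : u.x1 = 0 := by grind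
  have y2 : u.y2 = 0 := by grind
  have y6 : u.y6 = 0 := by grind
  simp only [UE, x1, y2, y6] at a1 a4
  rw [mem_As]
  have := hu.1
  have := hu.2
  grind

theorem comm_AA {a b : U K} (ha : a ∈ As) (hb : b ∈ As) : a * b = b * a := by
  rw [mem_As] at ha hb
  ext <;> simp only [UE, ha, hb] <;> grind

theorem mem_Ys_of_comm {a b : U K} (ha : a ∈ As) (hb : b ∈ Bs) (h8 : b.x8 ≠ 0) (h : a * b = b * a) : a ∈ Ys := by
  rw [mem_As] at ha
  rw [mem_Bs] at hb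
  have h5 := congrArg U.x5 h
  have h6 := congrArg U.x6 h
  simp only [UE, ha, hb] at h5
  have x2 : a.x2 = 0 := by grind
  simp only [UE, ha, hb, x2] at h6
  rw [mem_Ys]
  grind

/-- `x` is a `2`-element that fixes `v` and `v'`. -/
def Fx (x : G) (v v' : Subgroup G) : Prop := Two x ∧ x • v = v ∧ x • v' = v'

/-- `x` is a `2`-element that fixes `v` and its neighbours. -/
def Full (A : Subgroup G → Subgroup G → Prop) (x : G) (v : Subgroup G) : Prop :=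
  Two x ∧ x • v = v ∧ ∀ u, A v u → x • u = u

theorem fx_conj {g x : G} {v v' : Subgroup G} : Fx (g * x * g⁻¹) (g • v) (g • v') ↔ Fx x v v' := by
  simp only [Fx, two_conj, conj_smul_eq]

theorem Fx.symm {x : G} {v v' : Subgroup G} (h : Fx x v v') : Fx x v' v := ⟨h.1, h.2.2, h.2.1⟩

theorem Full.fx {A : Subgroup G → Subgroup G → Prop} {x : G} {v v' : Subgroup G} (h : Full A x v) (e : A v v') :
    Fx x v v' := ⟨h.1, h.2.1, h.2.2 _ e⟩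

namespace Loc

variable (L : Loc K G)

/-- Incidence. -/
def adj (P P' : Subgroup G) : Prop := ∃ g : G, (P = g • L.Z ∧ P' = g • L.W) ∨ (P = g • L.W ∧ P' = g • L.Z)

/-- Points. -/
def pt (P : Subgroup G) : Prop := ∃ g : G, P = g • L.Z

/-- Membership in the second centre of the radical at a point. -/
def inA (x : G) (p : Subgroup G) : Prop := Full L.adj x p ∧ ∀ y, Full L.adj y p → ⁅x, y⁆ ∈ p

/-- Membership in the third centre at a line. -/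
def inY (x : G) (l : Subgroup G) : Prop := ∀ p, L.adj l p → L.inA x p

/-- The hypotheses in the non-degenerate case. -/
structure St1 (n : G) : Prop where
  H : L.Hyp
  sw : L.Sw n

variable {L} {g x y z n : G} {u v v' p p' c l l' m : Subgroup G}

theorem Same.adj {L' : Loc K G} (h : L.Same L') : L'.adj = L.adj := by
  funext P P'; simp only [Loc.adj, h.Z, h.W]

theorem Same.pt {L' : Loc K G} (h : L.Same L') : L'.pt = L.pt := by
  funext P; simp only [Loc.pt, h.Z]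

theorem adj.symm (h : L.adj u v) : L.adj v u := let ⟨g, h⟩ := h; ⟨g, by tauto⟩

theorem adj.smul (h : L.adj u v) (g : G) : L.adj (g • u) (g • v) := by
  obtain ⟨k, ⟨rfl, rfl⟩ | ⟨rfl, rfl⟩⟩ := h
  exacts [⟨g * k, .inl ⟨smul_smul .., smul_smul ..⟩⟩, ⟨g * k, .inr ⟨smul_smul .., smul_smul ..⟩⟩]

theorem adj_smul : L.adj (g • u) (g • v) ↔ L.adj u v := ⟨fun h => by simpa using h.smul g⁻¹, fun h => h.smul g⟩

theorem pt.smul (h : L.pt u) (g : G) : L.pt (g • u) := let ⟨k, e⟩ := h; ⟨g * k, by rw [e, smul_smul]⟩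

theorem pt_smul : L.pt (g • u) ↔ L.pt u := ⟨fun h => by simpa using h.smul g⁻¹, fun h => h.smul g⟩

theorem pt_Z : L.pt L.Z := ⟨1, by simp⟩

theorem adj_ZW : L.adj L.Z L.W := ⟨1, by simp⟩

theorem full_conj : Full L.adj (g * x * g⁻¹) (g • v) ↔ Full L.adj x v := by
  simp only [Full, two_conj, conj_smul_eq]
  refine and_congr_right' (and_congr_right' ⟨fun h u hu => conj_smul_eq.1 (h _ (hu.smul g)), fun h u hu => ?_⟩)
  obtain ⟨u, rfl⟩ := exists_smul g u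
  exact conj_smul_eq.2 (h _ (adj_smul.1 hu))

theorem inA_conj : L.inA (g * x * g⁻¹) (g • v) ↔ L.inA x v := by
  have : ∀ y, ⁅g * x * g⁻¹, g * y * g⁻¹⁆ = g * ⁅x, y⁆ * g⁻¹ := fun y => by
    simp only [commutatorElement_def]; group
  refine and_congr full_conj ⟨fun h y hy => conj_mem_smul.1 (this y ▸ h _ (full_conj.2 hy)), fun h y hy => ?_⟩
  obtain ⟨y, rfl⟩ := exists_cj g y
  exact this y ▸ conj_mem_smul.2 (h _ (full_conj.1 hy))

theorem inY_conj : L.inY (g * x * g⁻¹) (g • v) ↔ L.inY x v := by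
  refine ⟨fun h u hu => inA_conj.1 (h _ (hu.smul g)), fun h u hu => ?_⟩
  obtain ⟨u, rfl⟩ := exists_smul g u
  exact inA_conj.2 (h _ (adj_smul.1 hu))

theorem dd_conj : L.Dd (g * x * g⁻¹) ↔ L.Dd x :=
  ⟨fun h => by simpa [mul_assoc] using h.conj g⁻¹, fun h => h.conj g⟩

theorem Z_le_W : L.Z ≤ L.W := map_mono fun u hu => by rw [mem_Zs] at hu; simp only [mem_Ws, hu, and_self]

theorem pt.exists_mem (h : L.pt p) : ∃ z ∈ p, L.Dd z := by
  obtain ⟨g, rfl⟩ := h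
  exact ⟨_, conj_mem_smul.2 τ_mem, dd_τ.conj g⟩

theorem Dd.exists_pt (h : L.Dd z) : ∃ p, L.pt p ∧ z ∈ p := by
  obtain ⟨g, rfl⟩ := isConj_iff.1 h
  exact ⟨_, ⟨g, rfl⟩, conj_mem_smul.2 τ_mem⟩

theorem adj_C (hc : g ∈ L.C) : L.adj L.Z (g • L.W) := ⟨g, .inl ⟨(C_smul_Z hc).symm, rfl⟩⟩

variable [Finite K] [Finite G]

theorem w_smul_ne : L.w • L.W ≠ L.W := fun h => by
  obtain ⟨u, ν, e⟩ := inB_of_smul_W L.w_mem h
  refine one_ne_zero (L.ti (X8 1) (u * η ν (X8 1) * u⁻¹) 1 ?_).2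
  rw [map_one, mul_one, map_mul, map_mul, ← L.hN, map_inv, e]; group

namespace St1

variable (T : L.St1 n)
include T

theorem not_pt_W : ¬ L.pt L.W := fun ⟨g, e⟩ => by
  have h1 := T.H.smul_Z (g := g⁻¹) (by rw [← mem_inv_smul, inv_inv, ← e]; exact Z_le_W τ_mem)
  rw [inv_smul_eq_iff, ← e] at h1
  have : L.N (X6 1) ∈ L.Z := h1 ▸ N_mem_map.2 (by simp only [mem_Ws, UE, and_self])
  simpa [mem_Zs, UE] using N_mem_map.1 this

theorem flag (h : L.adj p l) (hp : L.pt p) : ∃ g : G, p = g • L.Z ∧ l = g • L.W := by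
  obtain ⟨g, h | ⟨rfl, -⟩⟩ := h
  exacts [⟨g, h⟩, (T.not_pt_W (pt_smul.1 hp)).elim]

theorem bip (h : L.adj u v) : L.pt u ↔ ¬ L.pt v := by
  obtain ⟨g, ⟨rfl, rfl⟩ | ⟨rfl, rfl⟩⟩ := h <;> simp [pt_smul, pt_Z, T.not_pt_W]

theorem pt_of (h : L.adj u v) (h' : L.adj v p) (hu : L.pt u) : L.pt p := by
  have := T.bip h; have := T.bip h'; tauto

theorem le (h : L.adj p l) (hp : L.pt p) : p ≤ l := by
  obtain ⟨g, rfl, rfl⟩ := T.flag h hp
  exact smul_le_smul Z_le_W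

theorem lines_C (h : L.adj L.Z l) : ∃ c ∈ L.C, l = c • L.W := by
  obtain ⟨g, e, rfl⟩ := T.flag h pt_Z
  exact T.H.smul_W e.symm

theorem lines_Z (h : L.adj L.Z l) : l = L.W ∨ ∃ a b, l = (L.N (Y8 a * X8 b) * L.w) • L.W := by
  obtain ⟨c, hc, rfl⟩ := T.lines_C h
  refine (L.bru c hc).imp InB.smul_W fun ⟨u, v, ν, e⟩ => ⟨u.y8, u.x8, ?_⟩
  obtain ⟨q, hq, e'⟩ := exists_U8 u
  rw [e, mul_smul, h_smul_W, mul_smul, N_smul_W]
  conv_lhs => rw [e', map_mul, mul_assoc, N_mul_w hq, ← mul_assoc, mul_smul, N_smul_W]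

theorem n_smul_W : n • L.W = L.W := smul_map_N fun u hu =>
  let ⟨v, _, e⟩ := T.sw.im u hu.1; ⟨v, T.sw.mapW e hu, e⟩

theorem n_smul_Z : n • L.Z = V6.map L.N := by
  ext x
  obtain ⟨x, rfl⟩ := exists_cj n x
  rw [conj_mem_smul]
  refine ⟨fun ⟨u, hu, e⟩ => ?_, fun ⟨u, hu, e⟩ => ?_⟩
  · obtain ⟨v, -, e'⟩ := T.sw.im u hu.1
    exact ⟨v, T.sw.mapZ e' hu, e ▸ Eq.symm e'⟩
  · obtain ⟨v, -, e'⟩ := T.sw.im' u hu.1
    exact ⟨v, T.sw.symm.mapV e' hu, by rw [← e', e]; group⟩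

theorem adj_n : L.adj L.W (n • L.Z) := ⟨n, .inr ⟨T.n_smul_W.symm, rfl⟩⟩

theorem adj_X1 (t : K) : L.adj L.W ((L.N (X1 t) * n) • L.Z) := by
  have := T.adj_n.smul (L.N (X1 t))
  rwa [N_smul_W, smul_smul] at this

theorem n_ne : n • L.Z ≠ L.Z := fun e => by
  have : L.τ ∈ V6.map L.N := T.n_smul_Z ▸ e.symm ▸ τ_mem
  simpa [mem_V6, UE] using N_mem_map.1 this

theorem mem_X1 {u : U K} (hu : u ∈ Ws) (h : u.x6 ≠ 0) : ∃ t, L.N u ∈ (L.N (X1 t) * n) • L.Z := by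
  obtain ⟨t, ht⟩ := exists_sol h u.x4
  refine ⟨t, ?_⟩
  rw [mul_smul, T.n_smul_Z, mem_smul, ← map_inv, ← map_mul, ← map_mul, N_mem_map]
  rw [mem_Ws] at hu
  simp only [mem_V6, UE, hu]
  grind

theorem dd_W {u : U K} (hu : u ∈ Ws) (h : u ≠ 1) : L.Dd (L.N u) := by
  have h6 := T.sw.t4.dd dd_τ
  by_cases h0 : u.x6 = 0
  · obtain ⟨v, -, e⟩ := T.sw.im u hu.1
    rw [mem_Ws] at hu
    have hv := T.sw.mapZ e (by simp only [mem_Zs, hu, h0, and_self])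
    rw [mem_V6] at hv
    refine e.sym.dd ((cls6 (by simp only [mem_Ws, hv, and_self]) fun h1 => h (e.uniq' ?_)).symm.dd h6)
    rw [show v = 1 by ext <;> simp only [UE, hv, h1]]
    exact Im.one
  · exact (cls6 hu h0).symm.dd h6

theorem dd_line (h : L.adj p l) (hp : L.pt p) (hz : z ∈ l) (h1 : z ≠ 1) : L.Dd z := by
  obtain ⟨g, rfl, rfl⟩ := T.flag h hp
  obtain ⟨z, rfl⟩ := exists_cj g z
  obtain ⟨u, hu, rfl⟩ := conj_mem_smul.1 hz
  exact (T.dd_W hu (by rintro rfl; simp at h1)).conj g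

theorem ti (hp : L.pt p) (hp' : L.pt p') (hz : z ∈ p) (hz' : z ∈ p') (h1 : z ≠ 1) : p = p' := by
  obtain ⟨g, rfl⟩ := hp
  obtain ⟨g', rfl⟩ := hp'
  obtain ⟨k, rfl⟩ := isConj_iff.1 (T.dd_line (adj_ZW.smul g) ⟨g, rfl⟩ (smul_le_smul Z_le_W hz) h1)
  have key : ∀ g : G, k * L.τ * k⁻¹ ∈ g • L.Z → g • L.Z = k • L.Z := fun g h => by
    rw [eq_comm, ← inv_smul_eq_iff, smul_smul]
    exact T.H.smul_Z (by simpa [mem_smul, mul_assoc] using h)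
  rw [key g hz, key g' hz']

theorem points_W (h : L.adj L.W p) : p = L.Z ∨ ∃ t, p = (L.N (X1 t) * n) • L.Z := by
  have hp : L.pt p := by simpa [T.not_pt_W] using T.bip h
  obtain ⟨z, hz, hd⟩ := hp.exists_mem
  obtain ⟨u, hu, rfl⟩ := T.le h.symm hp hz
  by_cases h6 : u.x6 = 0
  · refine .inl (T.ti hp pt_Z hz (N_mem_map.2 ?_) hd.ne)
    rw [SetLike.mem_coe, mem_Ws] at hu
    simp only [mem_Zs, hu, h6, and_self]
  · obtain ⟨t, ht⟩ := T.mem_X1 hu h6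
    exact .inr ⟨t, T.ti hp ⟨_, rfl⟩ hz ht hd.ne⟩

theorem cover_line (h : L.adj p l) (hp : L.pt p) (hz : z ∈ l) : ∃ p', L.adj l p' ∧ z ∈ p' := by
  obtain ⟨g, rfl, rfl⟩ := T.flag h hp
  obtain ⟨z, rfl⟩ := exists_cj g z
  obtain ⟨u, hu, rfl⟩ := conj_mem_smul.1 hz
  by_cases h6 : u.x6 = 0
  · refine ⟨_, h.symm, conj_mem_smul.2 (N_mem_map.2 ?_)⟩
    rw [SetLike.mem_coe, mem_Ws] at hu
    simp only [mem_Zs, hu, h6, and_self]
  · obtain ⟨t, ht⟩ := T.mem_X1 hu h6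
    exact ⟨_, (T.adj_X1 t).smul g, conj_mem_smul.2 ht⟩

theorem frame3 (h : L.adj p l) (h' : L.adj l p') (hp : L.pt p) (hne : p' ≠ p) :
    ∃ g : G, p = g • L.Z ∧ l = g • L.W ∧ p' = g • n • L.Z := by
  obtain ⟨g, rfl, rfl⟩ := T.flag h hp
  obtain ⟨p', rfl⟩ := exists_smul g p'
  rcases T.points_W (adj_smul.1 h') with rfl | ⟨t, rfl⟩
  · exact absurd rfl hne
  · exact ⟨g * L.N (X1 t), by rw [mul_smul, C_smul_Z (L.N_mem _)], by rw [mul_smul, N_smul_W],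
      by simp only [mul_smul]⟩

theorem frame3' (h : L.adj p l) (h' : L.adj p l') (hp : L.pt p) (hne : l' ≠ l) :
    ∃ g : G, p = g • L.Z ∧ l = g • L.W ∧ l' = g • L.w • L.W := by
  obtain ⟨g, rfl, rfl⟩ := T.flag h hp
  obtain ⟨l', rfl⟩ := exists_smul g l'
  rcases T.lines_Z (adj_smul.1 h') with rfl | ⟨a, b, rfl⟩
  · exact absurd rfl hne
  · exact ⟨g * L.N (Y8 a * X8 b), by rw [mul_smul, C_smul_Z (L.N_mem _)], by rw [mul_smul, N_smul_W],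
      by simp only [mul_smul]⟩

theorem comm_of_fix (hp : L.pt p) (h2 : Two x) (h : x • p = p) (hz : z ∈ p) : x * z = z * x := by
  obtain ⟨g, rfl⟩ := hp
  obtain ⟨z, rfl⟩ := exists_cj g z
  obtain ⟨x, rfl⟩ := exists_cj g x
  obtain ⟨s, rfl⟩ := mem_Z.1 (conj_mem_smul.1 hz)
  have := comm_Z (T.H.two_mem_Z (two_conj.1 h2) (conj_smul_eq.1 h)) s
  calc _ = g * (x * L.N (X4 s)) * g⁻¹ := by group
    _ = _ := by rw [this]; group

theorem smul_of_conj (hp : L.pt p) (hp' : L.pt p') (hz : z ∈ p) (h1 : z ≠ 1) (h : x * z * x⁻¹ ∈ p') :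
    x • p = p' := T.ti (hp.smul x) hp' (conj_mem_smul.2 hz) h (by simpa [mul_eq_one_iff_eq_inv] using h1)

theorem fix_of_comm (hp : L.pt p) (hz : z ∈ p) (h1 : z ≠ 1) (h : x * z = z * x) : x • p = p :=
  T.smul_of_conj hp hp hz h1 (by rwa [h, mul_inv_cancel_right])

theorem fx_base : Fx x L.Z L.W ↔ ∃ u, x = L.N u :=
  ⟨fun h => (inB_of_smul_W (T.H.two_mem_Z h.1 h.2.1) h.2.2).two h.1,
    fun ⟨u, e⟩ => e ▸ ⟨two_N u, C_smul_Z (L.N_mem u), N_smul_W u⟩⟩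

theorem mem_Q_of {u : U K} (h : L.N u • L.w • L.W = L.w • L.W) : u ∈ Qs := by
  obtain ⟨v, hv⟩ := T.fx_base.1 (show Fx (L.w * L.N u * L.w⁻¹) L.Z L.W from ⟨(two_N u).conj _,
    C_smul_Z (mul_mem (mul_mem L.w_mem (L.N_mem u)) (inv_mem L.w_mem)), by
      rw [w_inv, mul_smul, mul_smul, h, smul_smul, L.ww, one_smul]⟩)
  exact L.ti u v 1 (by rw [hv, map_one L.h, mul_one])

theorem full_Z : Full L.adj x L.Z ↔ ∃ u ∈ Qs, x = L.N u := by
  refine ⟨fun h => ?_, fun ⟨u, hu, e⟩ => e ▸ ⟨two_N u, C_smul_Z (L.N_mem u), fun l hl => ?_⟩⟩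
  · obtain ⟨u, rfl⟩ := T.fx_base.1 (h.fx adj_ZW)
    exact ⟨u, T.mem_Q_of (h.2.2 _ (adj_C L.w_mem)), rfl⟩
  · obtain ⟨c, hc, rfl⟩ := T.lines_C hl
    obtain ⟨v, -, e⟩ := conj_Q (inv_mem hc) hu
    rw [← inv_smul_eq_iff, ← inv_inv c, inv_inv c⁻¹, smul_smul, smul_smul, e, N_smul_W]

theorem mem_R_of {u : U K} (h : L.N u • n • L.Z = n • L.Z) : u.x1 = 0 := by
  have := T.comm_of_fix ⟨n, rfl⟩ (two_N u) h (z := L.N (X6 1))
    (T.n_smul_Z ▸ N_mem_map.2 (by simp only [mem_V6, UE, and_self]))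
  exact comm6.1 (L.inj (by rw [map_mul, map_mul, this]))

theorem full_of_comm (h : L.adj p l) (hp : L.pt p) (h2 : Two x) (hc : ∀ z ∈ l, x * z = z * x) :
    Full L.adj x l := ⟨h2, smul_eq_of_comm hc, fun _ hu =>
  smul_eq_of_comm fun z hz => hc z (T.le hu.symm (T.pt_of h hu hp) hz)⟩

theorem full_W : Full L.adj x L.W ↔ ∃ u : U K, u.x1 = 0 ∧ x = L.N u := by
  refine ⟨fun h => ?_, fun ⟨u, hu, e⟩ => e ▸ T.full_of_comm adj_ZW pt_Z (two_N u) ?_⟩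
  · obtain ⟨u, rfl⟩ := T.fx_base.1 (h.fx adj_ZW.symm).symm
    exact ⟨u, T.mem_R_of (h.2.2 _ T.adj_n), rfl⟩
  · rintro _ ⟨v, hv, rfl⟩
    rw [← map_mul, ← map_mul, comm_WR hv hu]

theorem inA_Z : L.inA x L.Z ↔ ∃ u ∈ As, x = L.N u := by
  refine ⟨fun h => ?_, fun ⟨u, hu, e⟩ => e ▸ ⟨T.full_Z.2 ⟨u, hu.2.2.2.2.2, rfl⟩, fun y hy => ?_⟩⟩
  · obtain ⟨u, hu, rfl⟩ := T.full_Z.1 h.1
    exact ⟨u, mem_As_of hu fun v hv => (N_mem_map (L := L)).1 (by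
      rw [map_commutatorElement]; exact h.2 _ (T.full_Z.2 ⟨v, hv, rfl⟩)), rfl⟩
  · obtain ⟨v, hv, rfl⟩ := T.full_Z.1 hy
    rw [← map_commutatorElement, ← commutatorElement_inv]
    exact N_mem_map.2 (inv_mem (comm_QA hv hu))

theorem inA_n : L.inA x (n • L.Z) ↔ ∃ u ∈ Bs, x = L.N u := by
  obtain ⟨x, rfl⟩ := exists_cj n x
  rw [inA_conj, T.inA_Z]
  refine ⟨fun ⟨u, hu, e⟩ => ?_, fun ⟨u, hu, e⟩ => ?_⟩
  · obtain ⟨v, -, e'⟩ := T.sw.im u hu.1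
    exact ⟨v, T.sw.mapA e' hu, e ▸ e'⟩
  · obtain ⟨v, -, e'⟩ := T.sw.im' u hu.1
    exact ⟨v, T.sw.symm.mapB e' hu, by rw [← e', ← e]; group⟩

theorem AA_base (h : L.inA x L.Z) (h' : L.inA x (n • L.Z)) : ∃ u ∈ Ys, x = L.N u := by
  obtain ⟨u, hu, rfl⟩ := T.inA_Z.1 h
  obtain ⟨v, hv, e⟩ := T.inA_n.1 h'
  obtain rfl := L.inj e
  rw [mem_As] at hu
  rw [mem_Bs] at hv
  exact ⟨u, by simp only [mem_Ys, hu, hv, and_self], rfl⟩

theorem inY_W : L.inY x L.W ↔ ∃ u ∈ Ys, x = L.N u := by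
  refine ⟨fun h => T.AA_base (h _ adj_ZW.symm) (h _ T.adj_n), fun ⟨u, hu, e⟩ p hp => ?_⟩
  rw [mem_Ys] at hu
  rcases T.points_W hp with rfl | ⟨t, rfl⟩
  · exact T.inA_Z.2 ⟨u, by simp only [mem_As, hu, and_self], e⟩
  · obtain ⟨x, rfl⟩ := exists_cj (L.N (X1 t)) x
    rw [mul_smul, inA_conj, T.inA_n]
    exact ⟨(X1 t)⁻¹ * u * X1 t, by simp only [mem_Bs, UE, hu, and_self], by
      rw [map_mul, map_mul, map_inv, ← e]; group⟩

theorem AA (h : L.adj p l) (h' : L.adj l p') (hp : L.pt p) (hne : p' ≠ p) (hx : L.inA x p) (hx' : L.inA x p') :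
    L.inY x l := by
  obtain ⟨g, rfl, rfl, rfl⟩ := T.frame3 h h' hp hne
  obtain ⟨x, rfl⟩ := exists_cj g x
  exact inY_conj.2 (T.inY_W.2 (T.AA_base (inA_conj.1 hx) (inA_conj.1 hx')))

theorem fx_mul (h : L.adj v v') (hx : Fx x v v') (hy : Fx y v v') : Fx (x * y) v v' := by
  have key : ∀ g : G, Fx x (g • L.Z) (g • L.W) → Fx y (g • L.Z) (g • L.W) → Fx (x * y) (g • L.Z) (g • L.W) := by
    intro g hx hy
    obtain ⟨x, rfl⟩ := exists_cj g x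
    obtain ⟨y, rfl⟩ := exists_cj g y
    obtain ⟨a, rfl⟩ := T.fx_base.1 (fx_conj.1 hx)
    obtain ⟨b, rfl⟩ := T.fx_base.1 (fx_conj.1 hy)
    rw [show g * L.N a * g⁻¹ * (g * L.N b * g⁻¹) = g * L.N (a * b) * g⁻¹ by rw [map_mul]; group]
    exact fx_conj.2 (T.fx_base.2 ⟨_, rfl⟩)
  obtain ⟨g, ⟨rfl, rfl⟩ | ⟨rfl, rfl⟩⟩ := h
  exacts [key g hx hy, (key g hx.symm hy.symm).symm]

omit T in
theorem _root_.Cfsg.Agent.Oct.Fx.inv (hx : Fx x v v') : Fx x⁻¹ v v' :=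
  ⟨let ⟨k, hk⟩ := hx.1; ⟨k, by rw [inv_pow, hk, inv_one]⟩, inv_smul_eq_iff.2 hx.2.1.symm,
    inv_smul_eq_iff.2 hx.2.2.symm⟩

theorem full_mul (h : L.adj v v') (hx : Full L.adj x v) (hy : Full L.adj y v) : Full L.adj (x * y) v :=
  ⟨(T.fx_mul h (hx.fx h) (hy.fx h)).1, by rw [mul_smul, hy.2.1, hx.2.1],
    fun u hu => by rw [mul_smul, hy.2.2 u hu, hx.2.2 u hu]⟩

omit T in
theorem _root_.Cfsg.Agent.Oct.Full.inv (hx : Full L.adj x v) : Full L.adj x⁻¹ v :=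
  ⟨let ⟨k, hk⟩ := hx.1; ⟨k, by rw [inv_pow, hk, inv_one]⟩, inv_smul_eq_iff.2 hx.2.1.symm,
    fun u hu => inv_smul_eq_iff.2 (hx.2.2 u hu).symm⟩

omit T in
theorem _root_.Cfsg.Agent.Oct.Full.cj (hx : Full L.adj x v) (hg : g • v = v) : Full L.adj (g * x * g⁻¹) v :=
  hg ▸ full_conj.2 hx

theorem two_nb (h : L.adj v v') (hx : Fx x v v') (h' : L.adj v u) (hne : u ≠ v') (hu : x • u = u) :
    Full L.adj x v := by
  by_cases hp : L.pt v
  · obtain ⟨g, rfl, rfl, rfl⟩ := T.frame3' h h' hp hne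
    obtain ⟨x, rfl⟩ := exists_cj g x
    obtain ⟨a, rfl⟩ := T.fx_base.1 (fx_conj.1 hx)
    exact full_conj.2 (T.full_Z.2 ⟨a, T.mem_Q_of (conj_smul_eq.1 hu), rfl⟩)
  · obtain ⟨g, rfl, rfl, rfl⟩ := T.frame3 h.symm h' (by simpa [hp] using T.bip h) hne
    obtain ⟨x, rfl⟩ := exists_cj g x
    obtain ⟨a, rfl⟩ := T.fx_base.1 (fx_conj.1 hx.symm)
    exact full_conj.2 (T.full_W.2 ⟨a, T.mem_R_of (conj_smul_eq.1 hu), rfl⟩)

theorem reg {ι : Type*} [Finite ι] (e : ι → Subgroup G) (he : ∀ u, L.adj v u → u ≠ v' → ∃ a, u = e a)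
    (h : L.adj v v') (f : ι → G) (hf : ∀ a, Fx (f a) v v') (hi : ∀ a b, Full L.adj ((f a)⁻¹ * f b) v → a = b)
    (h1 : L.adj v l) (n1 : l ≠ v') (h2 : L.adj v l') (n2 : l' ≠ v') : ∃ a, f a • l = l' := by
  choose r hr using fun a => he (f a • l) ((hf a).2.1 ▸ h1.smul (f a))
    fun e => n1 (smul_left_cancel (f a) (e.trans (hf a).2.2.symm))
  have : Function.Injective r := fun a b e => hi a b (T.two_nb h (T.fx_mul h (hf a).inv (hf b)) h1 n1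
    (by rw [mul_smul, inv_smul_eq_iff, hr, hr, e]))
  obtain ⟨a, rfl⟩ := he _ h2 n2
  obtain ⟨b, rfl⟩ := Finite.injective_iff_surjective.1 this a
  exact ⟨b, hr b⟩

theorem regP (hp : L.pt v) (h : L.adj v v') (f : K × K → G) (hf : ∀ a, Fx (f a) v v')
    (hi : ∀ a b, Full L.adj ((f a)⁻¹ * f b) v → a = b)
    (h1 : L.adj v l) (n1 : l ≠ v') (h2 : L.adj v l') (n2 : l' ≠ v') : ∃ a, f a • l = l' := by
  obtain ⟨g, rfl, rfl⟩ := T.flag h hp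
  refine T.reg (fun a : K × K => g • (L.N (Y8 a.1 * X8 a.2) * L.w) • L.W) (fun u hu hne => ?_) h f hf hi h1 n1 h2 n2
  obtain ⟨u, rfl⟩ := exists_smul g u
  rcases T.lines_Z (adj_smul.1 hu) with rfl | ⟨a, b, rfl⟩
  exacts [absurd rfl hne, ⟨(a, b), rfl⟩]

theorem regL (hp : L.pt v') (h : L.adj v v') (f : K → G) (hf : ∀ a, Fx (f a) v v')
    (hi : ∀ a b, Full L.adj ((f a)⁻¹ * f b) v → a = b)
    (h1 : L.adj v l) (n1 : l ≠ v') (h2 : L.adj v l') (n2 : l' ≠ v') : ∃ a, f a • l = l' := by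
  obtain ⟨g, rfl, rfl⟩ := T.flag h.symm hp
  refine T.reg (fun a : K => g • (L.N (X1 a) * n) • L.Z) (fun u hu hne => ?_) h f hf hi h1 n1 h2 n2
  obtain ⟨u, rfl⟩ := exists_smul g u
  rcases T.points_W (adj_smul.1 hu) with rfl | ⟨a, rfl⟩
  exacts [absurd rfl hne, ⟨a, rfl⟩]

theorem thick (h : L.adj v v') (x y : Subgroup G) : ∃ u, L.adj v u ∧ u ≠ x ∧ u ≠ y := by
  suffices H : ∃ a b c, L.adj v a ∧ L.adj v b ∧ L.adj v c ∧ a ≠ b ∧ a ≠ c ∧ b ≠ c by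
    obtain ⟨a, b, c, ha, hb, hc, h1, h2, h3⟩ := H
    by_contra! H
    by_cases e1 : a = x
    · exact h3 ((H b hb (e1 ▸ h1.symm)).trans (H c hc (e1 ▸ h2.symm)).symm)
    by_cases e2 : b = x
    · exact h2 ((H a ha e1).trans (H c hc (e2 ▸ h3.symm)).symm)
    exact h1 ((H a ha e1).trans (H b hb e2).symm)
  obtain ⟨g, ⟨rfl, rfl⟩ | ⟨rfl, rfl⟩⟩ := h
  · refine ⟨_, _, _, adj_ZW.smul g, (adj_C L.w_mem).smul g, (adj_C (mul_mem (L.N_mem (X8 1)) L.w_mem)).smul g,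
      fun e => w_smul_ne (smul_left_cancel g e).symm, fun e => w_smul_ne (L := L) ?_, fun e => ?_⟩
    · have := smul_left_cancel g e
      rw [mul_smul, ← inv_smul_eq_iff, ← map_inv, N_smul_W] at this
      exact this.symm
    · exact one_ne_zero (T.mem_Q_of (u := X8 1) ((smul_smul ..).trans (smul_left_cancel g e).symm)).2
  · refine ⟨_, _, _, adj_ZW.symm.smul g, T.adj_n.smul g, (T.adj_X1 1).smul g,
      fun e => T.n_ne (smul_left_cancel g e).symm, fun e => T.n_ne ?_, fun e => ?_⟩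
    · have := smul_left_cancel g e
      rw [mul_smul, ← inv_smul_eq_iff, ← map_inv, C_smul_Z (L.N_mem _)] at this
      exact this.symm
    · exact one_ne_zero (T.mem_R_of (u := X1 1) ((smul_smul ..).trans (smul_left_cancel g e).symm))

end St1

end Loc

end Cfsg.Agent.Oct
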