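import Cfsg.Agent.Oct.Gm1

/-!
The geometry of conjugates of `Z` and `W` is a generalised octagon.
-/

set_option autoImplicit false
set_option linter.unusedSectionVars false
set_option linter.unusedSimpArgs false
set_option linter.unnecessarySeqFocus false
set_option maxRecDepth 20000

namespace Cfsg.Agent.Oct

open Subgroup Fus
open scoped commutatorElement

variable {K : Type*} [Field K] [Tw K] {G : Type*} [Group G]

theorem dihedral [Finite G] {a b : G} (ha : a * a = 1) (hb : b * b = 1)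
    (hn : ∀ k : ℕ, (a * b) ^ k * a * ((a * b) ^ k)⁻¹ ≠ b) : ∃ s : G, s * s = 1 ∧ s ≠ 1 ∧ s * a = a * s ∧
      s * b = b * s ∧ (∀ t, t * a = a * t → t * b = b * t → s * t = t * s) ∧
      (IsConj a (s * a) ∧ IsConj b (s * b) ∨ IsConj b (s * a) ∧ IsConj a (s * b)) := by
  have ia : a⁻¹ = a := inv_eq_of_mul_eq_one_left ha
  have ib : b⁻¹ = b := inv_eq_of_mul_eq_one_left hb
  have h1 : ∀ k : ℕ, a * ((a * b) ^ k)⁻¹ = (a * b) ^ k * a := fun k => by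
    have : a * (a * b)⁻¹ * a⁻¹ = a * b := by
      rw [mul_inv_rev, ib, ia, mul_assoc, mul_assoc, ha, mul_one]
    rw [← inv_pow, ← this, conj_pow, this]; group
  have h2 : ∀ k : ℕ, b * ((a * b) ^ k)⁻¹ = (a * b) ^ k * b := fun k => by
    have : b * (a * b)⁻¹ * b⁻¹ = a * b := by
      rw [mul_inv_rev, ia, ib, ← mul_assoc, hb, one_mul]
    rw [← inv_pow, ← this, conj_pow, this]; group
  have c1 : ∀ k : ℕ, (a * b) ^ k * a * ((a * b) ^ k)⁻¹ = (a * b) ^ (k + k) * a := fun k => by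
    rw [mul_assoc, h1, ← mul_assoc, ← pow_add]
  have c2 : ∀ k : ℕ, (a * b) ^ k * b * ((a * b) ^ k)⁻¹ = (a * b) ^ (k + k) * b := fun k => by
    rw [mul_assoc, h2, ← mul_assoc, ← pow_add]
  have ho := pow_orderOf_eq_one (a * b)
  rcases Nat.even_or_odd' (orderOf (a * b)) with ⟨k, e | e⟩
  · have hk : (a * b) ^ k * (a * b) ^ k = 1 := by rw [← pow_add, ← two_mul, ← e, ho]
    have hi : ((a * b) ^ k)⁻¹ = (a * b) ^ k := inv_eq_of_mul_eq_one_left hk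
    have hp := orderOf_pos (a * b)
    refine ⟨(a * b) ^ k, hk, pow_ne_one_of_lt_orderOf (by omega) (by omega), by rw [← h1, hi], by rw [← h2, hi],
      fun t h h' => ((Commute.mul_right h h').pow_right k).symm, ?_⟩
    rcases Nat.even_or_odd' k with ⟨j, rfl | rfl⟩
    · exact .inl ⟨isConj_iff.2 ⟨_, by rw [c1, two_mul]⟩, isConj_iff.2 ⟨_, by rw [c2, two_mul]⟩⟩
    · refine .inr ⟨isConj_iff.2 ⟨(a * b) ^ (j + 1), ?_⟩, isConj_iff.2 ⟨(a * b) ^ j, ?_⟩⟩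
      · rw [c2, show j + 1 + (j + 1) = 2 * j + 1 + 1 by ring, pow_succ _ (2 * j + 1), mul_assoc, mul_assoc, hb, mul_one]
      · rw [c1, pow_succ, mul_assoc, mul_assoc, hb, mul_one, two_mul]
  · refine absurd ?_ (hn k)
    rw [e, pow_succ, two_mul] at ho
    rw [c1]
    exact (eq_inv_of_mul_eq_one_left (by rw [mul_assoc, ho])).trans ib

namespace Loc

variable {L : Loc K G} {g x y z z' s t d n : G} {u v v' p p' r c c' l l' m m' : Subgroup G}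

variable (L) in
/-- `m` is a line that belongs to the involution `t`. -/
structure BI (t : G) (m : Subgroup G) : Prop where
  ln : ∃ p, L.adj m p ∧ L.pt p
  inY : L.inY t m
  nd : ¬ L.Dd t
  ne : t ≠ 1

theorem BI.cj (h : L.BI t m) (g : G) : L.BI (g * t * g⁻¹) (g • m) :=
  ⟨let ⟨_, h1, h2⟩ := h.ln; ⟨_, h1.smul g, h2.smul g⟩, inY_conj.2 h.inY, by rw [dd_conj]; exact h.nd,
    by simpa [mul_eq_one_iff_eq_inv] using h.ne⟩

theorem BI.comm (h : L.BI t m) (e : g * t = t * g) : L.BI t (g • m) := by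
  simpa [e] using h.cj g

theorem inA.comm (h : L.inA t p) (e : g * t = t * g) : L.inA t (g • p) := by
  simpa [e] using (inA_conj (g := g)).2 h

variable [Finite K] [Finite G]

namespace St1

variable (T : L.St1 n)
include T

theorem bi_pt (h : L.BI t m) (hp : L.adj m p) : L.pt p :=
  let ⟨_, h1, h2⟩ := h.ln; T.pt_of h1.symm hp h2

theorem inA_line (h : L.adj c l) (hc : L.pt c) (ht : t ∈ l) : L.inA t c := by
  obtain ⟨g, rfl, rfl⟩ := T.flag h hc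
  obtain ⟨t, rfl⟩ := exists_cj g t
  obtain ⟨u, hu, rfl⟩ := conj_mem_smul.1 ht
  rw [SetLike.mem_coe, mem_Ws] at hu
  exact inA_conj.2 (T.inA_Z.2 ⟨u, by simp only [mem_As, hu, and_self], rfl⟩)

theorem inA_comm (hc : L.pt c) (hx : L.inA x c) (hy : L.inA y c) : x * y = y * x := by
  obtain ⟨g, rfl⟩ := hc
  obtain ⟨x, rfl⟩ := exists_cj g x
  obtain ⟨y, rfl⟩ := exists_cj g y
  obtain ⟨a, ha, rfl⟩ := T.inA_Z.1 (inA_conj.1 hx)
  obtain ⟨b, hb, rfl⟩ := T.inA_Z.1 (inA_conj.1 hy)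
  calc _ = g * L.N (a * b) * g⁻¹ := by rw [map_mul]; group
    _ = _ := by rw [comm_AA ha hb, map_mul]; group

theorem inA_sq (hc : L.pt c) (hx : L.inA x c) : x * x = 1 := by
  obtain ⟨g, rfl⟩ := hc
  obtain ⟨x, rfl⟩ := exists_cj g x
  obtain ⟨a, ha, rfl⟩ := T.inA_Z.1 (inA_conj.1 hx)
  rw [mem_As] at ha
  calc _ = g * L.N (a * a) * g⁻¹ := by rw [map_mul]; group
    _ = _ := by rw [show a * a = 1 by ext <;> simp only [UE, ha]]; simp

theorem inA_fix (h : L.adj c l) (h' : L.adj l p) (hc : L.pt c) (ht : L.inA t c) : t • p = p :=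
  smul_eq_of_comm fun _ hz => T.inA_comm hc ht (T.inA_line h hc (T.le h'.symm (T.pt_of h h' hc) hz))

omit T in
theorem _root_.Cfsg.Agent.Oct.Loc.Cj.mem {a b : U K} (h : L.Cj a b) (hb : b ∈ Ws) :
    ∃ l, L.adj L.Z l ∧ L.N a ∈ l :=
  let ⟨_, hc, e⟩ := h; ⟨_, adj_C (inv_mem hc), mem_inv_smul.2 (e ▸ N_mem_map.2 hb)⟩

theorem ddQ (hp : L.pt p) (hd : L.Dd d) (h : Full L.adj d p) : ∃ l, L.adj p l ∧ d ∈ l := by
  obtain ⟨g, rfl⟩ := hp
  obtain ⟨d, rfl⟩ := exists_cj g d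
  obtain ⟨a, ha, rfl⟩ := T.full_Z.1 (full_conj.1 h)
  rw [dd_conj] at hd
  suffices H : ∃ l, L.adj L.Z l ∧ L.N a ∈ l from let ⟨l, h1, h2⟩ := H; ⟨_, h1.smul g, conj_mem_smul.2 h2⟩
  rcases clsQ (L := L) (L.inj (by rw [map_mul, hd.sq, map_one])) ha with (h | h | h) | h
  · exact ⟨_, adj_ZW, Z_le_W (N_mem_map.2 h)⟩
  · exact h.mem (by simp only [mem_Ws, UE, and_self])
  · exact (T.H.not_dd5 (h.dd hd)).elim
  · exact (T.sw.not_dd7 T.H (h.dd hd)).elim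

theorem bi5 : L.BI (L.N (X5 1)) L.W :=
  ⟨⟨_, adj_ZW.symm, pt_Z⟩, T.inY_W.2 ⟨_, by simp only [mem_Ys, UE, and_self], rfl⟩, T.H.not_dd5,
    fun e => one_ne_zero (congrArg U.x5 (N_eq_one.1 e))⟩

theorem exists_bi (hc : L.pt c) (ht : L.inA t c) (hd : ¬ L.Dd t) (h1 : t ≠ 1) : ∃ m, L.adj c m ∧ L.BI t m := by
  obtain ⟨g, rfl⟩ := hc
  obtain ⟨t, rfl⟩ := exists_cj g t
  obtain ⟨a, ha, rfl⟩ := T.inA_Z.1 (inA_conj.1 ht)
  rw [dd_conj] at hd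
  have h2 : L.N a ≠ 1 := fun e => h1 (by simp [e])
  rcases clsA (L := L) ha with h | h | ⟨c, hc, e⟩
  · exact (hd (T.dd_line adj_ZW pt_Z (Z_le_W (N_mem_map.2 h)) h2)).elim
  · exact (hd (h.symm.dd (T.sw.t4.dd dd_τ))).elim
  · refine ⟨_, (adj_C (inv_mem hc)).smul g, BI.cj ?_ g⟩
    simpa [← e, mul_assoc] using T.bi5.cj c⁻¹

theorem mem_x6 {a : U K} (ha : a ∈ Ws) (hp : L.pt p) (hne : p ≠ L.Z) (h : L.N a ∈ p) (h1 : L.N a ≠ 1) : a.x6 ≠ 0 :=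
  fun h6 => hne (T.ti hp pt_Z h (N_mem_map.2 (by rw [mem_Ws] at ha; simp only [mem_Zs, ha, h6, and_self])) h1)

theorem sec (hc : L.pt c) (h1 : L.adj c l) (h2 : L.adj c l') (hne : l' ≠ l) (h3 : L.adj l p) (h4 : L.adj l' p')
    (n3 : p ≠ c) (n4 : p' ≠ c) (hz : z ∈ p) (hz' : z' ∈ p') (z1 : z ≠ 1) (z2 : z' ≠ 1) :
    ¬ L.Dd (z * z') ∧ z * z' ≠ 1 := by
  have hp := T.pt_of h1 h3 hc
  have hp' := T.pt_of h2 h4 hc
  obtain ⟨g, rfl, rfl, rfl⟩ := T.frame3' h1 h2 hc hne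
  obtain ⟨z, rfl⟩ := exists_cj g z
  obtain ⟨z', rfl⟩ := exists_cj (g * L.w) z'
  obtain ⟨p, rfl⟩ := exists_smul g p
  obtain ⟨p', rfl⟩ := exists_smul (g * L.w) p'
  rw [smul_smul, adj_smul] at h4
  rw [adj_smul] at h3
  rw [pt_smul] at hp hp'
  rw [conj_mem_smul] at hz hz'
  obtain ⟨a, ha, rfl⟩ := T.le h3.symm hp hz
  obtain ⟨b, hb, rfl⟩ := T.le h4.symm hp' hz'
  have a6 := T.mem_x6 ha hp (fun e => n3 (by rw [e])) hz fun e => z1 (by simp [e])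
  have b6 := T.mem_x6 hb hp' (fun e => n4 (by rw [e, mul_smul, C_smul_Z L.w_mem])) hz' fun e => z2 (by simp [e])
  rw [SetLike.mem_coe, mem_Ws] at ha hb
  rw [show g * L.N a * g⁻¹ * (g * L.w * L.N b * (g * L.w)⁻¹) = g * L.N (a * ω b) * g⁻¹ by
    rw [map_mul, ← L.wN b (by simp only [mem_Qs, hb, and_self])]; group, dd_conj]
  have := sec0 (L := L) (a := a * ω b) (by simp only [mem_As, UE, ha, hb, and_self]) (by simpa only [UE, ha, hb] using b6)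
    (by simp only [UE, ha, hb]) (by simp only [UE, ha, hb]) (by simpa only [UE, ha, hb] using a6)
  refine ⟨fun hd => T.H.not_dd5 (this.dd hd), fun e => T.bi5.ne (isConj_one_left.1 ?_)⟩
  rw [mul_inv_eq_one, mul_eq_left] at e
  exact e ▸ this.isConj.symm

theorem L1 (hp : L.pt p) (hz : z ∈ p) (h : Nr L.adj 4 p v) : z • v = v := by
  obtain ⟨k, hk, f, hf, rfl, rfl⟩ := h
  rcases (by omega : k = 0 ∨ k = 1 ∨ 2 ≤ k) with rfl | rfl | h2
  · exact smul_eq_of_mem hz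
  · exact smul_eq_of_mem (T.le (hf 0 (by omega)) hp hz)
  have a0 := hf 0 (by omega)
  have a1 := hf 1 (by omega)
  have p2 := T.pt_of a0 a1 hp
  have hA := T.inA_line a1.symm p2 (T.le a0 hp hz)
  rcases (by omega : k = 2 ∨ k = 3 ∨ k = 4) with rfl | rfl | rfl
  · exact hA.1.2.1
  · exact hA.1.2.2 _ (hf 2 (by omega))
  · exact T.inA_fix (hf 2 (by omega)) (hf 3 (by omega)) p2 hA

theorem dd_pt (hp : L.pt p) (hz : z ∈ p) (h1 : z ≠ 1) : L.Dd z := by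
  obtain ⟨g, rfl⟩ := hp
  exact T.dd_line (adj_ZW.smul g) ⟨g, rfl⟩ (smul_le_smul Z_le_W hz) h1

theorem sec' {f : ℕ → Subgroup G} (hf : NS L.adj f 4) (hp : L.pt (f 0)) (hz : z ∈ f 0) (hz' : z' ∈ f 4)
    (z1 : z ≠ 1) (z2 : z' ≠ 1) : ¬ L.Dd (z * z') ∧ z * z' ≠ 1 :=
  T.sec (T.pt_of (hf.wk 0 (by omega)) (hf.wk 1 (by omega)) hp) (hf.wk 1 (by omega)).symm (hf.wk 2 (by omega))
    (hf.ns 1 (by omega)).symm (hf.wk 0 (by omega)).symm (hf.wk 3 (by omega)) (hf.ns 0 (by omega))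
    (hf.ns 2 (by omega)).symm hz hz' z1 z2

theorem L2 {f : ℕ → Subgroup G} (hf : NS L.adj f 5) (hp : L.pt (f 0)) (hz : z ∈ f 0) (h1 : z ≠ 1) :
    z • f 5 ≠ f 5 := fun e => by
  have hd := T.dd_pt hp hz h1
  have p4 := T.pt_of (hf.wk 2 (by omega)) (hf.wk 3 (by omega)) (T.pt_of (hf.wk 0 (by omega)) (hf.wk 1 (by omega)) hp)
  have := T.two_nb (hf.wk 3 (by omega)).symm ⟨.of_sq hd.sq,
    T.L1 hp hz ⟨4, le_rfl, f, hf.wk.mono (by omega), rfl, rfl⟩,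
    T.L1 hp hz ⟨3, by omega, f, hf.wk.mono (by omega), rfl, rfl⟩⟩ (hf.wk 4 (by omega)) (hf.ns 3 le_rfl).symm e
  obtain ⟨l, h2, h3⟩ := T.ddQ p4 hd this
  obtain ⟨z', hz', hd'⟩ := p4.exists_mem
  have := T.sec' (hf.mono (by omega)) hp hz hz' h1 hd'.ne
  exact this.1 (T.dd_line h2 p4 (mul_mem h3 (T.le h2 p4 hz')) this.2)

theorem geo : Geo L.adj L.pt := ⟨fun _ _ => adj.symm, fun _ _ => T.bip, fun _ hp =>
  let ⟨z, hz, hd⟩ := hp.exists_mem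
  ⟨(z • ·), fun _ _ h => h.smul z, MulAction.injective z, fun _ => T.L1 hp hz,
    fun _ hf e => T.L2 hf (e ▸ hp) (e ▸ hz) hd.ne⟩⟩

theorem fix {f : ℕ → Subgroup G} {k : ℕ} (hk : k ≤ 7) (hf : NS L.adj f k) (e0 : g • f 0 = f 0)
    (e1 : g • f k = f k) : ∀ i ≤ k, g • f i = f i :=
  T.geo.fix hk hf (z := (g • ·)) (fun _ _ h => h.smul g) (fun _ _ _ _ _ e => smul_left_cancel g e) e0 e1

theorem yuniq (h : L.adj c m) (h' : L.adj c m') (hb : L.BI t m) (hy : L.inY t m') : m = m' := by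
  obtain ⟨g, rfl, rfl⟩ := T.flag h' (T.bi_pt hb h.symm)
  obtain ⟨t, rfl⟩ := exists_cj g t
  obtain ⟨m, rfl⟩ := exists_smul g m
  obtain ⟨c, hc, rfl⟩ := T.lines_C (adj_smul.1 h)
  obtain ⟨a, ha, rfl⟩ := T.inY_W.1 (inY_conj.1 hy)
  have h1 := inY_conj.1 hb.inY
  obtain ⟨x, e⟩ := exists_cj c (L.N a)
  rw [e, inY_conj] at h1
  obtain ⟨b, hb', rfl⟩ := T.inY_W.1 h1
  have h5 : b.x5 ≠ 0 := fun h5 => hb.nd (by
    rw [e, dd_conj, dd_conj]
    rw [mem_Ys] at hb'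
    exact T.dd_W (by simp only [mem_Ws, hb', h5, and_self]) fun e1 => hb.ne (by simp [e, e1]))
  rw [(inB_Y hc e.symm hb' h5 ha).smul_W]

theorem AB (hp : L.pt p) (h : L.adj p l) (h' : L.adj l c) (hne : c ≠ p) (hs : L.inA s c) (hf : ¬ Full L.adj s p)
    (ht : L.inA t p) (e : t * s = s * t) : L.inY t l := by
  obtain ⟨g, rfl, rfl, rfl⟩ := T.frame3 h h' hp hne
  obtain ⟨t, rfl⟩ := exists_cj g t
  obtain ⟨s, rfl⟩ := exists_cj g s
  obtain ⟨a, ha, rfl⟩ := T.inA_Z.1 (inA_conj.1 ht)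
  obtain ⟨b, hb, rfl⟩ := T.inA_n.1 (inA_conj.1 hs)
  refine inY_conj.2 (T.inY_W.2 ⟨a, mem_Ys_of_comm ha hb (fun h8 => hf (full_conj.2 (T.full_Z.2
    ⟨b, ⟨hb.2.2.2.2.2.2, h8⟩, rfl⟩))) (L.inj ?_), rfl⟩)
  rw [map_mul, map_mul]
  calc _ = g⁻¹ * (g * L.N a * g⁻¹ * (g * L.N b * g⁻¹)) * g := by group
    _ = _ := by rw [e]; group

theorem BB (hp : L.pt p) (h : L.adj p l) (h' : L.adj l c) (hne : c ≠ p) (ht : L.inA t c) (hf : ¬ Full L.adj t p)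
    (hs : s * s = 1) (hx : s • p = p) (e : s * t = t * s) : L.inA s c := by
  obtain ⟨g, rfl, rfl, rfl⟩ := T.frame3 h h' hp hne
  obtain ⟨t, rfl⟩ := exists_cj g t
  obtain ⟨s, rfl⟩ := exists_cj g s
  obtain ⟨b, hb, rfl⟩ := T.inA_n.1 (inA_conj.1 ht)
  have h8 : b.x8 ≠ 0 := fun h8 => hf (full_conj.2 (T.full_Z.2 ⟨b, ⟨hb.2.2.2.2.2.2, h8⟩, rfl⟩))
  have e' : s * L.N b = L.N b * s := calc _ = g⁻¹ * (g * s * g⁻¹ * (g * L.N b * g⁻¹)) * g := by group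
    _ = _ := by rw [e]; group
  have hs' : s * s = 1 := calc _ = g⁻¹ * (g * s * g⁻¹ * (g * s * g⁻¹)) * g := by group
    _ = _ := by rw [hs]; group
  obtain ⟨a, rfl⟩ := (inB_8 (T.H.two_mem_Z (.of_sq hs') (conj_smul_eq.1 hx)) (mul_inv_eq_of_eq_mul e')
    fun h => h8 h.2).two (.of_sq hs')
  exact inA_conj.2 (T.inA_n.2 ⟨a, mem_Bs_of_comm hb h8 (L.inj (by rw [map_mul, map_mul, e']))
    (L.inj (by rw [map_mul, hs', map_one])), rfl⟩)

theorem YM {f : ℕ → Subgroup G} (hf : NS L.adj f 5) (hb : L.BI t (f 0)) : t • f 5 ≠ f 5 := fun e => by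
  have a0 := hf.wk 0 (by omega)
  have p1 := T.bi_pt hb a0
  have p3 := T.pt_of (hf.wk 1 (by omega)) (hf.wk 2 (by omega)) p1
  have p5 := T.pt_of (hf.wk 3 (by omega)) (hf.wk 4 (by omega)) p3
  obtain ⟨z, hz, hd⟩ := p5.exists_mem
  have hA := hb.inY _ a0
  exact hf.ns 0 (by omega) (T.yuniq a0.symm (hf.wk 1 (by omega)) hb (T.AB p1 (hf.wk 1 (by omega)) (hf.wk 2 (by omega))
    (hf.ns 1 (by omega)).symm (T.inA_line (hf.wk 3 (by omega)) p3 (T.le (hf.wk 4 (by omega)).symm p5 hz))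
    (fun h => T.L2 (hf.rev fun _ _ => adj.symm) p5 hz hd.ne (h.2.2 _ a0.symm)) hA (T.comm_of_fix p5 hA.1.1 e hz)))

theorem inv_cover (hp : L.pt p) (ht : t * t = 1) (h : t • p = p) :
    ∃ l c, L.adj p l ∧ L.adj l c ∧ c ≠ p ∧ L.inA t c := by
  obtain ⟨g, rfl⟩ := hp
  obtain ⟨t, rfl⟩ := exists_cj g t
  have ht' : t * t = 1 := calc _ = g⁻¹ * (g * t * g⁻¹ * (g * t * g⁻¹)) * g := by group
    _ = _ := by rw [ht]; group
  obtain ⟨c, hc, a, ha, e⟩ : ∃ c ∈ L.C, ∃ a ∈ Bs, c * t * c⁻¹ = L.N a := by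
    rcases T.H.classify (T.H.two_mem_Z (.of_sq ht') (conj_smul_eq.1 h)) ht' with h | ⟨c, hc, a, ha, e⟩
    · obtain ⟨s, rfl⟩ := mem_Z.1 h
      exact ⟨1, one_mem _, X4 s, by simp only [mem_Bs, UE, and_self], by simp⟩
    · refine ⟨c, hc, a, ?_, e⟩
      rcases ha with rfl | rfl | rfl | ⟨s, rfl⟩ <;> simp only [mem_Bs, UE, and_self]
  refine ⟨_, _, (adj_C (inv_mem hc)).smul g, (T.adj_n.smul c⁻¹).smul g, fun e => T.n_ne ?_, inA_conj.2 ?_⟩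
  · rw [inv_smul_eq_iff.1 (smul_left_cancel g e), C_smul_Z hc]
  · simpa [← e, mul_assoc] using (inA_conj (g := c⁻¹)).2 (T.inA_n.2 ⟨a, ha, rfl⟩)

theorem dd_near (hd : L.Dd d) (hr : L.pt r) (h : d ∈ r) (hp : L.pt p) (e : d • p = p) : Nr L.adj 4 p r := by
  obtain ⟨l, c, h1, h2, -, hA⟩ := T.inv_cover hp hd.sq e
  have hc := T.pt_of h1 h2 hp
  obtain ⟨l', h3, h4⟩ := T.ddQ hc hd hA.1
  obtain ⟨r', h5, h6⟩ := T.cover_line h3 hc h4
  rw [T.ti hr (T.pt_of h3 h5 hc) h h6 hd.ne]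
  exact (((Nr.of_adj h1).trans (.of_adj h2)).trans (.of_adj h3)).trans (.of_adj h5)

theorem b_near (hd : ¬ L.Dd t) (h1 : t ≠ 1) (ht : t * t = 1) (hp : L.pt p) (e : t • p = p) :
    ∃ m, L.BI t m ∧ Nr L.adj 3 p m := by
  obtain ⟨l, c, h2, h3, -, hA⟩ := T.inv_cover hp ht e
  obtain ⟨m, h4, h5⟩ := T.exists_bi (T.pt_of h2 h3 hp) hA hd h1
  exact ⟨m, h5, ((Nr.of_adj h2).trans (.of_adj h3)).trans (.of_adj h4)⟩

theorem col (hp : L.pt p) (hc : L.pt c) (hz : z ∈ p) (hs : s ∈ c) (z1 : z ≠ 1) (s1 : s ≠ 1) (e : s * z = z * s)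
    (hd : L.Dd (s * z)) : Nr L.adj 2 p c := by
  obtain ⟨k, hk, f, hf, rfl, rfl⟩ := (T.dd_near (T.dd_pt hc hs s1) hc hs hp (T.fix_of_comm hp hz z1 e)).ns
  have := T.geo.pt_iff hf.wk
  rcases (by omega : k ≤ 2 ∨ k = 3 ∨ k = 4) with h | rfl | rfl
  · exact ⟨k, h, f, hf.wk, rfl, rfl⟩
  · simp [hp, hc] at this; exact absurd this (by decide)
  · exact ((T.sec' hf hp hz hs z1 s1).1 (e ▸ hd)).elim

theorem near_uniq (hb : L.BI t m) (hb' : L.BI t m') (h : L.adj m' p) (hn : Nr L.adj 7 m p) : m = m' := by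
  obtain ⟨k, hk, f, hf, rfl, rfl⟩ := hn.ns
  obtain ⟨q, hq, pq⟩ := hb.ln
  have hp := T.bi_pt hb' h
  have hA := hb'.inY _ h
  have h0 : ¬ L.pt (f 0) := (T.bip hq.symm).1 pq
  have := T.geo.pt_iff hf.wk
  simp only [hp, h0, false_iff, true_iff] at this
  rcases (by omega : k = 0 ∨ k = 1 ∨ k = 2 ∨ k = 3 ∨ k = 4 ∨ 5 ≤ k) with rfl | rfl | rfl | rfl | rfl | h5
  · exact absurd (by decide) this
  · exact T.yuniq (hf.wk 0 (by omega)).symm h.symm hb hb'.inY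
  · exact absurd (by decide) this
  · have a0 := hf.wk 0 (by omega)
    exact (hf.ns 0 (by omega) (T.yuniq a0.symm (hf.wk 1 (by omega)) hb (T.AA (hf.wk 1 (by omega))
      (hf.wk 2 (by omega)) (T.bi_pt hb a0) (hf.ns 1 le_rfl).symm (hb.inY _ a0) hA))).elim
  · exact absurd (by decide) this
  · exact (T.YM (hf.mono h5) hb (T.fix hk hf ((hb.inY _ hq).1.2.2 _ hq.symm) hA.1.2.1 5 h5)).elim

theorem exx (hb : L.BI t m) : ∃ c l x, L.adj m c ∧ L.adj c l ∧ L.adj l x ∧ l ≠ m ∧ x ≠ c ∧ ¬ Full L.adj t x := by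
  obtain ⟨q, hq, pq⟩ := hb.ln
  obtain ⟨g, rfl, rfl⟩ := T.flag hq.symm pq
  obtain ⟨t, rfl⟩ := exists_cj g t
  obtain ⟨a, ha, rfl⟩ := T.inY_W.1 (inY_conj.1 hb.inY)
  rw [mem_Ys] at ha
  have h5 : a.x5 ≠ 0 := fun h5 => hb.nd (by
    rw [dd_conj]
    exact T.dd_W (by simp only [mem_Ws, ha, h5, and_self]) fun e1 => hb.ne (by simp [e1]))
  obtain ⟨r, hr⟩ := exists_sol h5 (a.x6 + 1)
  have hc := mul_mem (L.N_mem (Y8 r)⁻¹) L.w_mem
  refine ⟨_, _, _, hq, (adj_C hc).smul g, (T.adj_n.smul _).smul g, fun e => w_smul_ne (L := L) ?_,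
    fun e => T.n_ne ?_, fun h => ?_⟩
  · have := smul_left_cancel g e
    rwa [mul_smul, smul_eq_iff_eq_inv_smul, ← map_inv, N_smul_W] at this
  · have := smul_left_cancel g e
    rwa [smul_eq_iff_eq_inv_smul, C_smul_Z (inv_mem hc)] at this
  · obtain ⟨b, -, e⟩ := T.sw.im' (ω (Y8 r * a * (Y8 r)⁻¹)) (by simp only [UE, ha])
    have h1 : L.N a = (L.N (Y8 r)⁻¹ * L.w * n) * L.N b * (L.N (Y8 r)⁻¹ * L.w * n)⁻¹ := by
      rw [← e, ← L.wN _ (by simp only [mem_Qs, UE, ha, and_self]), w_inv]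
      simp only [map_mul, map_inv]
      calc _ = (L.N (Y8 r))⁻¹ * (L.w * L.w) * L.N (Y8 r) * L.N a * (L.N (Y8 r))⁻¹ * L.N (Y8 r) := by
            rw [L.ww]; group
        _ = _ := by group
    rw [full_conj, h1, smul_smul, full_conj] at h
    obtain ⟨b', hb', e'⟩ := T.full_Z.1 h
    obtain rfl := L.inj e'
    have := (T.sw.mapQ e.sym' (T.sw.symm.x1 e (by simp only [UE, ha])) hb').2.2
    simp only [UE, ha] at this
    grind

theorem dd_of_full (hp : L.pt p) (hz : z ∈ p) (hd : L.Dd (s * z)) (s1 : s ≠ 1) (h : Full L.adj s p) : L.Dd s := by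
  obtain ⟨g, rfl⟩ := hp
  have a := adj_ZW.smul (L := L) g
  obtain ⟨l, h1, h2⟩ := T.ddQ ⟨g, rfl⟩ hd (T.full_mul a h (T.inA_line a ⟨g, rfl⟩ (T.le a ⟨g, rfl⟩ hz)).1)
  exact T.dd_line h1 ⟨g, rfl⟩ (by simpa using mul_mem h2 (inv_mem (T.le h1 ⟨g, rfl⟩ hz))) s1

theorem dih (hp : L.pt p) (hp' : L.pt p') (X : Set G) (h : ∀ t ∈ X, ∀ z ∈ p, t * z = z * t)
    (h' : ∀ t ∈ X, ∀ z ∈ p', t * z = z * t) (hn : ∀ g : G, (∀ t ∈ X, g * t = t * g) → g • p ≠ p') :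
    ∃ s : G, s * s = 1 ∧ s ≠ 1 ∧ s • p = p ∧ s • p' = p' ∧ (∀ t ∈ X, s * t = t * s) ∧
      (Full L.adj s p → L.Dd s) ∧ (L.Dd s → Nr L.adj 4 p p') := by
  obtain ⟨z, hz, hd⟩ := hp.exists_mem
  obtain ⟨z', hz', hd'⟩ := hp'.exists_mem
  obtain ⟨s, h1, h2, h3, h4, h5, h6⟩ := dihedral hd.sq hd'.sq fun k e => hn _
    (fun t ht => ((Commute.mul_right (h t ht z hz) (h' t ht z' hz')).pow_right k).symm)
    (T.smul_of_conj hp hp' hz hd.ne (e.symm ▸ hz'))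
  have d1 : L.Dd (s * z) := h6.elim (fun h => hd.trans h.1) fun h => hd'.trans h.1
  have d2 : L.Dd (s * z') := h6.elim (fun h => hd'.trans h.2) fun h => hd.trans h.2
  refine ⟨s, h1, h2, T.fix_of_comm hp hz hd.ne h3, T.fix_of_comm hp' hz' hd'.ne h4,
    fun t ht => h5 t (h t ht z hz) (h' t ht z' hz'), T.dd_of_full hp hz d1 h2, fun hs => ?_⟩
  obtain ⟨e, he, hse⟩ := hs.exists_pt
  exact (T.col hp he hz hse hd.ne h2 h3 d1).trans ((T.col hp' he hz' hse hd'.ne h2 h4 d2).symm fun _ _ => adj.symm)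

theorem inA_comm_pt (hc : L.pt c) (ht : L.inA t c) (hz : z ∈ c) : t * z = z * t :=
  T.comm_of_fix hc ht.1.1 ht.1.2.1 hz

theorem bi_uniq (hb : L.BI t m) (hb' : L.BI t m') : m = m' := by
  obtain ⟨c, l, x, a1, a2, a3, n1, n2, hx⟩ := T.exx hb
  obtain ⟨p', hp', pp⟩ := hb'.ln
  have pc := T.bi_pt hb a1
  have px := T.pt_of a2 a3 pc
  have tc := hb.inY _ a1
  have tp := hb'.inY _ hp'
  have sy : ∀ u v, L.adj u v → L.adj v u := fun _ _ => adj.symm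
  obtain ⟨s, s2, s1, sp, sx, st, sf, sd⟩ := T.dih pp px {t} (fun _ e z hz => e ▸ T.inA_comm_pt pp tp hz)
    (fun _ e z hz => e ▸ T.comm_of_fix px tc.1.1 (T.inA_fix a2 a3 pc tc) hz)
    fun g hg e => hx (e ▸ tp.comm (hg t rfl)).1
  replace st := st t rfl
  by_cases hd : L.Dd s
  · exact T.near_uniq hb hb' hp' ((((Nr.of_adj a1).trans (.of_adj a2)).trans (.of_adj a3)).trans ((sd hd).symm sy))
  obtain ⟨l', c', b1, b2, b3, sc'⟩ := T.inv_cover pp s2 sp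
  obtain rfl := T.yuniq hp'.symm b1 hb' (T.AB pp b1 b2 b3 sc' (mt sf hd) tp st.symm)
  have ny : ¬ L.inY s m' := fun h => hd (sf (h _ hp').1)
  have sc := T.BB px a3.symm a2.symm n2.symm tc hx s2 sx st
  obtain ⟨c'', b4, b5, -⟩ := T.thick a1 c c
  have pc' := T.bi_pt hb' b2
  have pc'' := T.bi_pt hb b4
  have tc' := hb'.inY _ b2
  obtain ⟨s', s2', s1', sp', -, st', sf', sd'⟩ := T.dih pc' pc'' {s, t}
    (by rintro _ (rfl | rfl) z hz; exacts [T.inA_comm_pt pc' sc' hz, T.inA_comm_pt pc' tc' hz])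
    (by
      rintro _ (rfl | rfl) z hz
      exacts [T.comm_of_fix pc'' sc.1.1 (T.inA_fix a1.symm b4 pc sc) hz, T.inA_comm_pt pc'' (hb.inY _ b4) hz])
    fun g hg e => by
      have h1 := T.yuniq b4.symm (e ▸ b2.symm.smul g) hb (hb'.comm (hg t (by simp))).inY
      have h2 := T.AA a1.symm b4 pc b5 sc (e ▸ sc'.comm (hg s (by simp)))
      rw [h1, ← mul_inv_cancel_right s g, ← hg s (by simp), inY_conj] at h2
      exact ny h2
  obtain ⟨ms, b6, hs⟩ := T.exists_bi pc' sc' hd s1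
  have key : ∀ {t m}, L.adj c' m → L.BI t m → s' * t = t * s' → s' • m = m := fun h hb e =>
    (T.yuniq h (sp' ▸ h.smul s') hb (hb.comm e).inY).symm
  have := sd' (sf' (T.two_nb b2.symm ⟨.of_sq s2', sp', key b2.symm hb' (st' t (by simp))⟩ b6
    (fun e => ny (e ▸ hs.inY)) (key b6 hs (st' s (by simp)))))
  exact T.near_uniq hb hb' b2 (((Nr.of_adj b4).trans (this.symm sy)).mono (by omega))

theorem exists_fix (h : L.adj l p) (hp : L.pt p) (h2 : Two s) (e : s • l = l) : ∃ y, L.adj l y ∧ s • y = y := by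
  obtain ⟨g, rfl, rfl⟩ := T.flag h.symm hp
  obtain ⟨s, rfl⟩ := exists_cj g s
  obtain ⟨k, hk, e'⟩ := (T.H.sylIn (X := normalizer (L.W : Set G)) (by
    rintro _ ⟨u, rfl⟩; exact smul_eq_iff.1 (N_smul_W u))).exists_conj (two_conj.1 h2).isPGroup
    (zpowers_le_of_mem (smul_eq_iff.1 (conj_smul_eq.1 e)))
  obtain ⟨u, hu⟩ := e' s (mem_zpowers s)
  refine ⟨g • k⁻¹ • L.Z, adj.smul ?_ g, conj_smul_eq.2 ?_⟩
  · exact smul_eq_iff.2 (inv_mem hk) ▸ adj_ZW.symm.smul k⁻¹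
  · rw [← conj_smul_eq (g := k), smul_inv_smul, ← hu, C_smul_Z (L.N_mem u)]

theorem diam : Diam L.adj L.pt := by
  rintro p l - ⟨q, hq⟩ hp hl
  have pq : L.pt q := by simpa [hl] using T.bip hq
  have sy : ∀ u v, L.adj u v → L.adj v u := fun _ _ => adj.symm
  obtain ⟨t, hb⟩ : ∃ t, L.BI t l := by
    obtain ⟨g, rfl, rfl⟩ := T.flag hq.symm pq
    exact ⟨_, T.bi5.cj g⟩
  obtain ⟨z, hz, hd⟩ := hp.exists_mem
  obtain ⟨s, s2, s1, h3, h4, -⟩ := dihedral hd.sq (T.inA_sq pq (hb.inY _ hq)) fun k e => hb.nd (e ▸ hd.conj _)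
  have sp := T.fix_of_comm hp hz hd.ne h3
  have sl := T.bi_uniq (hb.comm h4) hb
  obtain ⟨y, hy, sy'⟩ := T.exists_fix hq pq (.of_sq s2) sl
  have py := T.bi_pt hb hy
  by_cases hs : L.Dd s
  · obtain ⟨r, hr, sr⟩ := hs.exists_pt
    obtain ⟨k, hk, f, hf, rfl, rfl⟩ := (((T.dd_near hs hr sr py sy').symm sy).trans (.of_adj hy.symm)).ns
    have := T.geo.pt_iff hf.wk
    simp only [hr, hl, false_iff, true_iff] at this
    rcases (by omega : k ≤ 3 ∨ k = 4 ∨ k = 5) with h | rfl | rfl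
    · exact (T.dd_near hs hr sr hp sp).trans (show Nr L.adj 3 _ _ from ⟨k, h, f, hf.wk, rfl, rfl⟩)
    · exact absurd (by decide) this
    · exact (T.L2 hf hr sr s1 sl).elim
  · obtain ⟨m, h5, h6⟩ := T.b_near hs s1 s2 hp sp
    obtain ⟨m', h7, h8⟩ := T.b_near hs s1 s2 py sy'
    obtain rfl := T.bi_uniq h5 h7
    exact (h6.trans (h8.symm sy)).trans (.of_adj hy.symm)

end St1

end Loc

end Cfsg.Agent.Oct
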