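import Cfsg.Agent.Oct.U

/-!
The centraliser of a `2`-central involution of `²F₄(q)`, abstractly, and its involutions.
-/

set_option autoImplicit false
set_option linter.unusedSectionVars false
set_option maxRecDepth 20000

namespace Cfsg.Agent.Oct

/-- The local structure. -/
structure Loc (K : Type*) [Field K] [Tw K] (G : Type*) [Group G] where
  N : U K →* G
  inj : Function.Injective N
  w : G
  h : Kˣ →* G
  C : Subgroup G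
  ww : w * w = 1
  wN : ∀ u ∈ Qs, w * N u * w⁻¹ = N (ω u)
  hN : ∀ ν u, h ν * N u * (h ν)⁻¹ = N (η ν u)
  wh : ∀ ν, w * h ν * w⁻¹ = (h ν)⁻¹
  rel : w * N (X8 1) * w⁻¹ = (N (Y8 1))⁻¹ * w * N (Y8 1)
  N_mem : ∀ u, N u ∈ C
  w_mem : w ∈ C
  h_mem : ∀ ν, h ν ∈ C
  bru : ∀ c ∈ C, (∃ u ν, c = N u * h ν) ∨ ∃ u v ν, c = N u * w * N v * h ν
  ti : ∀ u v ν, w * N u * w⁻¹ = N v * h ν → u ∈ Qs

variable {K : Type*} [Field K] [Tw K] {G : Type*} [Group G]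

theorem exists_sol {r : K} (h : r ≠ 0) (s : K) : ∃ t, s + r * t = 0 := ⟨s / r, by grind⟩

theorem exists_solσ [Finite K] {r : K} (h : r ≠ 0) (s : K) : ∃ t, s + r * σ t = 0 := by
  obtain ⟨t, ht⟩ := exists_sol h s
  exact ⟨θ t, by rwa [σθ]⟩

theorem eq_X4 {a : U K} (h : a ∈ Zs) : a = X4 a.x4 := by
  rw [mem_Zs] at h
  ext <;> simp only [UE, h]

theorem comm_X4 (a : U K) (s : K) : a * X4 s = X4 s * a := by
  ext <;> simp only [UE]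
  grind

theorem clsB {b : U K} (hb : b ∈ Bs) (h : b.x8 ≠ 0) : ∃ r ∈ Rs, ∃ s, r * b * r⁻¹ = X8 b.x8 * X4 s := by
  obtain ⟨t1, h1⟩ := exists_sol h b.x7
  obtain ⟨t2, h2⟩ := exists_sol h (Y2 t1 * b * (Y2 t1)⁻¹).x5
  obtain ⟨t3, h3⟩ := exists_sol h (X2 t2 * Y2 t1 * b * (X2 t2 * Y2 t1)⁻¹).x6
  refine ⟨X3 t3 * X2 t2 * Y2 t1, by simp only [mem_Rs, UE],
    (X3 t3 * X2 t2 * Y2 t1 * b * (X3 t3 * X2 t2 * Y2 t1)⁻¹).x4, ?_⟩
  rw [mem_Bs] at hb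
  simp only [UE, hb] at h2 h3
  ext <;> simp only [UE, hb] <;> grind

theorem mem_Bs_of_sq {b : U K} (hb : b * b = 1) (h : b.x8 ≠ 0) (h6 : b.y6 = 0) : b ∈ Bs := by
  have e8 := congrArg U.x8 hb
  have e6 := congrArg U.y6 hb
  have e7 := congrArg U.x7 hb
  have e5 := congrArg U.x5 hb
  have e4 := congrArg U.x4 hb
  have e6' := congrArg U.x6 hb
  simp only [UE] at e8
  have y8 : b.y8 = 0 := mul_σ_eq_zero e8
  simp only [UE, y8] at e6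
  have x1 : b.x1 = 0 := by grind
  simp only [UE, y8, x1] at e7
  have y2 : b.y2 = 0 := by grind
  simp only [UE, y8, x1, y2, h6] at e5
  have x2 : b.x2 = 0 := by grind
  simp only [UE, y8, x1, y2, h6, x2] at e4 e6'
  have y4 : b.y4 = 0 := mul_σ_eq_zero e4
  exact ⟨x1, y2, x2, by grind, y4, h6, y8⟩

namespace Loc

variable (L : Loc K G)

theorem w_inv : L.w⁻¹ = L.w := inv_eq_of_mul_eq_one_left L.ww

/-- Conjugacy under `C`. -/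
def Cj (a b : U K) : Prop := ∃ c ∈ L.C, c * L.N a * c⁻¹ = L.N b

variable {L}

theorem Cj.refl (a : U K) : L.Cj a a := ⟨1, one_mem _, by simp⟩

theorem Cj.trans {a b c : U K} (h : L.Cj a b) (h' : L.Cj b c) : L.Cj a c := by
  obtain ⟨g, hg, e⟩ := h
  obtain ⟨k, hk, e'⟩ := h'
  exact ⟨k * g, mul_mem hk hg, by rw [← e', ← e]; group⟩

theorem Cj.symm {a b : U K} (h : L.Cj a b) : L.Cj b a := by
  obtain ⟨g, hg, e⟩ := h
  exact ⟨g⁻¹, inv_mem hg, by rw [← e]; group⟩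

theorem Cj.isConj {a b : U K} (h : L.Cj a b) : IsConj (L.N a) (L.N b) :=
  let ⟨g, _, e⟩ := h; isConj_iff.2 ⟨g, e⟩

theorem cj_conj (g a : U K) : L.Cj a (g * a * g⁻¹) := ⟨L.N g, L.N_mem g, by simp⟩

theorem cj_η (ν : Kˣ) (a : U K) : L.Cj a (η ν a) := ⟨_, L.h_mem ν, L.hN ν a⟩

theorem cj_ω {a : U K} (h : a ∈ Qs) : L.Cj a (ω a) := ⟨_, L.w_mem, L.wN a h⟩

theorem cj_of {a b : U K} (g : U K) (ν : Kˣ) (e : η ν (g * a * g⁻¹) = b) : L.Cj a b :=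
  e ▸ (cj_conj g a).trans (cj_η ν _)

theorem Cj.sq {a b : U K} (h : L.Cj a b) (ha : a * a = 1) : b * b = 1 := by
  obtain ⟨g, -, e⟩ := h
  refine L.inj ?_
  rw [map_mul, ← e, map_one]
  calc _ = g * L.N (a * a) * g⁻¹ := by rw [map_mul]; group
    _ = 1 := by rw [ha]; simp

theorem comm_Z {c : G} (hc : c ∈ L.C) (s : K) : c * L.N (X4 s) = L.N (X4 s) * c := by
  have hu : ∀ u, Commute (L.N u) (L.N (X4 s)) := fun u => by
    rw [Commute, SemiconjBy, ← map_mul, ← map_mul, comm_X4]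
  have hh : ∀ ν, Commute (L.h ν) (L.N (X4 s)) := fun ν => by
    have := L.hN ν (X4 s)
    rw [show η ν (X4 s) = X4 s by ext <;> simp only [UE]] at this
    exact mul_inv_eq_iff_eq_mul.1 this
  have hw : Commute L.w (L.N (X4 s)) := by
    have := L.wN (X4 s) ⟨rfl, rfl⟩
    rw [show ω (X4 s) = X4 s by ext <;> simp only [UE]] at this
    exact mul_inv_eq_iff_eq_mul.1 this
  rcases L.bru c hc with ⟨u, ν, rfl⟩ | ⟨u, v, ν, rfl⟩
  · exact (hu u).mul_left (hh ν)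
  · exact (((hu u).mul_left hw).mul_left (hu v)).mul_left (hh ν)

theorem Cj.eq_of_Z {a b : U K} (h : L.Cj a b) (hb : b ∈ Zs) : a = b := by
  obtain ⟨g, hg, e⟩ := h.symm
  rw [eq_X4 hb, comm_Z hg, mul_inv_cancel_right] at e
  rw [eq_X4 hb]
  exact (L.inj e).symm

variable [Finite K]

theorem cls8 {a : U K} (ha : a * a = 1) (h : a.x8 ≠ 0) : ∃ s, L.Cj a (X8 1 * X4 s) := by
  have e8 := congrArg U.x8 ha
  simp only [UE] at e8
  have y8 : a.y8 = 0 := mul_σ_eq_zero e8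
  obtain ⟨t, ht⟩ := exists_sol h a.y6
  have h1 := cj_conj (L := L) (X1 t) a
  have h2 : (X1 t * a * (X1 t)⁻¹).x8 = a.x8 := by simp only [UE]
  obtain ⟨r, -, s, e⟩ := clsB (mem_Bs_of_sq (h1.sq ha) (h2 ▸ h) (by simp only [UE, y8]; grind)) (h2 ▸ h)
  obtain ⟨ν, hν⟩ := exists_w8 h
  refine ⟨s, h1.trans (cj_of r ν ?_)⟩
  rw [e, h2]
  ext <;> simp only [UE, hν]

theorem cls7 {a : U K} (h : a.x7 ≠ 0) (h1 : a.x1 = 0) (h2 : a.y2 = 0) (h3 : a.x2 = 0) (h4 : a.y4 = 0)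
    (h5 : a.y6 = 0) (h6 : a ∈ Qs) : L.Cj a (X7 1) := by
  obtain ⟨t1, e1⟩ := exists_solσ h a.x3
  obtain ⟨t2, e2⟩ := exists_solσ h (X1 t1 * a * (X1 t1)⁻¹).x5
  obtain ⟨t3, e3⟩ := exists_sol h (Y2 t2 * X1 t1 * a * (Y2 t2 * X1 t1)⁻¹).x6
  obtain ⟨t4, e4⟩ := exists_sol h (Y4 t3 * Y2 t2 * X1 t1 * a * (Y4 t3 * Y2 t2 * X1 t1)⁻¹).x4
  obtain ⟨ν, hν⟩ := exists_w6 h
  refine cj_of (X2 t4 * Y4 t3 * Y2 t2 * X1 t1) ν ?_
  rw [mem_Qs] at h6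
  simp only [UE, h1, h2, h3, h4, h5, h6] at e2 e3 e4
  ext <;> simp only [UE, h1, h2, h3, h4, h5, h6] <;> grind

theorem cls5 {a : U K} (ha : a ∈ Ys) (h : a.x5 ≠ 0) : L.Cj a (X5 1) := by
  obtain ⟨t1, e1⟩ := exists_sol h a.x6
  obtain ⟨t2, e2⟩ := exists_sol h (Y8 t1 * a * (Y8 t1)⁻¹).x4
  refine cj_of (Y2 t2 * Y8 t1) (Units.mk0 _ (inv_ne_zero h)) ?_
  rw [mem_Ys] at ha
  simp only [UE, ha] at e2
  ext <;> simp only [UE, ha, Units.val_mk0] <;> grind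

theorem cls3 {a : U K} (ha : a ∈ As) (h2 : a.x2 = 0) (h : a.x3 ≠ 0) : L.Cj a (X5 1) := by
  obtain ⟨t1, e1⟩ := exists_solσ h a.x5
  obtain ⟨t2, e2⟩ := exists_sol h (Y8 t1 * a * (Y8 t1)⁻¹).x6
  rw [mem_As] at ha
  simp only [UE, ha, h2] at e2
  refine (cj_conj (X8 t2 * Y8 t1) a).trans ((cj_ω ?_).trans (cls5 ?_ ?_))
  · simp only [mem_Qs, UE, ha]; grind
  · simp only [mem_Ys, UE, ha, h2]; grind
  · simp only [UE, ha, h2]; grind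

theorem cls6 {a : U K} (ha : a ∈ Ws) (h : a.x6 ≠ 0) : L.Cj a (X6 1) := by
  obtain ⟨t1, e1⟩ := exists_sol h a.x4
  obtain ⟨ν, hν⟩ := exists_w6 h
  refine cj_of (X1 t1) ν ?_
  rw [mem_Ws] at ha
  ext <;> simp only [UE, ha] <;> grind

theorem clsA0 {a : U K} (ha : a ∈ As) (h2 : a.x2 = 0) : a ∈ Zs ∨ L.Cj a (X6 1) ∨ L.Cj a (X5 1) := by
  by_cases h3 : a.x3 = 0
  · rw [mem_As] at ha
    by_cases h5 : a.x5 = 0
    · by_cases h6 : a.x6 = 0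
      · exact .inl (by simp only [mem_Zs, *, and_self])
      · exact .inr (.inl (cls6 (by simp only [mem_Ws, *, and_self]) h6))
    · exact .inr (.inr (cls5 (by simp only [mem_Ys, *, and_self]) h5))
  · exact .inr (.inr (cls3 ha h2 h3))

theorem Cj.pull {a b : U K} (h : L.Cj a b) (H : b ∈ Zs ∨ L.Cj b (X6 1) ∨ L.Cj b (X5 1)) :
    a ∈ Zs ∨ L.Cj a (X6 1) ∨ L.Cj a (X5 1) :=
  H.imp (fun e => h.eq_of_Z e ▸ e) (Or.imp h.trans h.trans)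

theorem clsA {a : U K} (ha : a ∈ As) : a ∈ Zs ∨ L.Cj a (X6 1) ∨ L.Cj a (X5 1) := by
  by_cases h : a.x2 = 0
  · exact clsA0 ha h
  obtain ⟨t1, e1⟩ := exists_sol h a.x3
  obtain ⟨t, e⟩ := exists_solσ h (Y8 t1 * a * (Y8 t1)⁻¹).x6
  rw [mem_As] at ha
  simp only [UE, ha] at e
  refine ((cj_conj (X8 t * Y8 t1) a).trans (cj_ω ?_)).pull (clsA0 ?_ ?_)
  · simp only [mem_Qs, UE, ha]; grind
  · simp only [mem_As, UE, ha]; grind
  · simp only [UE, ha]; grind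

theorem sec0 {a : U K} (ha : a ∈ As) (h : a.x2 ≠ 0) (h5 : a.x5 = 0) (h3 : a.x3 = 0) (h6 : a.x6 ≠ 0) :
    L.Cj a (X5 1) := by
  obtain ⟨t, e⟩ := exists_solσ h a.x6
  have ht : t ≠ 0 := by rintro rfl; simp [h6] at e
  rw [mem_As] at ha
  refine (cj_conj (X8 t) a).trans ((cj_ω ?_).trans (cls3 ?_ ?_ ?_))
  · simp only [mem_Qs, UE, ha, and_self]
  · simp only [mem_As, UE, ha, and_self]
  · simp only [UE, ha, h3]; grind
  · simp only [UE, ha, h5]; grind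

theorem secant {a : U K} (ha : a ∈ As) (h : a.x2 ≠ 0) {ρ : K} (hρ : ρ ≠ 0) :
    L.Cj a (X5 1) ∨ L.Cj (a * X6 ρ) (X5 1) := by
  obtain ⟨t1, e1⟩ := exists_sol h a.x3
  obtain ⟨t2, e2⟩ := exists_sol h (Y8 t1 * a * (Y8 t1)⁻¹).x5
  rw [mem_As] at ha
  simp only [UE, ha] at e2
  by_cases h6 : (X8 t2 * Y8 t1 * a * (X8 t2 * Y8 t1)⁻¹).x6 = 0
  · refine .inr ((cj_conj (X8 t2 * Y8 t1) _).trans (sec0 ?_ ?_ ?_ ?_ ?_))
    · simp only [mem_As, UE, ha]; grind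
    all_goals simp only [UE, ha] at h6 ⊢; grind
  · refine .inl ((cj_conj (X8 t2 * Y8 t1) _).trans (sec0 ?_ ?_ ?_ ?_ h6))
    · simp only [mem_As, UE, ha]; grind
    all_goals simp only [UE, ha]; grind

theorem clsQ0 {a : U K} (ha : a * a = 1) (hq : a ∈ Qs) (h1 : a.x1 = 0) : a ∈ As ∨ L.Cj a (X7 1) := by
  have e2 := congrArg U.x2 ha
  have e5 := congrArg U.x5 ha
  have e4 := congrArg U.x4 ha
  have e6 := congrArg U.x6 ha
  simp only [UE, h1, hq.1, hq.2] at e2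
  have y2 : a.y2 = 0 := mul_σ_eq_zero e2
  simp only [UE, h1, hq.1, hq.2, y2] at e4 e5 e6
  have y4 : a.y4 = 0 := by
    by_contra h
    have y6 : a.y6 = 0 := by grind
    simp only [UE, y6] at e4 e6
    exact h (mul_σ_eq_zero (by grind))
  simp only [UE, y4] at e4 e6
  have y6 : a.y6 = 0 := mul_σ_eq_zero e6
  by_cases h7 : a.x7 = 0
  · exact .inl ⟨h1, y2, y4, y6, h7, hq.1, hq.2⟩
  · exact .inr (cls7 h7 h1 y2 (by grind) y4 y6 hq)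

theorem clsQ {a : U K} (ha : a * a = 1) (hq : a ∈ Qs) :
    (a ∈ Zs ∨ L.Cj a (X6 1) ∨ L.Cj a (X5 1)) ∨ L.Cj a (X7 1) := by
  by_cases h : a.x1 = 0
  · exact (clsQ0 ha hq h).imp_left clsA
  obtain ⟨t1, e1⟩ := exists_sol h a.y2
  obtain ⟨t, e⟩ := exists_solσ h (Y8 t1 * a * (Y8 t1)⁻¹).x7
  simp only [UE, hq.1, hq.2] at e
  have h1 : L.Cj a (ω (X8 t * Y8 t1 * a * (X8 t * Y8 t1)⁻¹)) :=
    (cj_conj _ a).trans (cj_ω (by simp only [mem_Qs, UE, hq.1, hq.2]; grind))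
  rcases clsQ0 (L := L) (h1.sq ha) ⟨rfl, rfl⟩ (by simp only [UE, hq.1, hq.2]; grind) with h2 | h2
  · exact .inl (h1.pull (clsA h2))
  · exact .inr (h1.trans h2)

theorem classify {a : U K} (ha : a * a = 1) :
    ((a ∈ Zs ∨ L.Cj a (X6 1) ∨ L.Cj a (X5 1)) ∨ L.Cj a (X7 1)) ∨ ∃ s, L.Cj a (X8 1 * X4 s) := by
  by_cases h : a.x8 = 0
  · have e8 := congrArg U.x8 ha
    simp only [UE] at e8
    exact .inl (clsQ ha ⟨mul_σ_eq_zero e8, h⟩)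
  · exact .inr (cls8 ha h)

end Loc

end Cfsg.Agent.Oct
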