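import Cfsg.Agent.Oct.Col
import Cfsg.Agent.Oct.Base

/-!
The local structure inside `F₄(q)`.
-/

set_option autoImplicit false
set_option linter.unusedSectionVars false
set_option linter.unusedSimpArgs false
set_option maxRecDepth 20000

namespace Cfsg.Agent.Oct

open Cfsg.Lie Cfsg.Agent.Chev Subgroup

variable {K : Type*} [Field K] [Tw K] [Fintype K]

theorem hθ0 (t : K) : θ (θ t) ^ 2 = t := by rw [← σ_eq, σθ]

local notation "xx" => xC chevF4 K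
local notation "Γ" => chevF4.group K

variable (S : ChevSys rootTableF4 (xC chevF4 K))

local notation "TT" => TwistData.T (TwMap.data (F4.tw S θ hθ0))

/-- The unipotent subgroup in coordinates. -/
noncomputable def NN : U K →* Γ := MonoidHom.mk' (Nw xx) (Nw_mul S.st.toIsSt0)

theorem NN_eq (u : U K) : NN S u = word xx (nw (· * ·) (· + ·) σ u) := rfl

theorem x0 (r : ℕ) (h : r < 48) : xx r 0 = 1 := isSt_xC.x_zero h

theorem nw_pos (u : U K) : ∀ p ∈ nw (· * ·) (· + ·) σ u, chevF4.IsPosRoot p.1 := by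
  have : ∀ r ∈ (nw (· * ·) (· + ·) σ u).map Prod.fst, chevF4.IsPosRoot r := by
    simp only [nw, List.map]
    decide +kernel
  exact fun p hp => this _ (List.mem_map_of_mem hp)

theorem NN_inj : Function.Injective (NN S) := fun a b e => by
  have := S.inj_list rootTableF4.nil_pos
    (l := [33, 24, 34, 26, 36, 42, 38, 43, 29, 41, 44, 47, 39, 45, 35, 31, 40, 46, 37, 32, 27, 25, 28, 30])
    (by decide) (by decide +kernel) (a := (nw (· * ·) (· + ·) σ a).map Prod.snd)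
    (b := (nw (· * ·) (· + ·) σ b).map Prod.snd) rfl rfl e
  simp only [nw, List.map, List.cons.injEq, σ_inj.eq_iff] at this
  ext <;> simp only [this]

theorem NN_U (u : U K) : NN S u ∈ S.R.U := S.U_eq ▸ word_mem fun p hp => mem_XS (nw_pos u p hp) _

theorem conj_word {g : Γ} {f : ℕ → ℕ} {c : ℕ → K} (h : ∀ r < 48, ∀ t, g * xx r t * g⁻¹ = xx (f r) (c r * t))
    {l : List (ℕ × K)} (hl : ∀ p ∈ l, p.1 < 48) :
    g * word xx l * g⁻¹ = word xx (l.map fun p => (f p.1, c p.1 * p.2)) := by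
  induction l with
  | nil => simp
  | cons p l ih =>
    rw [List.map_cons, word_cons, word_cons, ← ih fun q hq => hl q (List.mem_cons_of_mem _ hq),
      ← h _ (hl p List.mem_cons_self)]
    group

theorem rho_eq : rhoF4 33 = 24 ∧ expF4 33 = 2 ∧ rhoF4 24 = 33 ∧ expF4 24 = 1 ∧ rhoF4 34 = 26 ∧ expF4 34 = 2 ∧ rhoF4 26 = 34 ∧ expF4 26 = 1 ∧ rhoF4 36 = 42 ∧ expF4 36 = 2 ∧ rhoF4 42 = 36 ∧ expF4 42 = 1 ∧ rhoF4 38 = 43 ∧ expF4 38 = 2 ∧ rhoF4 43 = 38 ∧ expF4 43 = 1 ∧ rhoF4 29 = 41 ∧ expF4 29 = 2 ∧ rhoF4 41 = 29 ∧ expF4 41 = 1 ∧ rhoF4 44 = 47 ∧ expF4 44 = 2 ∧ rhoF4 47 = 44 ∧ expF4 47 = 1 ∧ rhoF4 39 = 45 ∧ expF4 39 = 2 ∧ rhoF4 45 = 39 ∧ expF4 45 = 1 ∧ rhoF4 35 = 31 ∧ expF4 35 = 2 ∧ rhoF4 31 = 35 ∧ expF4 31 = 1 ∧ rhoF4 40 = 46 ∧ expF4 40 = 2 ∧ rhoF4 46 = 40 ∧ expF4 46 = 1 ∧ rhoF4 37 = 32 ∧ expF4 37 = 2 ∧ rhoF4 32 = 37 ∧ expF4 32 = 1 ∧ rhoF4 27 = 25 ∧ expF4 27 = 2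 ∧ rhoF4 25 = 27 ∧ expF4 25 = 1 ∧ rhoF4 28 = 30 ∧ expF4 28 = 2 ∧ rhoF4 30 = 28 ∧ expF4 30 = 1 := by
  decide +kernel

theorem NN_T (u : U K) : NN S u ∈ TT := by
  rw [F4.T_eq_Fix, TwistData.mem_Fix, TwMap.data_σ, NN_eq, TwMap.σ_word _ fun p hp => (nw_pos u p hp).1]
  refine Eq.trans ?_ (Nw_sw S.st.toIsSt0 u)
  simp only [F4.tw, wd, nw, sw, word, List.map, psi_apply _ expF4_or, rho_eq, Int.cast_one, one_mul, pow_one, θσ,
    ← σ_eq]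

theorem exists_NN {g : Γ} (h1 : g ∈ S.R.U) (h2 : g ∈ TT) : ∃ u, NN S u = g := by
  have := S.finite
  have h : (NN S).range = S.R.U ⊓ (F4.tw S θ hθ0).data.Fix := eq_of_le_of_card_ge
    (by rintro _ ⟨u, rfl⟩; exact ⟨NN_U S u, TwistData.T_le_Fix _ (NN_T S u)⟩) (by
      rw [F4.card_U, ← Nat.card_congr (MonoidHom.ofInjective (NN_inj S)).toEquiv, card_U, Nat.card_eq_fintype_card])
  exact h.ge ⟨h1, TwistData.T_le_Fix _ h2⟩

include S in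
theorem nn_conj (i : Fin 4) (s : ℕ) (hs : s < 48) (t : K) :
    nn chevF4 xx (chevF4.simple i) 1 * xx s t * (nn chevF4 xx (chevF4.simple i) 1)⁻¹ = xx (chevF4.reflectRoot i s) t := by
  obtain ⟨η, h⟩ := S.st.nconj i
  obtain ⟨h1, -, h2⟩ := h s hs
  rw [h2]
  rcases h1 with h1 | h1 <;> simp [h1, CharTwo.neg_eq]

theorem refl_lt : ∀ i : Fin 4, ∀ s < 48, chevF4.reflectRoot i s < 48 := by decide +kernel

variable (K) in
/-- The reflection in the Levi factor. -/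
noncomputable def ww : Γ := oprod xx [27, 20, 27, 25, 22, 25, 27, 20, 27, 25, 22, 25] 1

variable (K) in
/-- The other reflection. -/
noncomputable def n1 : Γ := oprod xx [33, 14, 33, 24, 23, 24] 1

theorem sim_eq : chevF4.simple 0 = 33 ∧ chevF4.simple 1 = 27 ∧ chevF4.simple 2 = 25 ∧ chevF4.simple 3 = 24 ∧
    chevF4.neg 33 = 14 ∧ chevF4.neg 27 = 20 ∧ chevF4.neg 25 = 22 ∧ chevF4.neg 24 = 23 := by decide +kernel

theorem ww_eq : ww K = nn chevF4 xx (chevF4.simple 1) 1 * nn chevF4 xx (chevF4.simple 2) 1 *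
    nn chevF4 xx (chevF4.simple 1) 1 * nn chevF4 xx (chevF4.simple 2) 1 := by
  simp [ww, nn, sim_eq, CharTwo.neg_eq, mul_assoc]

theorem n1_eq : n1 K = nn chevF4 xx (chevF4.simple 0) 1 * nn chevF4 xx (chevF4.simple 3) 1 := by
  simp [n1, nn, sim_eq, CharTwo.neg_eq, mul_assoc]

include S in
theorem ww_conj (s : ℕ) (hs : s < 48) (t : K) : ww K * xx s t * (ww K)⁻¹ = xx (wact s) (1 * t) := by
  have a1 := refl_lt 2 s hs
  have a2 := refl_lt 1 _ a1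
  have a3 := refl_lt 2 _ a2
  rw [one_mul, wact]
  refine Eq.trans ?_ (nn_conj S 1 _ a3 t)
  rw [← nn_conj S 2 _ a2 t, ← nn_conj S 1 _ a1 t, ← nn_conj S 2 _ hs t, ww_eq]
  simp only [mul_assoc, mul_inv_rev]
  rfl

/-- The action of the other reflection on the roots. -/
def nact (s : ℕ) : ℕ := chevF4.reflectRoot 0 (chevF4.reflectRoot 3 s)

include S in
theorem n1_conj (s : ℕ) (hs : s < 48) (t : K) : n1 K * xx s t * (n1 K)⁻¹ = xx (nact s) (1 * t) := by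
  rw [one_mul, nact]
  refine Eq.trans ?_ (nn_conj S 0 _ (refl_lt 3 s hs) t)
  rw [← nn_conj S 3 _ hs t, n1_eq]
  simp only [mul_assoc, mul_inv_rev]
  rfl

theorem ww_sq : ww K * ww K = 1 := by
  rw [ww, ← oprod_append]
  exact oprod_eq_of_eqB (L' := []) (by decide +kernel)

theorem ww_T : ww K ∈ TT := F4.mem_of_check S θ hθ0 _ (by decide +kernel)

theorem n1_T : n1 K ∈ TT := F4.mem_of_check S θ hθ0 _ (by decide +kernel)

theorem ww_N : ww K ∈ S.R.N :=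
  ww_eq (K := K) ▸ mul_mem (mul_mem (mul_mem (S.nn_mem (1 : Fin 4)) (S.nn_mem (2 : Fin 4))) (S.nn_mem (1 : Fin 4)))
    (S.nn_mem (2 : Fin 4))

theorem ww_NN {u : U K} (hu : u ∈ Qs) : ww K * NN S u * (ww K)⁻¹ = NN S (ω u) := by
  rw [NN_eq, conj_word (ww_conj S) fun p hp => (nw_pos u p hp).1]
  refine Eq.trans (congrArg _ (List.map_congr_left fun p _ => ?_)) (Nw_ω S.st.toIsSt0 hu)
  simp [Prod.map]

/-- The parameters of the torus. -/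
def cν : Kˣ →* (Fin 4 → Kˣ) := MonoidHom.mk' (fun ν => ![1, ν * Units.map (σ : K →+* K).toMonoidHom ν,
  ν ^ 2 * Units.map (σ : K →+* K).toMonoidHom ν, 1]) fun a b => by
  funext i
  fin_cases i <;> simp [mul_pow, mul_mul_mul_comm]

/-- A weight. -/
def wi (r : ℕ) : ℤ := chevF4.cartan 1 r + 2 * chevF4.cartan 2 r
/-- A weight. -/
def wj (r : ℕ) : ℤ := chevF4.cartan 1 r + chevF4.cartan 2 r

theorem chi_c (r : ℕ) (ν : Kˣ) : (chi chevF4 r (cν ν) : K) = (ν : K) ^ wi r * σ (ν : K) ^ wj r := by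
  have h1 := ν.ne_zero
  have h2 : σ (ν : K) ≠ 0 := fun e => h1 (σ_eq_zero.1 e)
  rw [F4.chi_eq r (fun i => chevF4.cartan i r) fun _ => rfl]
  simp only [cν, wi, wj, zpow_add₀ h1, zpow_add₀ h2, MonoidHom.mk'_apply]
  simp [mul_zpow, zpow_mul, zpow_ofNat]
  ring

theorem wt_eq : wi 33 = -1 ∧ wj 33 = -1 ∧ wi 24 = -2 ∧ wj 24 = -1 ∧ wi 34 = -1 ∧ wj 34 = 0 ∧ wi 26 = 0 ∧ wj 26 = -1 ∧ wi 36 = -1 ∧ wj 36 = -1 ∧ wi 42 = -2 ∧ wj 42 = -1 ∧ wi 38 = -1 ∧ wj 38 = 0 ∧ wi 43 = 0 ∧ wj 43 = -1 ∧ wi 29 = 0 ∧ wj 29 = 0 ∧ wi 41 = 0 ∧ wj 41 = 0 ∧ wi 44 = 0 ∧ wj 44 = 0 ∧ wi 47 = 0 ∧ wj 47 = 0 ∧ wi 39 = 1 ∧ wj 39 = 0 ∧ wi 45 = 0 ∧ wj 45 = 1 ∧ wi 35 = 1 ∧ wj 35 = 0 ∧ wi 31 = 0 ∧ wj 31 = 1 ∧ wi 40 = 1 ∧ wj 40 = 1 ∧ wi 46 = 2 ∧ wj 46 = 1 ∧ wi 37 = 1 ∧ wj 37 = 1 ∧ wi 32 = 2 ∧ wj 32 = 1 ∧ wi 27 = 0 ∧ wj 27 = 1 ∧ wi 25 = 2 ∧ wj 25 = 0 ∧ wi 28 = 2 ∧ wj 28 = 1 ∧ wi 30 = 2 ∧ wj 30 = 2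 := by
  decide +kernel

/-- The torus. -/
noncomputable def hh0 : Kˣ →* Γ := S.tor.comp cν

theorem hh_conj (ν : Kˣ) (r : ℕ) (hr : r < 48) (t : K) :
    hh0 S ν * xx r t * (hh0 S ν)⁻¹ = xx r ((ν : K) ^ wi r * σ (ν : K) ^ wj r * t) := by
  rw [← chi_c]; exact S.tor_conj _ hr t

theorem hh_NN (ν : Kˣ) (u : U K) : hh0 S ν * NN S u * (hh0 S ν)⁻¹ = NN S (η ν u) := by
  have h1 := ν.ne_zero
  have h2 : σ (ν : K) ≠ 0 := fun e => h1 (σ_eq_zero.1 e)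
  rw [NN_eq, conj_word (f := id) (hh_conj S ν) fun p hp => (nw_pos u p hp).1, NN_eq]
  congr 1
  simp only [nw, List.map, wt_eq, η, id, List.cons.injEq, Prod.mk.injEq, true_and, and_true, map_mul, map_add, map_pow,
    σσ, Units.val_inv_eq_inv_val, map_inv₀, zpow_neg, zpow_ofNat]
  and_intros <;> ring

theorem hh_T (ν : Kˣ) : hh0 S ν ∈ TT := F4.tor_mem_T S θ hθ0 ((F4.mem_fixT S θ hθ0).2 ⟨(map_one _).symm, by
  change (ν : K) * σ (ν : K) = θ ((ν : K) ^ 2 * σ (ν : K))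
  rw [map_mul, θσ, ← σσ, θσ, mul_comm]⟩)

theorem wact_wt : ∀ r < 48, wact r < 48 ∧ wact (wact r) = r ∧ wi (wact r) = -wi r ∧ wj (wact r) = -wj r := by
  decide +kernel

theorem ww_hh (ν : Kˣ) : ww K * hh0 S ν * (ww K)⁻¹ = (hh0 S ν)⁻¹ := by
  refine S.eq_of_conj fun r hr t => ?_
  obtain ⟨a1, a2, a3, a4⟩ := wact_wt r hr
  have e : (ww K)⁻¹ = ww K := inv_eq_of_mul_eq_one_left ww_sq
  have h1 := ww_conj S r hr t
  have h2 := ww_conj S _ a1 ((ν : K) ^ wi (wact r) * σ (ν : K) ^ wj (wact r) * (1 * t))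
  rw [← map_inv, hh_conj S _ r hr]
  rw [← hh_conj S ν _ a1, ← h1, a2, a3, a4] at h2
  simp only [mul_inv_rev, inv_inv, e, mul_assoc] at h2 ⊢
  rw [h2]
  simp

theorem N_X8 (t : K) : NN S (X8 t) = xx 28 t * xx 30 (σ t) := by simp [NN_eq, nw, X8, x0]
theorem N_X7 (t : K) : NN S (X7 t) = xx 37 t * xx 32 (σ t) := by simp [NN_eq, nw, X7, x0]
theorem N_X6 (t : K) : NN S (X6 t) = xx 40 t * xx 46 (σ t) := by simp [NN_eq, nw, X6, x0]
theorem N_X4 (t : K) : NN S (X4 t) = xx 44 t * xx 47 (σ t) := by simp [NN_eq, nw, X4, x0]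
theorem N_X3 (t : K) : NN S (X3 t) = xx 38 t * xx 43 (σ t) := by simp [NN_eq, nw, X3, x0]
theorem N_X2 (t : K) : NN S (X2 t) = xx 36 t * xx 42 (σ t) := by simp [NN_eq, nw, X2, x0]
theorem N_X1 (t : K) : NN S (X1 t) = xx 33 t * xx 24 (σ t) := by simp [NN_eq, nw, X1, x0]
theorem N_Y8 (s t : K) : NN S (Y8 s * X8 t) = word xx [(27, s), (25, σ s), (28, s * σ s + t), (30, σ t)] := by
  simp [NN_eq, nw, UE, x0]

theorem nact_eq : nact 40 = 44 ∧ nact 46 = 47 ∧ nact 36 = 28 ∧ nact 42 = 30 ∧ nact 38 = 37 ∧ nact 43 = 32 ∧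
    nact 33 = 14 ∧ nact 24 = 23 := by decide +kernel

include S in
theorem n1_conj2 (r s : ℕ) (h : r < 48 ∧ s < 48) (t u : K) :
    n1 K * (xx r t * xx s u) * (n1 K)⁻¹ = xx (nact r) t * xx (nact s) u := by
  have := conj_word (n1_conj S) (l := [(r, t), (s, u)]) (by simpa using h)
  simpa using this

theorem n1_X6 (t : K) : n1 K * NN S (X6 t) * (n1 K)⁻¹ = NN S (X4 t) := by
  simp only [N_X6, N_X4, n1_conj2 S _ _ (by decide : 40 < 48 ∧ 46 < 48), nact_eq]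
theorem n1_X2 (t : K) : n1 K * NN S (X2 t) * (n1 K)⁻¹ = NN S (X8 t) := by
  simp only [N_X2, N_X8, n1_conj2 S _ _ (by decide : 36 < 48 ∧ 42 < 48), nact_eq]
theorem n1_X3 (t : K) : n1 K * NN S (X3 t) * (n1 K)⁻¹ = NN S (X7 t) := by
  simp only [N_X3, N_X7, n1_conj2 S _ _ (by decide : 38 < 48 ∧ 43 < 48), nact_eq]
theorem n1_X1 (t : K) : n1 K * NN S (X1 t) * (n1 K)⁻¹ = xx 14 t * xx 23 (σ t) := by
  simp only [N_X1, n1_conj2 S _ _ (by decide : 33 < 48 ∧ 24 < 48), nact_eq]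

theorem rel0 : ww K * NN S (X8 1) * (ww K)⁻¹ = (NN S (Y8 1))⁻¹ * ww K * NN S (Y8 1) := by
  have h1 : NN S (X8 1) = oprod xx [28, 30] 1 := by simp [N_X8]
  have h2 : NN S (Y8 1) = oprod xx [27, 25, 28] 1 := by simpa [x0] using N_Y8 S 1 0
  rw [h1, h2, inv_eq_of_mul_eq_one_left ww_sq, mul_assoc _ (ww K), eq_inv_mul_iff_mul_eq, ww]
  simp only [← oprod_append]
  exact oprod_eq_of_eqB (by decide +kernel)

theorem z_eq : NN S (X4 1) = oprod xx [47, 44] 1 := by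
  refine Eq.trans ?_ (oprod_eq_of_eqB (L := [44, 47]) (by decide +kernel))
  simp [N_X4]

theorem wact_eq : wact 27 = 20 ∧ wact 25 = 22 ∧ wact 28 = 19 ∧ wact 30 = 17 := by decide +kernel

theorem ww_Y8 (s t : K) : ww K * NN S (Y8 s * X8 t) * (ww K)⁻¹ =
    word xx [(20, s), (22, σ s), (19, s * σ s + t), (17, σ t)] := by
  rw [N_Y8, conj_word (ww_conj S) (by simp)]
  simp [wact_eq]

theorem ti0 {u : U K} (h : ww K * NN S u * (ww K)⁻¹ ∈ S.R.Bor) : u ∈ Qs := by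
  obtain ⟨q, hq, e⟩ := exists_U8 u
  have h1 : ww K * NN S (Y8 u.y8 * X8 u.x8) * (ww K)⁻¹ = 1 := S.R.eq_one_of_mem_Bor_of_mem_V (by
    have := mul_mem h (inv_mem (S.R.U_le_Bor (NN_U S (ω q))))
    rw [← ww_NN S hq, e, map_mul (NN S) _ q] at this
    simpa [mul_assoc] using this) (by
      rw [ww_Y8, S.V_eq]
      refine word_mem fun p hp => mem_XS ?_ _
      have : ∀ r ∈ [20, 22, 19, 17], chevF4.IsNegRoot r := by decide +kernel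
      exact this _ (List.mem_map_of_mem (f := Prod.fst) hp))
  rw [conj_eq_one_iff, map_eq_one_iff _ (NN_inj S)] at h1
  rwa [e, h1, one_mul]

end Cfsg.Agent.Oct
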