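import Cfsg.Agent.Oct.Fus

/-!
The element that interchanges two points of the base line; changes of coordinates.
-/

set_option autoImplicit false
set_option linter.unusedSectionVars false
set_option linter.unusedSimpArgs false
set_option linter.unnecessarySeqFocus false
set_option maxRecDepth 20000

namespace Cfsg.Agent.Oct

open Subgroup Fus
open scoped commutatorElement

variable {K : Type*} [Field K] [Tw K] {G : Type*} [Group G]

theorem comm_WR {a r : U K} (ha : a ∈ Ws) (hr : r.x1 = 0) : a * r = r * a := by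
  rw [mem_Ws] at ha
  ext <;> simp only [UE, ha, hr] <;> grind

theorem mem_Ys_R {b : U K} (hb : b.x1 = 0) (h : ∀ r : U K, r.x1 = 0 → ⁅b, r⁆ ∈ (Ws : Subgroup (U K))) : b ∈ Ys := by
  have a2 := h (Y2 1) rfl
  have a4 := h (Y4 1) rfl
  have a8 := h (Y8 1) rfl
  simp only [mem_Ws, commutatorElement_def, UE, hb] at a2 a4 a8
  have y2 : b.y2 = 0 := by grind
  have y8 : b.y8 = 0 := by grind
  simp only [UE, y2, y8] at a2 a4 a8
  have y6 : b.y6 = 0 := by grind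
  have x8 : b.x8 = 0 := by grind
  simp only [UE, y6, x8] at a2 a4 a8
  have x2 : b.x2 = 0 := by grind
  simp only [UE, x2] at a2 a4 a8
  rw [mem_Ys]
  grind

theorem comm_YR {e r : U K} (he : e ∈ Ys) (hr : r.x1 = 0) : ⁅e, r⁆ = X4 (e.x5 * r.y2) * X6 (e.x5 * r.y8) := by
  rw [mem_Ys] at he
  ext <;> simp only [commutatorElement_def, UE, he, hr] <;> grind

theorem mem_Ws_R {b : U K} (hb : b.x1 = 0) (h : ∀ r : U K, r.x1 = 0 → b * r = r * b) : b ∈ Ws := by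
  have h1 := mem_Ys_R hb fun r hr => by
    rw [commutatorElement_eq_one_iff_mul_comm.2 (h r hr)]; exact one_mem _
  have h2 := congrArg U.x4 (h (Y2 1) rfl)
  rw [mem_Ys] at h1
  simp only [UE, h1] at h2
  rw [mem_Ws]
  grind

theorem mem_Bs_of_comm {b d : U K} (hd : d ∈ Bs) (h8 : d.x8 ≠ 0) (h : b * d = d * b) (hb : b * b = 1) :
    b ∈ Bs := by
  rw [mem_Bs] at hd
  have e8 := congrArg U.x8 hb
  simp only [UE] at e8
  have y8 : b.y8 = 0 := mul_σ_eq_zero e8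
  simp only [U.ext_iff, UE, hd, y8] at h
  have x1 : b.x1 = 0 := by grind
  simp only [UE, x1] at h
  have y2 : b.y2 = 0 := by grind
  simp only [UE, y2] at h
  have x2 : b.x2 = 0 := by grind
  simp only [UE, x2] at h
  simp only [U.ext_iff, UE, x1, y2, x2, y8] at hb
  have y4 : b.y4 = 0 := by
    by_contra h4
    have y6 : b.y6 = 0 := by grind
    simp only [UE, y6] at hb
    exact h4 (mul_σ_eq_zero (by grind))
  simp only [UE, y4] at h hb
  have x3 : b.x3 = 0 := by grind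
  simp only [UE, x3] at hb
  exact ⟨x1, y2, x2, x3, y4, mul_σ_eq_zero (by grind), y8⟩

theorem comm_QA {q e : U K} (hq : q ∈ Qs) (he : e ∈ As) : ⁅q, e⁆ ∈ (Zs : Subgroup (U K)) := by
  rw [mem_As] at he
  simp only [mem_Zs, commutatorElement_def, UE, he, hq.1, hq.2]
  grind

theorem eq_X46 {a : U K} (h : a ∈ Ws) : a = X4 a.x4 * X6 a.x6 := by
  rw [mem_Ws] at h
  ext <;> simp only [UE, h]

/-- A change of coordinates. -/
structure TwD (ψ : U K →* U K) (s : K) : Prop where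
  inj : Function.Injective ψ
  q : ∀ u, ψ u ∈ Qs ↔ u ∈ Qs
  hω : ∀ u ∈ Qs, ω (ψ u) = ψ (ω u)
  hη : ∀ ν u, η ν (ψ u) = ψ (η ν u)
  fix : ∀ u ∈ Ws, ψ u = u
  q1 : (X8 1)⁻¹ * ψ (X8 1) ∈ Qs
  q2 : ψ (Y8 1) * (Y8 1)⁻¹ ∈ Qs
  rel : ω ((X8 1)⁻¹ * ψ (X8 1)) = (Y8 1)⁻¹ * (ω (ψ (Y8 1) * (Y8 1)⁻¹))⁻¹ * X4 s * ψ (Y8 1)

namespace Loc

variable {L : Loc K G} {g k n : G} {a b a' b' c : U K}

namespace Sw

variable (hn : L.Sw n)
include hn

theorem symm : L.Sw n⁻¹ := ⟨hn.im', by simpa using hn.im, hn.t6.sym, hn.t4.sym⟩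

theorem mulR {r : U K} (hr : r.x1 = 0) : L.Sw (L.N r * n) := by
  refine ⟨fun a ha => ?_, fun a ha => ?_, ?_, ?_⟩
  · obtain ⟨b, hb, e⟩ := hn.im a ha
    exact ⟨_, by simp only [UE, hb], e.trans (Im.conj r b)⟩
  · obtain ⟨b, hb, e⟩ := hn.im' (r⁻¹ * a * r⁻¹⁻¹) (by simp only [UE, ha])
    exact ⟨b, hb, by simpa using (Im.conj r⁻¹ a).trans e⟩
  · have := hn.t4.trans (Im.conj r _)
    rwa [comm6.2 hr, mul_inv_cancel_right] at this
  · have := hn.t6.trans (Im.conj r _)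
    rwa [comm_X4, mul_inv_cancel_right] at this

theorem x1 (h : L.Im n a b) (ha : a.x1 = 0) : b.x1 = 0 :=
  let ⟨_, hb, e⟩ := hn.im a ha; e.uniq h ▸ hb

theorem surj (hb : b.x1 = 0) : ∃ a, a.x1 = 0 ∧ L.Im n a b :=
  let ⟨a, ha, e⟩ := hn.im' b hb; ⟨a, ha, e.sym'⟩

theorem mapW (h : L.Im n a b) (ha : a ∈ Ws) : b ∈ Ws := mem_Ws_R (hn.x1 h ha.1) fun _ hr =>
  let ⟨_, hr', e⟩ := hn.surj hr; h.commute e (comm_WR ha hr')

theorem mapY (h : L.Im n a b) (ha : a ∈ Ys) : b ∈ Ys := mem_Ys_R (hn.x1 h ha.1) fun r hr =>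
  let ⟨_, hr', e⟩ := hn.surj hr
  hn.mapW (h.comm e) (by rw [comm_YR ha hr']; simp only [mem_Ws, UE, and_self])

theorem ex5 (s : K) : ∃ e ∈ Ys, L.Im n (X5 s) e :=
  let ⟨e, _, h⟩ := hn.im (X5 s) rfl; ⟨e, hn.mapY h (by simp only [mem_Ys, UE, and_self]), h⟩

theorem comm5' {e r r' : U K} {s : K} (he : e ∈ Ys) (h : L.Im n (X5 s) e) (hr : r.x1 = 0) (h' : L.Im n r r') :
    L.Im n (X4 (s * r.y2) * X6 (s * r.y8)) (X4 (e.x5 * r'.y2) * X6 (e.x5 * r'.y8)) := by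
  have := h.comm h'
  rwa [comm_YR he (hn.x1 h' hr), comm_YR (by simp only [mem_Ys, UE, and_self]) hr] at this

theorem y2 {r : U K} (h : L.Im n (Y2 1) r) : r.y2 = 0 ∧ r.y8 ≠ 0 := by
  obtain ⟨e, he, h1⟩ := hn.ex5 1
  have := hn.comm5' he h1 rfl h
  simp only [UE, X6_zero, mul_one] at this
  have := this.uniq hn.t4
  simp only [U.ext_iff, UE] at this
  grind

theorem mapZ (h : L.Im n a b) (ha : a ∈ Zs) : b ∈ V6 := by
  obtain ⟨r, -, h1⟩ := hn.im (Y2 1) rfl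
  obtain ⟨e, he, h2⟩ := hn.ex5 a.x4
  have := hn.comm5' he h2 rfl h1
  simp only [UE, X6_zero, mul_one, ← eq_X4 ha, (hn.y2 h1).1] at this
  rw [h.uniq this]
  simp only [mem_V6, UE, and_self]

variable [Finite K]

theorem mapV (h : L.Im n a b) (ha : a ∈ V6) : b ∈ Zs := by
  obtain ⟨b', hb, e⟩ := (im_surj (P := (· ∈ Zs)) (P' := (· ∈ V6)) (fun a ha =>
    let ⟨b, _, e⟩ := hn.im' a ha.1; ⟨b, hn.symm.mapZ e ha, e⟩) (fun b => X4 b.x6)
    (fun b _ => by simp only [mem_Zs, UE, and_self]) fun b b' h h' e => by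
      simp only [U.ext_iff, UE, mem_V6] at e h h' ⊢; grind).1 a ha
  exact e.sym'.uniq h ▸ hb

theorem map8 (h : L.Im n a b) (ha : a.x1 = 0) (h8 : a.y8 = 0) : b.y2 = 0 := by
  obtain ⟨e, he, h1⟩ := hn.ex5 1
  have := hn.mapZ (hn.comm5' he h1 ha h) (by simp only [mem_Zs, UE, h8, and_self])
  have h5 : e.x5 ≠ 0 := fun h5 => by
    have := hn.symm.mapW h1.sym (by rw [mem_Ys] at he; simp only [mem_Ws, he, h5, and_self])
    simp [mem_Ws, UE] at this
  simp only [mem_V6, UE] at this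
  grind

theorem ex2 : ∃ d ∈ Bs, d.x8 ≠ 0 ∧ L.Im n (X2 1) d := by
  obtain ⟨r, hr, h1⟩ := hn.im (Y2 1) rfl
  have h2 := h1.mul h1
  rw [show Y2 (1 : K) * Y2 1 = X2 1 by ext <;> simp only [UE]] at h2
  have h3 := h2.mul h2
  rw [show X2 (1 : K) * X2 1 = 1 by ext <;> simp only [UE]] at h3
  have h4 : (r * r).x8 ≠ 0 := by
    simp only [UE]
    exact fun e => (hn.y2 h1).2 (mul_σ_eq_zero e)
  exact ⟨_, mem_Bs_of_sq (h3.uniq Im.one) h4 (by simp only [UE, hr, (hn.y2 h1).1]), h4, h2⟩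

theorem mapA (h : L.Im n a b) (ha : a ∈ As) : b ∈ Bs := by
  obtain ⟨d, hd, h8, e⟩ := hn.ex2
  rw [mem_As] at ha
  refine mem_Bs_of_comm hd h8 (h.commute e (by ext <;> simp only [UE, ha] <;> grind)) ((h.mul h).uniq ?_)
  rw [show a * a = 1 by ext <;> simp only [UE, ha]]
  exact Im.one

theorem mapB (h : L.Im n a b) (ha : a ∈ Bs) : b ∈ As := by
  obtain ⟨b', hb, e⟩ := (im_surj (P := (· ∈ As)) (P' := (· ∈ Bs)) (fun a ha =>
    let ⟨b, _, e⟩ := hn.im' a ha.1; ⟨b, hn.symm.mapA e ha, e⟩)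
    (fun b => {b with x2 := b.x8, x3 := b.x7, x7 := 0, x8 := 0})
    (fun b h => by simp only [mem_As, mem_Bs] at h ⊢; simp only [h, and_self]) fun b b' h h' e => by
      simp only [U.ext_iff, UE, mem_Bs] at e h h' ⊢; grind).1 a ha
  exact e.sym'.uniq h ▸ hb

theorem mapQ (h : L.Im n a b) (ha : a.x1 = 0) (hq : a ∈ Qs) : b.x1 = 0 ∧ b.y2 = 0 ∧ b.x2 = 0 := by
  obtain ⟨e, -, h1⟩ := hn.surj (b := X8 1) rfl
  have := hn.mapZ (h.comm h1) (comm_QA hq (hn.symm.mapB h1.sym (by simp only [mem_Bs, UE, and_self])))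
  have x1 := hn.x1 h ha
  have y2 := hn.map8 h ha hq.1
  simp only [mem_V6, commutatorElement_def, UE, x1, y2] at this
  grind

theorem mapL (h : L.Im n a b) (ha : a.x1 = 0 ∧ a.y2 = 0 ∧ a.x2 = 0) : b ∈ Qs := by
  obtain ⟨b', hb, e⟩ := (im_surj (P := fun a => a.x1 = 0 ∧ a ∈ Qs) (P' := fun a => a.x1 = 0 ∧ a.y2 = 0 ∧ a.x2 = 0)
    (fun a ha => let ⟨b, _, e⟩ := hn.im' a ha.1; ⟨b, hn.symm.mapQ e ha.1 ha.2, e⟩)
    (fun b => {b with y2 := b.y8, x2 := b.x8, y8 := 0, x8 := 0})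
    (fun b h => ⟨h.1, rfl, rfl⟩) fun b b' h h' e => by
      simp only [U.ext_iff, UE] at e ⊢; grind).1 a ha
  exact e.sym'.uniq h ▸ hb.2

variable [Finite G] (H : L.Hyp)
include H

theorem not_dd7 : ¬ L.Dd (L.N (X7 1)) := fun hd => by
  obtain ⟨b, hb, e⟩ := hn.im (X3 1) rfl
  have h1 := hn.mapA e (by simp only [mem_As, UE, and_self])
  have h2 := hn.mapL e ⟨rfl, rfl, rfl⟩
  rw [mem_Bs] at h1
  have h7 : b.x7 ≠ 0 := fun h7 => by
    have := hn.symm.mapY e.sym (by simp only [mem_Ys, h1, h2.2, h7, and_self])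
    simp [mem_Ys, UE] at this
  exact H.not_dd5 ((cls3 (by simp only [mem_As, UE, and_self]) rfl one_ne_zero).dd (e.sym.dd
    ((cls7 h7 hb h1.2.1 h1.2.2.1 h1.2.2.2.2.1 h1.2.2.2.2.2.1 h2).symm.dd hd)))

theorem kappa {r r' s s' : K} (hr : r ≠ 0) (hr' : r' ≠ 0) (h : L.Dd (L.N (X8 r * X4 s)))
    (h' : L.Dd (L.N (X8 r' * X4 s'))) : s = s' := by
  have key : ∀ r s : K, r ≠ 0 → L.Dd (L.N (X8 r * X4 s)) → L.Dd (L.N (X8 1 * X4 s)) := fun r s hr h => by
    obtain ⟨ν, hν⟩ := exists_w8 hr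
    exact (cj_of 1 ν (by ext <;> simp only [UE, hν])).dd h
  replace h := key _ _ hr h
  replace h' := key _ _ hr' h'
  obtain ⟨a, h1, e⟩ := hn.im (X8 1 * X4 s) (by simp only [UE])
  obtain ⟨b, -, e'⟩ := hn.im (X4 (s + s')) rfl
  have ha := hn.mapB e (by simp only [mem_Bs, UE, and_self])
  have hb := hn.mapZ e' (by simp only [mem_Zs, UE, and_self])
  have h2 : a.x2 ≠ 0 := fun h2 => by
    have := hn.symm.mapL e.sym ⟨h1, ha.2.1, h2⟩
    simp [mem_Qs, UE] at this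
  rw [mem_V6] at hb
  have e2 : b = X6 b.x6 := by ext <;> simp only [UE, hb]
  by_cases h6 : b.x6 = 0
  · rw [e2, h6, X6_zero] at e'
    have := congrArg U.x4 (e'.uniq' Im.one)
    simp only [UE] at this
    grind
  · have e3 := e.mul e'
    rw [show X8 1 * X4 s * X4 (s + s') = X8 1 * X4 s' by ext <;> simp only [UE] <;> grind, e2] at e3
    exact ((secant ha h2 h6).elim (fun c => H.not_dd5 (c.dd (e.dd h))) fun c => H.not_dd5 (c.dd (e3.dd h'))).elim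

omit H [Finite G] in
theorem dd2 {r : K} (hr : r ≠ 0) : L.Dd (L.N (X2 r)) :=
  (((cj_ω (a := X2 r) ⟨rfl, rfl⟩).trans (cls6 (by simp only [mem_Ws, UE, and_self])
    (by simpa only [UE] using hr))).symm).dd (hn.t4.dd dd_τ)

theorem exists_norm : ∃ n κ, L.Sw n ∧ L.Dd (L.N (X8 1 * X4 κ)) ∧ ∀ r, ∃ b, L.Im n (X2 r) b ∧
    b * X4 b.x4 ∈ W3 ∧ (r ≠ 0 → b.x4 = κ) := by
  obtain ⟨d, hd, h8, e⟩ := hn.ex2
  obtain ⟨r0, hr0, κ, e1⟩ := clsB hd h8
  have hn' := hn.mulR hr0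
  have e2 := e1 ▸ e.trans (Im.conj r0 d)
  generalize L.N r0 * n = m at hn' e2
  have D1 := e2.dd (hn.dd2 one_ne_zero)
  obtain ⟨ν, hν⟩ := exists_w8 h8
  refine ⟨m, κ, hn', (cj_of 1 ν (by ext <;> simp only [UE, hν])).dd D1, fun r => ?_⟩
  obtain ⟨b, -, e3⟩ := hn'.im (X2 r) rfl
  have hb := hn'.mapA e3 (by simp only [mem_As, UE, and_self])
  have key : ∀ v : U K, v.x1 = 0 ∧ v.y2 = 0 ∧ v.x2 = 0 ∧ v.x3 = 0 → b * v = v * b := fun v hv => by
    obtain ⟨u, h1, e4⟩ := hn'.surj hv.1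
    have h2 := hn'.symm.mapL e4.sym ⟨hv.1, hv.2.1, hv.2.2.1⟩
    have h3 := congrArg U.x4 (e4.sym.commute e2.sym ((comm8 h8).2 hv))
    simp only [UE, h1, h2.1, h2.2] at h3
    have h7 : u.x7 = 0 := by grind
    exact e3.commute e4 (by ext <;> simp only [UE, h1, h2.1, h2.2, h7] <;> grind)
  have k4 := congrArg U.x6 (key (Y4 1) ⟨rfl, rfl, rfl, rfl⟩)
  have k8 := congrArg U.x6 (key (Y8 1) ⟨rfl, rfl, rfl, rfl⟩)
  rw [mem_Bs] at hb
  simp only [UE, hb] at k4 k8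
  have h7 : b.x7 = 0 := by grind
  have h5 : b.x5 = 0 := by grind
  refine ⟨b, e3, by simp only [mem_W3, UE, hb, h5, h7, and_self], fun hr => ?_⟩
  have h8' : b.x8 ≠ 0 := fun h => by
    have := hn'.symm.mapW e3.sym (by simp only [mem_Ws, hb, h5, h7, h, and_self])
    simp [mem_Ws, UE, hr] at this
  obtain ⟨t, ht⟩ := exists_sol h8' b.x6
  refine hn.kappa H h8' h8 ((cj_of (X3 t) 1 ?_).dd (e3.dd (hn.dd2 hr))) D1
  ext <;> simp only [UE, hb, h5, h7, inv_one, Units.val_one] <;> grind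

theorem dd8_or : L.Dd (L.N (X8 1)) ∨ (∀ a : K, a = 0 ∨ a = 1) ∧ L.Dd (L.N (X8 1 * X4 1)) := by
  obtain ⟨n, κ, -, hd, h⟩ := hn.exists_norm H
  by_cases h0 : κ = 0
  · exact .inl (by simpa [h0] using hd)
  have key : ∀ a : K, a = 0 ∨ a = 1 := fun a => by
    by_contra! ha
    obtain ⟨b1, e1, w1, k1⟩ := h 1
    obtain ⟨b2, e2, w2, k2⟩ := h a
    obtain ⟨b3, e3, w3, k3⟩ := h (a + 1)
    have := congrArg U.x4 ((e2.mul e1).uniq
      (show X2 (a + 1) = X2 a * X2 1 by ext <;> simp only [UE] ▸ e3))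
    simp only [mem_W3, UE] at w1 w2
    simp only [UE, w1, w2, k1 one_ne_zero, k2 ha.1, k3 (by grind)] at this
    exact h0 this.symm
  exact .inr ⟨key, ((key κ).resolve_left h0) ▸ hd⟩

theorem exists_norm' (hd : L.Dd (L.N (X8 1))) : ∃ n, L.Sw n ∧ ∀ r, ∃ b ∈ W3, L.Im n (X2 r) b := by
  obtain ⟨m, κ, hm, hd', h⟩ := hn.exists_norm H
  obtain rfl : κ = 0 := hn.kappa H one_ne_zero one_ne_zero hd' (by simpa using hd)
  refine ⟨m, hm, fun r => ?_⟩
  by_cases hr : r = 0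
  · exact ⟨1, one_mem _, by rw [hr, X2_zero]; exact Im.one⟩
  · obtain ⟨b, e, hb, h4⟩ := h r
    exact ⟨b, by simpa [h4 hr] using hb, e⟩

end Sw

variable (L) in
/-- The local structure in new coordinates. -/
def twist [Finite K] {ψ : U K →* U K} {s : K} (T : TwD ψ s) : Loc K G where
  N := L.N.comp ψ
  inj := L.inj.comp T.inj
  w := L.w * L.N (X4 s)
  h := L.h
  C := L.C
  ww := by
    rw [mul_assoc, ← mul_assoc (L.N _), ← comm_Z L.w_mem, mul_assoc, ← map_mul,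
      show X4 s * X4 s = 1 by ext <;> simp only [UE], map_one, mul_one, L.ww]
  wN u hu := by
    have := L.wN _ ((T.q u).2 hu)
    rw [MonoidHom.comp_apply, MonoidHom.comp_apply, ← T.hω u hu, ← this, mul_assoc L.w, ← comm_Z (L.N_mem _)]
    group
  hN ν u := by rw [MonoidHom.comp_apply, MonoidHom.comp_apply, L.hN, T.hη]
  wh ν := by rw [← L.wh, mul_assoc L.w, ← comm_Z (L.h_mem _)]; group
  rel := by
    have h1 := L.wN _ T.q1
    have h2 := L.wN _ T.q2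
    have h3 := congrArg L.N T.rel
    simp only [map_mul, map_inv] at h1 h2 h3
    rw [← h1, ← h2] at h3
    have h4 := L.rel
    simp only [MonoidHom.comp_apply]
    rw [mul_assoc L.w, ← comm_Z (L.N_mem _)]
    calc _ = L.w * L.N (X8 1) * L.w⁻¹ * (L.w * ((L.N (X8 1))⁻¹ * L.N (ψ (X8 1))) * L.w⁻¹) := by group
      _ = (L.N (Y8 1))⁻¹ * (L.w * L.w) * L.N (Y8 1) * (L.N (ψ (Y8 1)))⁻¹ * L.w⁻¹ * L.N (X4 s) *
          L.N (ψ (Y8 1)) := by rw [h4, h3]; group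
      _ = _ := by rw [L.ww, w_inv]; group
  N_mem u := L.N_mem _
  w_mem := mul_mem L.w_mem (L.N_mem _)
  h_mem := L.h_mem
  bru c hc := by
    have hs := Finite.injective_iff_surjective.1 T.inj
    rcases L.bru c hc with ⟨u, ν, rfl⟩ | ⟨u, v, ν, rfl⟩
    · obtain ⟨u, rfl⟩ := hs u
      exact .inl ⟨u, ν, rfl⟩
    · obtain ⟨u, rfl⟩ := hs u
      obtain ⟨v', e⟩ := hs ((X4 s)⁻¹ * v)
      refine .inr ⟨u, v', ν, ?_⟩
      simp only [MonoidHom.comp_apply, e, map_mul, map_inv]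
      group
  ti u v ν e := (T.q u).1 (L.ti _ (ψ v) ν (by
    rw [← MonoidHom.comp_apply L.N ψ v, ← e, MonoidHom.comp_apply, mul_assoc L.w (L.N (X4 s)), ← comm_Z (L.N_mem _)]
    group))

/-- Two local structures that differ by a change of coordinates. -/
structure Same (L L' : Loc K G) : Prop where
  C : L'.C = L.C
  S : L'.S = L.S
  N : ∀ u ∈ Ws, L'.N u = L.N u

namespace Same

variable {L' L'' : Loc K G}

theorem refl : Same L L := ⟨rfl, rfl, fun _ _ => rfl⟩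

theorem trans (h : Same L L') (h' : Same L' L'') : Same L L'' :=
  ⟨h'.C.trans h.C, h'.S.trans h.S, fun u hu => (h'.N u hu).trans (h.N u hu)⟩

theorem τ (h : Same L L') : L'.τ = L.τ := h.N _ (by simp only [mem_Ws, UE, and_self])

theorem map (h : Same L L') {P : Subgroup (U K)} (hP : P ≤ Ws) : P.map L'.N = P.map L.N := by
  ext x
  exact exists_congr fun u => and_congr_right fun hu => by rw [h.N u (hP hu)]

theorem W (h : Same L L') : L'.W = L.W := h.map le_rfl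

theorem Z (h : Same L L') : L'.Z = L.Z := h.map fun u hu => by
  rw [mem_Zs] at hu; simp only [mem_Ws, hu, and_self]

theorem hyp (h : Same L L') (H : L.Hyp) : L'.Hyp := ⟨h.S ▸ H.syl, by rw [h.τ, h.C]; exact H.norm⟩

theorem dd (h : Same L L') {d : G} : L'.Dd d ↔ L.Dd d := by rw [Dd, h.τ, Dd]

theorem dd6 (h : Same L L') (hd : L.Dd (L.N (X6 1))) : L'.Dd (L'.N (X6 1)) := by
  rwa [h.dd, h.N _ (by simp only [mem_Ws, UE, and_self])]

end Same

theorem same_twist [Finite K] {ψ : U K →* U K} {s : K} (T : TwD ψ s) : Same L (L.twist T) :=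
  ⟨rfl, by
    rw [S, S, twist, MonoidHom.range_comp, MonoidHom.range_eq_top.2 (Finite.injective_iff_surjective.1 T.inj),
      MonoidHom.range_eq_map], fun u hu => congrArg L.N (T.fix u hu)⟩

theorem twist_N [Finite K] {ψ : U K →* U K} {s : K} (T : TwD ψ s) (u : U K) : (L.twist T).N u = L.N (ψ u) := rfl

end Loc

/-- The exceptional change of coordinates for `q = 2`. -/
def ψ2 (h : ∀ a : K, a = 0 ∨ a = 1) : U K →* U K := MonoidHom.mk' (fun a =>
  {a with x2 := a.x2 + a.y2 + a.x1, x3 := a.x3 + a.x1, y4 := a.y4 + a.y8,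
          x4 := a.x4 + a.y4 + a.y4 * a.y8 + a.x8, x5 := a.x5 + a.x7 + a.y6 * a.y8,
          x6 := a.x6 + a.y6 + a.x7 + a.x7 * a.y8}) fun a b => by
  have h1 : ∀ a : K, σ a = a := fun a => by rcases h a with rfl | rfl <;> simp
  have h2 : ∀ a : K, a ^ 2 = a := fun a => by rcases h a with rfl | rfl <;> simp
  have a1 := h2 a.x1
  have a2 := h2 a.y8
  have a3 := h2 a.x8
  have a4 := h2 a.y6
  have a5 := h2 a.y4
  have a6 := h2 a.x7
  have a7 := h2 a.y2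
  have b1 := h2 b.x1
  have b2 := h2 b.y2
  have b3 := h2 b.y4
  have b4 := h2 b.y8
  have b5 := h2 b.y6
  ext <;> simp only [UE, h1] <;> grind

theorem twD2 (h : ∀ a : K, a = 0 ∨ a = 1) : TwD (ψ2 h) 1 := by
  have h1 : ∀ a : K, σ a = a := fun a => by rcases h a with rfl | rfl <;> simp
  have h2 : ∀ a : K, a ^ 2 = a := fun a => by rcases h a with rfl | rfl <;> simp
  refine ⟨(injective_iff_map_eq_one _).2 fun a e => ?_, fun _ => Iff.rfl, fun a ha => ?_, fun ν u => ?_,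
    fun a ha => ?_, ?_, ?_, ?_⟩
  · simp only [U.ext_iff, ψ2, MonoidHom.mk'_apply, UE] at e ⊢
    grind
  · have a1 := h2 a.x1
    have a4 := h2 a.y6
    have a5 := h2 a.y4
    have a6 := h2 a.x7
    have a7 := h2 a.y2
    ext <;> simp only [ψ2, MonoidHom.mk'_apply, UE, h1, ha.1, ha.2] <;> grind
  · obtain rfl : ν = 1 := Units.ext ((h _).resolve_left ν.ne_zero)
    ext <;> simp only [ψ2, MonoidHom.mk'_apply, UE, inv_one, Units.val_one]
  · rw [mem_Ws] at ha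
    ext <;> simp only [ψ2, MonoidHom.mk'_apply, UE, ha]
  · simp only [mem_Qs, ψ2, MonoidHom.mk'_apply, UE, and_self]
  · simp only [mem_Qs, ψ2, MonoidHom.mk'_apply, UE, and_self]
  · ext <;> simp only [ψ2, MonoidHom.mk'_apply, UE]

theorem ψ2_X8 (h : ∀ a : K, a = 0 ∨ a = 1) : ψ2 h (X8 1) = X8 1 * X4 1 := by
  ext <;> simp only [ψ2, MonoidHom.mk'_apply, UE]

variable [Finite K]

/-- A change of coordinates that moves the centre of the last root group. -/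
noncomputable def ψκ (κ : K) : U K →* U K := MonoidHom.mk' (fun a =>
  {a with x4 := a.x4 + κ * θ a.y4, x5 := a.x5 + κ * θ a.y8, x6 := a.x6 + κ * θ a.x8 + κ * θ a.y8 * a.y8})
  fun a b => by
  have a1 := σ_eq a.y8
  have a2 := σ_eq a.x8
  have a3 := σ_eq b.y8
  ext <;> simp only [UE, map_add, map_mul, θσ] <;> grind

theorem twDκ (κ : K) : TwD (ψκ κ) 0 := by
  refine ⟨(injective_iff_map_eq_one _).2 fun a e => ?_, fun _ => Iff.rfl, fun a ha => ?_, fun ν u => ?_,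
    fun a ha => ?_, ?_, ?_, ?_⟩
  · simp only [U.ext_iff, ψκ, MonoidHom.mk'_apply, UE] at e ⊢
    obtain ⟨e1, e2, e3, e4, e5, e6, e7, e8, e9, e10, e11, e12⟩ := e
    simp only [e5, e11, e12, map_zero, UE] at e6 e7 e9
    simp only [*, and_self]
  · ext <;> simp only [ψκ, MonoidHom.mk'_apply, UE, ha.1, ha.2, map_zero] <;> grind
  · have a1 := σ_eq (ν : K)
    ext <;> simp only [ψκ, MonoidHom.mk'_apply, UE, map_mul, θσ, map_pow] <;> grind
  · rw [mem_Ws] at ha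
    ext <;> simp only [ψκ, MonoidHom.mk'_apply, UE, ha, map_zero]
  · simp only [mem_Qs, ψκ, MonoidHom.mk'_apply, UE, and_self]
  · simp only [mem_Qs, ψκ, MonoidHom.mk'_apply, UE, and_self]
  · ext <;> simp only [ψκ, MonoidHom.mk'_apply, UE, map_zero, map_one]

/-- A central change of coordinates. -/
def ψζ (ρ : K →+ K) : U K →* U K := MonoidHom.mk' (fun a => {a with x4 := a.x4 + ρ a.y8}) fun a b => by
  ext <;> simp only [UE, map_add] <;> grind

theorem twDζ (ρ : K →+ K) (h : ∀ (ν : Kˣ) c, ρ (σ (ν : K) * c) = ρ c) : TwD (ψζ ρ) 0 := by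
  refine ⟨(injective_iff_map_eq_one _).2 fun a e => ?_, fun _ => Iff.rfl, fun a ha => ?_, fun ν u => ?_,
    fun a ha => ?_, ?_, ?_, ?_⟩
  · simp only [U.ext_iff, ψζ, MonoidHom.mk'_apply, UE] at e ⊢
    obtain ⟨e1, e2, e3, e4, e5, e6, e7, e8, e9, e10, e11, e12⟩ := e
    simp only [e11, map_zero, UE] at e6
    simp only [*, and_self]
  · ext <;> simp only [ψζ, MonoidHom.mk'_apply, UE, ha.1, ha.2, map_zero]
  · ext <;> simp only [ψζ, MonoidHom.mk'_apply, UE, h]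
  · rw [mem_Ws] at ha
    ext <;> simp only [ψζ, MonoidHom.mk'_apply, UE, ha, map_zero]
  · simp only [mem_Qs, ψζ, MonoidHom.mk'_apply, UE, and_self]
  · simp only [mem_Qs, ψζ, MonoidHom.mk'_apply, UE, and_self]
  · ext <;> simp only [ψζ, MonoidHom.mk'_apply, UE, map_zero, map_one]

theorem Loc.Hyp.exists_dd8 [Finite G] {L : Loc K G} (H : L.Hyp) (hd : L.Dd (L.N (X6 1))) :
    ∃ L' : Loc K G, L.Same L' ∧ L'.Dd (L'.N (X8 1)) := by
  obtain ⟨n, hn⟩ := H.exists_sw hd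
  rcases hn.dd8_or H with h | ⟨h, h'⟩
  · exact ⟨L, .refl, h⟩
  · exact ⟨_, Loc.same_twist (twD2 h), by rwa [(Loc.same_twist _).dd, Loc.twist_N, ψ2_X8]⟩

end Cfsg.Agent.Oct
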