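import Mathlib

/-!
The unipotent group of the Ree group `²F₄`, in coordinates.
-/

set_option autoImplicit false
set_option maxRecDepth 20000
set_option linter.unusedSectionVars false

namespace Cfsg.Agent.Oct

/-- A field of characteristic two with a Tits endomorphism. -/
class Tw (K : Type*) [Field K] where
  s : K →+* K
  ss : ∀ t, s (s t) = t ^ 2
  ch : CharP K 2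

variable {K : Type*} [Field K] [Tw K]

instance Tw.instCharP : CharP K 2 := Tw.ch

/-- The Tits endomorphism. -/
def σ : K →+* K := Tw.s

@[simp] theorem σσ (t : K) : σ (σ t) = t ^ 2 := Tw.ss t

/-- Coordinates. -/
@[ext] structure U (K : Type*) where
  x1 : K
  y2 : K
  x2 : K
  x3 : K
  y4 : K
  x4 : K
  x5 : K
  y6 : K
  x6 : K
  x7 : K
  y8 : K
  x8 : K

namespace U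

def mul (a b : U K) : U K where
  x1 := a.x1 + b.x1
  y2 := a.y2 + b.y2 + a.y8 * b.x1
  x2 := a.x2 + b.x2 + a.y2 * σ b.y2 + a.y4 * b.x1 + a.y6 * σ b.x1 + a.x8 * b.x1 * σ b.x1 + a.y2 * σ a.y8 * σ b.x1 + a.y8 * b.x1 * σ b.y2
  x3 := a.x3 + b.x3 + a.x7 * σ b.x1 + a.y4 * b.y2 + σ a.y6 * b.x1 + a.y8 * b.x2 + a.x8 * σ b.x1 * b.y2 + σ a.x8 * b.x1 * σ b.x1 + a.y4 * a.y8 * b.x1 + a.y8 * b.y2 * σ b.y2 + a.x8 * a.y8 * b.x1 * σ b.x1 + a.y8 ^ 2 * σ a.y8 * b.x1 * σ b.x1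
  y4 := a.y4 + b.y4 + a.x8 * σ b.x1 + a.y8 * σ b.y2
  x4 := a.x4 + b.x4 + a.x5 * b.y2 + a.x6 * b.x1 + a.x7 * b.x2 + a.x8 * σ b.x2 + a.y4 * σ b.y4 + a.y6 * b.x3 + a.y8 * σ b.x3 + a.x5 * a.y8 * b.x1 + a.x7 * a.y6 * σ b.x1 + a.x7 * b.y2 * σ b.y2 + σ a.x7 * b.x1 * b.y2 + a.x8 * b.x1 * b.x3 + a.x8 * σ b.x1 * σ b.y4 + a.x8 * b.x2 * b.y2 + σ a.x8 * b.x1 * b.x2 + a.y6 * a.y8 * b.x2 + a.y8 * σ b.y2 * σ b.y4 + σ a.y8 * b.x3 * b.y2 + a.x7 * a.x8 * b.x1 * σ b.x1 + a.x7 * σ a.y8 * σ b.x1 * b.y2 + σ a.x7 * a.y8 * b.x1 ^ 2 + a.x8 * a.y6 * σ b.x1 * b.y2 + a.x8 * b.y2 ^ 2 * σ b.y2 + σ a.x8 * a.y4 * b.x1 ^ 2 + σ a.x8 * a.y6 * b.x1 * σ b.x1 + σ a.x8 * b.x1 * b.y2 * σ b.y2 + a.y4 * σ a.y8 * b.y2 ^ 2 + a.y6 * a.y8 * b.y2 * σ b.y2 + a.y8 *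 σ a.y8 * b.x1 * b.x3 + a.y8 * σ a.y8 * b.x2 * b.y2 + a.x7 * a.y8 * σ a.y8 * b.x1 * σ b.x1 + a.x8 * σ a.x8 * b.x1 ^ 2 * σ b.x1 + a.x8 * a.y6 * a.y8 * b.x1 * σ b.x1 + a.x8 * σ a.y8 * σ b.x1 * b.y2 ^ 2 + a.x8 ^ 2 * b.x1 * σ b.x1 * b.y2 + σ a.x8 * σ a.y8 * b.x1 * σ b.x1 * b.y2 + a.y8 * σ a.y8 * b.y2 ^ 2 * σ b.y2 + a.x8 ^ 2 * a.y8 * b.x1 ^ 2 * σ b.x1 + σ a.x8 * a.y8 * σ a.y8 * b.x1 ^ 2 * σ b.x1 + a.y6 * a.y8 ^ 2 * σ a.y8 * b.x1 * σ b.x1 + a.y8 ^ 2 * (σ a.y8) ^ 2 * b.x1 * σ b.x1 * b.y2 + a.y8 ^ 3 * (σ a.y8) ^ 2 * b.x1 ^ 2 * σ b.x1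
  x5 := a.x5 + b.x5 + a.x7 * σ b.y2 + σ a.x7 * b.x1 + a.x8 * b.x2 + a.y6 * b.y4 + σ a.y8 * b.x3 + a.x7 * σ a.y8 * σ b.x1 + a.x8 * a.y6 * σ b.x1 + a.x8 * b.x1 * b.y4 + σ a.x8 * b.x1 * σ b.y2 + a.y6 * a.y8 * σ b.y2 + a.y8 * σ a.y8 * b.x2 + σ a.y8 * b.y2 * b.y4 + a.x8 ^ 2 * b.x1 * σ b.x1 + σ a.x8 * σ a.y8 * b.x1 * σ b.x1 + a.y8 * σ a.y8 * b.x1 * b.y4 + a.y8 ^ 2 * (σ a.y8) ^ 2 * b.x1 * σ b.x1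
  y6 := a.y6 + b.y6 + a.x8 * b.x1 + σ a.y8 * b.y2 + a.y8 * σ a.y8 * b.x1
  x6 := a.x6 + b.x6 + a.x7 * b.y4 + σ a.x7 * b.y2 + a.x8 * b.x3 + σ a.x8 * b.x2 + a.y6 * σ b.y6 + a.y8 * b.x5 + a.x7 * a.x8 * σ b.x1 + a.x7 * a.y8 * σ b.y2 + σ a.x7 * a.y8 * b.x1 + a.x8 * a.y8 * b.x2 + a.x8 * b.x1 * σ b.y6 + a.x8 * b.y2 * b.y4 + σ a.x8 * a.y6 * σ b.x1 + σ a.x8 * b.x1 * b.y4 + σ a.x8 * b.y2 * σ b.y2 + σ a.y8 * b.y2 * σ b.y6 + a.x8 * a.y8 * b.x1 * b.y4 + a.x8 ^ 2 * σ b.x1 * b.y2 + σ a.x8 * a.y8 * b.x1 * σ b.y2 + σ a.x8 * σ a.y8 * σ b.x1 * b.y2 + a.y6 * a.y8 ^ 2 * σ b.y2 + a.y8 * σ a.y8 * b.x1 * σ b.y6 + a.y8 ^ 2 * σ a.y8 * b.x2 + a.x8 ^ 2 * a.y8 * b.x1 * σ b.x1 + σ a.x8 * a.y8 * σ a.y8 * b.x1 * σ b.x1 + a.y6 * a.y8 ^ 2 * σ a.y8 * σ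 b.x1 + a.y8 ^ 2 * σ a.y8 * b.x1 * b.y4 + a.y8 ^ 2 * (σ a.y8) ^ 2 * σ b.x1 * b.y2 + a.y8 ^ 3 * (σ a.y8) ^ 2 * b.x1 * σ b.x1
  x7 := a.x7 + b.x7 + a.x8 * b.y2 + σ a.x8 * b.x1 + a.y8 * b.y6 + a.x8 * a.y8 * b.x1 + a.y8 ^ 2 * σ a.y8 * b.x1
  y8 := a.y8 + b.y8
  x8 := a.x8 + b.x8 + a.y8 * σ b.y8

def inv (a : U K) : U K where
  x1 := a.x1
  y2 := a.y2 + a.x1 * a.y8
  x2 := a.x2 + a.x1 * a.y4 + σ a.x1 * a.y6 + a.y2 * σ a.y2 + a.x1 * σ a.x1 * a.x8 + a.x1 * σ a.y2 * a.y8 + a.x1 * σ a.x1 * a.y8 * σ a.y8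
  x3 := a.x3 + a.x1 * σ a.y6 + σ a.x1 * a.x7 + a.x2 * a.y8 + a.y2 * a.y4 + a.x1 * σ a.x1 * σ a.x8 + a.x1 * a.y4 * a.y8 + σ a.x1 * a.x8 * a.y2 + σ a.x1 * a.y6 * a.y8 + a.x1 * σ a.x1 * a.x8 * a.y8 + σ a.x1 * a.y2 * a.y8 * σ a.y8 + a.x1 * σ a.x1 * a.y8 ^ 2 * σ a.y8
  y4 := a.y4 + σ a.x1 * a.x8 + σ a.y2 * a.y8 + σ a.x1 * a.y8 * σ a.y8
  x4 := a.x4 + a.x1 * a.x6 + a.x2 * a.x7 + σ a.x2 * a.x8 + a.x3 * a.y6 + σ a.x3 * a.y8 + a.x5 * a.y2 + a.y4 * σ a.y4 + a.x1 * a.x2 * σ a.x8 + a.x1 * a.x3 * a.x8 + a.x1 * a.x7 * a.y4 + a.x1 * σ a.x7 * a.y2 + a.x1 * a.y6 * σ a.y6 + σ a.x1 * a.x7 * a.y6 + a.x2 * a.x8 * a.y2 + σ a.x2 * a.y8 * σ a.y8 + a.x3 * a.y2 * σ a.y8 + a.y2 * a.y4 * a.y6 + a.x1 * σ a.x1 * a.x7 * a.x8 + a.x1 * σ a.x1 * σ a.x8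 * a.y6 + a.x1 * a.y2 * σ a.y6 * σ a.y8 + a.x1 ^ 2 * σ a.x7 * a.y8 + a.x1 ^ 2 * σ a.x8 * a.y4 + σ a.x1 * a.x7 * a.y2 * σ a.y8 + σ a.x1 * a.x8 * a.y2 * a.y6 + σ a.x1 * a.y6 ^ 2 * a.y8 + a.x8 * a.y2 ^ 2 * σ a.y2 + a.y2 ^ 2 * a.y4 * σ a.y8 + a.x1 * σ a.x1 * a.x8 ^ 2 * a.y2 + a.x1 * σ a.x1 * σ a.x8 * a.y2 * σ a.y8 + a.x1 * a.x2 * a.y8 ^ 2 * σ a.y8 + a.x1 ^ 2 * σ a.x1 * a.x8 * σ a.x8 + a.x1 ^ 2 * σ a.y6 * a.y8 * σ a.y8 + σ a.x1 * a.x8 * a.y2 ^ 2 * σ a.y8 + a.y2 ^ 2 * σ a.y2 * a.y8 * σ a.y8 + a.x1 * σ a.x1 * a.y6 * a.y8 ^ 2 * σ a.y8 + a.x1 ^ 2 * σ a.x1 * a.x8 ^ 2 * a.y8 + a.x1 ^ 2 * a.y4 * a.y8 ^ 2 * σ a.y8 + σ a.x1 * a.y2 ^ 2 * a.y8 * (σ a.y8) ^ 2 + a.x1 * σ a.x1 * a.y2 * a.y8 ^ 2 * (σ a.y8) ^ 2 + a.x1 ^ 2 * σ a.x1 * a.x8 *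 a.y8 ^ 2 * σ a.y8
  x5 := a.x5 + a.x1 * σ a.x7 + a.x2 * a.x8 + a.x3 * σ a.y8 + a.x7 * σ a.y2 + a.y4 * a.y6 + a.x1 * σ a.x8 * σ a.y2 + a.x1 * σ a.y6 * σ a.y8 + σ a.x1 * a.x7 * σ a.y8 + σ a.x1 * a.x8 * a.y6 + a.x8 * a.y2 * σ a.y2 + a.x1 * σ a.x1 * a.x8 ^ 2 + a.x1 * σ a.x1 * σ a.x8 * σ a.y8 + a.x1 * σ a.y2 * a.y8 ^ 2 * σ a.y8 + a.x1 * σ a.x1 * a.y8 ^ 2 * (σ a.y8) ^ 2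
  y6 := a.y6 + a.x1 * a.x8 + a.y2 * σ a.y8
  x6 := a.x6 + a.x2 * σ a.x8 + a.x3 * a.x8 + a.x5 * a.y8 + a.x7 * a.y4 + σ a.x7 * a.y2 + a.y6 * σ a.y6 + a.x1 * σ a.x7 * a.y8 + σ a.x1 * a.x7 * a.x8 + σ a.x1 * σ a.x8 * a.y6 + a.x2 * a.x8 * a.y8 + a.x3 * a.y8 * σ a.y8 + a.x7 * σ a.y2 * a.y8 + a.y2 * σ a.y6 * σ a.y8 + a.y4 * a.y6 * a.y8 + a.x1 * σ a.x8 * σ a.y2 * a.y8 + a.x1 * σ a.y6 * a.y8 * σ a.y8 + σ a.x1 * a.x7 * a.y8 * σ a.y8 + σ a.x1 * a.x8 * a.y6 * a.y8 + σ a.x1 * a.x8 ^ 2 * a.y2 + σ a.x1 * σ a.x8 * a.y2 * σ a.y8 + a.x2 * a.y8 ^ 2 * σ a.y8 + a.x8 * a.y2 * σ a.y2 * a.y8 + a.x1 * σ a.x1 * a.x8 ^ 2 * a.y8 + a.x1 * σ a.x1 * σ a.x8 * a.y8 * σ a.y8 + σ a.x1 * a.y6 * a.y8 ^ 2 * σ a.y8 + a.x1 * σ a.y2 * a.y8 ^ 3 * σ a.y8 + σ a.x1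 * a.y2 * a.y8 ^ 2 * (σ a.y8) ^ 2 + a.x1 * σ a.x1 * a.y8 ^ 3 * (σ a.y8) ^ 2
  x7 := a.x7 + a.x1 * σ a.x8 + a.x8 * a.y2 + a.y6 * a.y8 + a.x1 * a.x8 * a.y8 + a.y2 * a.y8 * σ a.y8 + a.x1 * a.y8 ^ 2 * σ a.y8
  y8 := a.y8
  x8 := a.x8 + a.y8 * σ a.y8


instance : Mul (U K) := ⟨mul⟩
instance : Inv (U K) := ⟨inv⟩
instance : One (U K) := ⟨⟨0, 0, 0, 0, 0, 0, 0, 0, 0, 0, 0, 0⟩⟩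

theorem mul_x1 (a b : U K) : (a * b).x1 = a.x1 + b.x1 := rfl
theorem mul_y2 (a b : U K) : (a * b).y2 = a.y2 + b.y2 + a.y8 * b.x1 := rfl
theorem mul_x2 (a b : U K) : (a * b).x2 = a.x2 + b.x2 + a.y2 * σ b.y2 + a.y4 * b.x1 + a.y6 * σ b.x1 + a.x8 * b.x1 * σ b.x1 + a.y2 * σ a.y8 * σ b.x1 + a.y8 * b.x1 * σ b.y2 := rfl
theorem mul_x3 (a b : U K) : (a * b).x3 = a.x3 + b.x3 + a.x7 * σ b.x1 + a.y4 * b.y2 + σ a.y6 * b.x1 + a.y8 * b.x2 + a.x8 * σ b.x1 * b.y2 + σ a.x8 * b.x1 * σ b.x1 + a.y4 * a.y8 * b.x1 + a.y8 * b.y2 * σ b.y2 + a.x8 * a.y8 * b.x1 * σ b.x1 + a.y8 ^ 2 * σ a.y8 * b.x1 * σ b.x1 := rfl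
theorem mul_y4 (a b : U K) : (a * b).y4 = a.y4 + b.y4 + a.x8 * σ b.x1 + a.y8 * σ b.y2 := rfl
theorem mul_x4 (a b : U K) : (a * b).x4 = a.x4 + b.x4 + a.x5 * b.y2 + a.x6 * b.x1 + a.x7 * b.x2 + a.x8 * σ b.x2 + a.y4 * σ b.y4 + a.y6 * b.x3 + a.y8 * σ b.x3 + a.x5 * a.y8 * b.x1 + a.x7 * a.y6 * σ b.x1 + a.x7 * b.y2 * σ b.y2 + σ a.x7 * b.x1 * b.y2 + a.x8 * b.x1 * b.x3 + a.x8 * σ b.x1 * σ b.y4 + a.x8 * b.x2 * b.y2 + σ a.x8 * b.x1 * b.x2 + a.y6 * a.y8 * b.x2 + a.y8 * σ b.y2 * σ b.y4 + σ a.y8 * b.x3 * b.y2 + a.x7 * a.x8 * b.x1 * σ b.x1 + a.x7 * σ a.y8 * σ b.x1 * b.y2 + σ a.x7 * a.y8 * b.x1 ^ 2 + a.x8 * a.y6 * σ b.x1 * b.y2 + a.x8 * b.y2 ^ 2 * σ b.y2 + σ a.x8 * a.y4 * b.x1 ^ 2 + σ a.x8 * a.y6 * b.x1 * σ b.x1 + σ a.x8 * b.x1 * b.y2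 * σ b.y2 + a.y4 * σ a.y8 * b.y2 ^ 2 + a.y6 * a.y8 * b.y2 * σ b.y2 + a.y8 * σ a.y8 * b.x1 * b.x3 + a.y8 * σ a.y8 * b.x2 * b.y2 + a.x7 * a.y8 * σ a.y8 * b.x1 * σ b.x1 + a.x8 * σ a.x8 * b.x1 ^ 2 * σ b.x1 + a.x8 * a.y6 * a.y8 * b.x1 * σ b.x1 + a.x8 * σ a.y8 * σ b.x1 * b.y2 ^ 2 + a.x8 ^ 2 * b.x1 * σ b.x1 * b.y2 + σ a.x8 * σ a.y8 * b.x1 * σ b.x1 * b.y2 + a.y8 * σ a.y8 * b.y2 ^ 2 * σ b.y2 + a.x8 ^ 2 * a.y8 * b.x1 ^ 2 * σ b.x1 + σ a.x8 * a.y8 * σ a.y8 * b.x1 ^ 2 * σ b.x1 + a.y6 * a.y8 ^ 2 * σ a.y8 * b.x1 * σ b.x1 + a.y8 ^ 2 * (σ a.y8) ^ 2 * b.x1 * σ b.x1 * b.y2 + a.y8 ^ 3 * (σ a.y8) ^ 2 * b.x1 ^ 2 * σ b.x1 := rfl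
theorem mul_x5 (a b : U K) : (a * b).x5 = a.x5 + b.x5 + a.x7 * σ b.y2 + σ a.x7 * b.x1 + a.x8 * b.x2 + a.y6 * b.y4 + σ a.y8 * b.x3 + a.x7 * σ a.y8 * σ b.x1 + a.x8 * a.y6 * σ b.x1 + a.x8 * b.x1 * b.y4 + σ a.x8 * b.x1 * σ b.y2 + a.y6 * a.y8 * σ b.y2 + a.y8 * σ a.y8 * b.x2 + σ a.y8 * b.y2 * b.y4 + a.x8 ^ 2 * b.x1 * σ b.x1 + σ a.x8 * σ a.y8 * b.x1 * σ b.x1 + a.y8 * σ a.y8 * b.x1 * b.y4 + a.y8 ^ 2 * (σ a.y8) ^ 2 * b.x1 * σ b.x1 := rfl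
theorem mul_y6 (a b : U K) : (a * b).y6 = a.y6 + b.y6 + a.x8 * b.x1 + σ a.y8 * b.y2 + a.y8 * σ a.y8 * b.x1 := rfl
theorem mul_x6 (a b : U K) : (a * b).x6 = a.x6 + b.x6 + a.x7 * b.y4 + σ a.x7 * b.y2 + a.x8 * b.x3 + σ a.x8 * b.x2 + a.y6 * σ b.y6 + a.y8 * b.x5 + a.x7 * a.x8 * σ b.x1 + a.x7 * a.y8 * σ b.y2 + σ a.x7 * a.y8 * b.x1 + a.x8 * a.y8 * b.x2 + a.x8 * b.x1 * σ b.y6 + a.x8 * b.y2 * b.y4 + σ a.x8 * a.y6 * σ b.x1 + σ a.x8 * b.x1 * b.y4 + σ a.x8 * b.y2 * σ b.y2 + σ a.y8 * b.y2 * σ b.y6 + a.x8 * a.y8 * b.x1 * b.y4 + a.x8 ^ 2 * σ b.x1 * b.y2 + σ a.x8 * a.y8 * b.x1 * σ b.y2 + σ a.x8 * σ a.y8 * σ b.x1 * b.y2 + a.y6 * a.y8 ^ 2 * σ b.y2 + a.y8 * σ a.y8 * b.x1 * σ b.y6 + a.y8 ^ 2 * σ a.y8 * b.x2 + a.x8 ^ 2 * a.y8 * b.x1 * σ b.x1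 + σ a.x8 * a.y8 * σ a.y8 * b.x1 * σ b.x1 + a.y6 * a.y8 ^ 2 * σ a.y8 * σ b.x1 + a.y8 ^ 2 * σ a.y8 * b.x1 * b.y4 + a.y8 ^ 2 * (σ a.y8) ^ 2 * σ b.x1 * b.y2 + a.y8 ^ 3 * (σ a.y8) ^ 2 * b.x1 * σ b.x1 := rfl
theorem mul_x7 (a b : U K) : (a * b).x7 = a.x7 + b.x7 + a.x8 * b.y2 + σ a.x8 * b.x1 + a.y8 * b.y6 + a.x8 * a.y8 * b.x1 + a.y8 ^ 2 * σ a.y8 * b.x1 := rfl
theorem mul_y8 (a b : U K) : (a * b).y8 = a.y8 + b.y8 := rfl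
theorem mul_x8 (a b : U K) : (a * b).x8 = a.x8 + b.x8 + a.y8 * σ b.y8 := rfl
theorem inv_x1 (a : U K) : (a⁻¹).x1 = a.x1 := rfl
theorem inv_y2 (a : U K) : (a⁻¹).y2 = a.y2 + a.x1 * a.y8 := rfl
theorem inv_x2 (a : U K) : (a⁻¹).x2 = a.x2 + a.x1 * a.y4 + σ a.x1 * a.y6 + a.y2 * σ a.y2 + a.x1 * σ a.x1 * a.x8 + a.x1 * σ a.y2 * a.y8 + a.x1 * σ a.x1 * a.y8 * σ a.y8 := rfl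
theorem inv_x3 (a : U K) : (a⁻¹).x3 = a.x3 + a.x1 * σ a.y6 + σ a.x1 * a.x7 + a.x2 * a.y8 + a.y2 * a.y4 + a.x1 * σ a.x1 * σ a.x8 + a.x1 * a.y4 * a.y8 + σ a.x1 * a.x8 * a.y2 + σ a.x1 * a.y6 * a.y8 + a.x1 * σ a.x1 * a.x8 * a.y8 + σ a.x1 * a.y2 * a.y8 * σ a.y8 + a.x1 * σ a.x1 * a.y8 ^ 2 * σ a.y8 := rfl
theorem inv_y4 (a : U K) : (a⁻¹).y4 = a.y4 + σ a.x1 * a.x8 + σ a.y2 * a.y8 + σ a.x1 * a.y8 * σ a.y8 := rfl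
theorem inv_x4 (a : U K) : (a⁻¹).x4 = a.x4 + a.x1 * a.x6 + a.x2 * a.x7 + σ a.x2 * a.x8 + a.x3 * a.y6 + σ a.x3 * a.y8 + a.x5 * a.y2 + a.y4 * σ a.y4 + a.x1 * a.x2 * σ a.x8 + a.x1 * a.x3 * a.x8 + a.x1 * a.x7 * a.y4 + a.x1 * σ a.x7 * a.y2 + a.x1 * a.y6 * σ a.y6 + σ a.x1 * a.x7 * a.y6 + a.x2 * a.x8 * a.y2 + σ a.x2 * a.y8 * σ a.y8 + a.x3 * a.y2 * σ a.y8 + a.y2 * a.y4 * a.y6 + a.x1 * σ a.x1 * a.x7 * a.x8 + a.x1 * σ a.x1 * σ a.x8 * a.y6 + a.x1 * a.y2 * σ a.y6 * σ a.y8 + a.x1 ^ 2 * σ a.x7 * a.y8 + a.x1 ^ 2 * σ a.x8 * a.y4 + σ a.x1 * a.x7 * a.y2 * σ a.y8 + σ a.x1 * a.x8 * a.y2 * a.y6 + σ a.x1 * a.y6 ^ 2 * a.y8 + a.x8 * a.y2 ^ 2 * σ a.y2 + a.y2 ^ 2 * a.y4 * σ a.y8 + a.x1 * σ a.x1 * a.x8 ^ 2 * a.y2 + a.x1 * σ a.x1 * σ a.x8 * a.y2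 * σ a.y8 + a.x1 * a.x2 * a.y8 ^ 2 * σ a.y8 + a.x1 ^ 2 * σ a.x1 * a.x8 * σ a.x8 + a.x1 ^ 2 * σ a.y6 * a.y8 * σ a.y8 + σ a.x1 * a.x8 * a.y2 ^ 2 * σ a.y8 + a.y2 ^ 2 * σ a.y2 * a.y8 * σ a.y8 + a.x1 * σ a.x1 * a.y6 * a.y8 ^ 2 * σ a.y8 + a.x1 ^ 2 * σ a.x1 * a.x8 ^ 2 * a.y8 + a.x1 ^ 2 * a.y4 * a.y8 ^ 2 * σ a.y8 + σ a.x1 * a.y2 ^ 2 * a.y8 * (σ a.y8) ^ 2 + a.x1 * σ a.x1 * a.y2 * a.y8 ^ 2 * (σ a.y8) ^ 2 + a.x1 ^ 2 * σ a.x1 * a.x8 * a.y8 ^ 2 * σ a.y8 := rfl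
theorem inv_x5 (a : U K) : (a⁻¹).x5 = a.x5 + a.x1 * σ a.x7 + a.x2 * a.x8 + a.x3 * σ a.y8 + a.x7 * σ a.y2 + a.y4 * a.y6 + a.x1 * σ a.x8 * σ a.y2 + a.x1 * σ a.y6 * σ a.y8 + σ a.x1 * a.x7 * σ a.y8 + σ a.x1 * a.x8 * a.y6 + a.x8 * a.y2 * σ a.y2 + a.x1 * σ a.x1 * a.x8 ^ 2 + a.x1 * σ a.x1 * σ a.x8 * σ a.y8 + a.x1 * σ a.y2 * a.y8 ^ 2 * σ a.y8 + a.x1 * σ a.x1 * a.y8 ^ 2 * (σ a.y8) ^ 2 := rfl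
theorem inv_y6 (a : U K) : (a⁻¹).y6 = a.y6 + a.x1 * a.x8 + a.y2 * σ a.y8 := rfl
theorem inv_x6 (a : U K) : (a⁻¹).x6 = a.x6 + a.x2 * σ a.x8 + a.x3 * a.x8 + a.x5 * a.y8 + a.x7 * a.y4 + σ a.x7 * a.y2 + a.y6 * σ a.y6 + a.x1 * σ a.x7 * a.y8 + σ a.x1 * a.x7 * a.x8 + σ a.x1 * σ a.x8 * a.y6 + a.x2 * a.x8 * a.y8 + a.x3 * a.y8 * σ a.y8 + a.x7 * σ a.y2 * a.y8 + a.y2 * σ a.y6 * σ a.y8 + a.y4 * a.y6 * a.y8 + a.x1 * σ a.x8 * σ a.y2 * a.y8 + a.x1 * σ a.y6 * a.y8 * σ a.y8 + σ a.x1 * a.x7 * a.y8 * σ a.y8 + σ a.x1 * a.x8 * a.y6 * a.y8 + σ a.x1 * a.x8 ^ 2 * a.y2 + σ a.x1 * σ a.x8 * a.y2 * σ a.y8 + a.x2 * a.y8 ^ 2 * σ a.y8 + a.x8 * a.y2 * σ a.y2 * a.y8 + a.x1 * σ a.x1 * a.x8 ^ 2 * a.y8 + a.x1 * σ a.x1 * σ a.x8 * a.y8 * σ a.y8 + σ a.x1 *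 a.y6 * a.y8 ^ 2 * σ a.y8 + a.x1 * σ a.y2 * a.y8 ^ 3 * σ a.y8 + σ a.x1 * a.y2 * a.y8 ^ 2 * (σ a.y8) ^ 2 + a.x1 * σ a.x1 * a.y8 ^ 3 * (σ a.y8) ^ 2 := rfl
theorem inv_x7 (a : U K) : (a⁻¹).x7 = a.x7 + a.x1 * σ a.x8 + a.x8 * a.y2 + a.y6 * a.y8 + a.x1 * a.x8 * a.y8 + a.y2 * a.y8 * σ a.y8 + a.x1 * a.y8 ^ 2 * σ a.y8 := rfl
theorem inv_y8 (a : U K) : (a⁻¹).y8 = a.y8 := rfl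
theorem inv_x8 (a : U K) : (a⁻¹).x8 = a.x8 + a.y8 * σ a.y8 := rfl
omit [Tw K] in
@[simp] theorem one_x1 : (1 : U K).x1 = 0 := rfl
omit [Tw K] in
@[simp] theorem one_y2 : (1 : U K).y2 = 0 := rfl
omit [Tw K] in
@[simp] theorem one_x2 : (1 : U K).x2 = 0 := rfl
omit [Tw K] in
@[simp] theorem one_x3 : (1 : U K).x3 = 0 := rfl
omit [Tw K] in
@[simp] theorem one_y4 : (1 : U K).y4 = 0 := rfl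
omit [Tw K] in
@[simp] theorem one_x4 : (1 : U K).x4 = 0 := rfl
omit [Tw K] in
@[simp] theorem one_x5 : (1 : U K).x5 = 0 := rfl
omit [Tw K] in
@[simp] theorem one_y6 : (1 : U K).y6 = 0 := rfl
omit [Tw K] in
@[simp] theorem one_x6 : (1 : U K).x6 = 0 := rfl
omit [Tw K] in
@[simp] theorem one_x7 : (1 : U K).x7 = 0 := rfl
omit [Tw K] in
@[simp] theorem one_y8 : (1 : U K).y8 = 0 := rfl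
omit [Tw K] in
@[simp] theorem one_x8 : (1 : U K).x8 = 0 := rfl

set_option maxHeartbeats 4000000 in
theorem mul_assoc' (a b c : U K) : a * b * c = a * (b * c) := by
  ext <;> simp only [mul_x1, mul_y2, mul_x2, mul_x3, mul_y4, mul_x4, mul_x5, mul_y6, mul_x6, mul_x7, mul_y8, mul_x8, map_add, map_mul, map_pow, σσ] <;> grind

theorem inv_mul' (a : U K) : a⁻¹ * a = 1 := by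
  ext <;> simp only [mul_x1, mul_y2, mul_x2, mul_x3, mul_y4, mul_x4, mul_x5, mul_y6, mul_x6, mul_x7, mul_y8, mul_x8, inv_x1, inv_y2, inv_x2, inv_x3, inv_y4, inv_x4, inv_x5, inv_y6, inv_x6, inv_x7, inv_y8, inv_x8, map_add, map_mul, map_pow, σσ, one_x1, one_y2, one_x2, one_x3, one_y4, one_x4, one_x5, one_y6, one_x6, one_x7, one_y8, one_x8] <;> grind

instance : Group (U K) := Group.ofLeftAxioms mul_assoc'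
  (fun a => by ext <;> simp [mul_x1, mul_y2, mul_x2, mul_x3, mul_y4, mul_x4, mul_x5, mul_y6, mul_x6, mul_x7, mul_y8, mul_x8]) inv_mul'

end U

/-- A root element. -/
def X1 (t : K) : U K := ⟨t, 0, 0, 0, 0, 0, 0, 0, 0, 0, 0, 0⟩
/-- A root element. -/
def Y2 (t : K) : U K := ⟨0, t, 0, 0, 0, 0, 0, 0, 0, 0, 0, 0⟩
/-- A root element. -/
def X2 (t : K) : U K := ⟨0, 0, t, 0, 0, 0, 0, 0, 0, 0, 0, 0⟩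
/-- A root element. -/
def X3 (t : K) : U K := ⟨0, 0, 0, t, 0, 0, 0, 0, 0, 0, 0, 0⟩
/-- A root element. -/
def Y4 (t : K) : U K := ⟨0, 0, 0, 0, t, 0, 0, 0, 0, 0, 0, 0⟩
/-- A root element. -/
def X4 (t : K) : U K := ⟨0, 0, 0, 0, 0, t, 0, 0, 0, 0, 0, 0⟩
/-- A root element. -/
def X5 (t : K) : U K := ⟨0, 0, 0, 0, 0, 0, t, 0, 0, 0, 0, 0⟩
/-- A root element. -/
def Y6 (t : K) : U K := ⟨0, 0, 0, 0, 0, 0, 0, t, 0, 0, 0, 0⟩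
/-- A root element. -/
def X6 (t : K) : U K := ⟨0, 0, 0, 0, 0, 0, 0, 0, t, 0, 0, 0⟩
/-- A root element. -/
def X7 (t : K) : U K := ⟨0, 0, 0, 0, 0, 0, 0, 0, 0, t, 0, 0⟩
/-- A root element. -/
def Y8 (t : K) : U K := ⟨0, 0, 0, 0, 0, 0, 0, 0, 0, 0, t, 0⟩
/-- A root element. -/
def X8 (t : K) : U K := ⟨0, 0, 0, 0, 0, 0, 0, 0, 0, 0, 0, t⟩

/-- The action of the reflection on `Q`. -/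
def ω (a : U K) : U K where
  x1 := a.x7
  y2 := a.y6
  x2 := a.x6 + a.x7 * a.y4 + σ a.x7 * a.y2
  x3 := a.x5 + a.x1 * σ a.x7 + a.x7 * σ a.y2 + a.y4 * a.y6
  y4 := a.y4
  x4 := a.x4 + a.x1 * a.x6 + a.x2 * a.x7 + a.x3 * a.y6 + a.x5 * a.y2 + a.x1 * a.x7 * a.y4 + a.x1 * σ a.x7 * a.y2 + a.x1 * a.y6 * σ a.y6 + σ a.x1 * a.x7 * a.y6 + a.y2 * a.y4 * a.y6
  x5 := a.x3 + a.x1 * σ a.y6 + σ a.x1 * a.x7 + a.y2 * a.y4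
  y6 := a.y2
  x6 := a.x2 + a.x1 * a.y4 + σ a.x1 * a.y6
  x7 := a.x1
  y8 := 0
  x8 := 0

/-- The action of the torus. -/
def η (ν : Kˣ) (a : U K) : U K where
  x1 := ((ν⁻¹ : Kˣ) : K) * σ ((ν⁻¹ : Kˣ) : K) * a.x1
  y2 := ((ν⁻¹ : Kˣ) : K) * a.y2
  x2 := ((ν⁻¹ : Kˣ) : K) * σ ((ν⁻¹ : Kˣ) : K) * a.x2
  x3 := ((ν⁻¹ : Kˣ) : K) * a.x3
  y4 := a.y4
  x4 := a.x4
  x5 := (ν : K) * a.x5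
  y6 := (ν : K) * a.y6
  x6 := (ν : K) * σ (ν : K) * a.x6
  x7 := (ν : K) * σ (ν : K) * a.x7
  y8 := σ (ν : K) * a.y8
  x8 := σ (ν : K) * (ν : K) ^ 2 * a.x8

theorem UE : ((((((((∀ a b : U K, (a * b).x1 = a.x1 + b.x1) ∧
    ((∀ a b : U K, (a * b).y2 = a.y2 + b.y2 + a.y8 * b.x1) ∧
    (∀ a b : U K, (a * b).x2 = a.x2 + b.x2 + a.y2 * σ b.y2 + a.y4 * b.x1 + a.y6 * σ b.x1 + a.x8 * b.x1 * σ b.x1 + a.y2 * σ a.y8 * σ b.x1 + a.y8 * b.x1 * σ b.y2))) ∧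
    ((∀ a b : U K, (a * b).x3 = a.x3 + b.x3 + a.x7 * σ b.x1 + a.y4 * b.y2 + σ a.y6 * b.x1 + a.y8 * b.x2 + a.x8 * σ b.x1 * b.y2 + σ a.x8 * b.x1 * σ b.x1 + a.y4 * a.y8 * b.x1 + a.y8 * b.y2 * σ b.y2 + a.x8 * a.y8 * b.x1 * σ b.x1 + a.y8 ^ 2 * σ a.y8 * b.x1 * σ b.x1) ∧
    ((∀ a b : U K, (a * b).y4 = a.y4 + b.y4 + a.x8 * σ b.x1 + a.y8 * σ b.y2) ∧
    (∀ a b : U K, (a * b).x4 = a.x4 + b.x4 + a.x5 * b.y2 + a.x6 * b.x1 + a.x7 * b.x2 + a.x8 * σ b.x2 + a.y4 * σ b.y4 + a.y6 * b.x3 + a.y8 * σ b.x3 + a.x5 * a.y8 * b.x1 + a.x7 * a.y6 * σ b.x1 + a.x7 * b.y2 * σ b.y2 + σ a.x7 * b.x1 * b.y2 + a.x8 * b.x1 * b.x3 + a.x8 * σ b.x1 * σ b.y4 + a.x8 * b.x2 * b.y2 + σ a.x8 * b.x1 * b.x2 + a.y6 * a.y8 * b.x2 + a.y8 * σ b.y2 * σ b.y4 + σ a.y8 *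 b.x3 * b.y2 + a.x7 * a.x8 * b.x1 * σ b.x1 + a.x7 * σ a.y8 * σ b.x1 * b.y2 + σ a.x7 * a.y8 * b.x1 ^ 2 + a.x8 * a.y6 * σ b.x1 * b.y2 + a.x8 * b.y2 ^ 2 * σ b.y2 + σ a.x8 * a.y4 * b.x1 ^ 2 + σ a.x8 * a.y6 * b.x1 * σ b.x1 + σ a.x8 * b.x1 * b.y2 * σ b.y2 + a.y4 * σ a.y8 * b.y2 ^ 2 + a.y6 * a.y8 * b.y2 * σ b.y2 + a.y8 * σ a.y8 * b.x1 * b.x3 + a.y8 * σ a.y8 * b.x2 * b.y2 + a.x7 * a.y8 * σ a.y8 * b.x1 * σ b.x1 + a.x8 * σ a.x8 * b.x1 ^ 2 * σ b.x1 + a.x8 * a.y6 * a.y8 * b.x1 * σ b.x1 + a.x8 * σ a.y8 * σ b.x1 * b.y2 ^ 2 + a.x8 ^ 2 * b.x1 * σ b.x1 * b.y2 + σ a.x8 * σ a.y8 * b.x1 * σ b.x1 * b.y2 + a.y8 * σ a.y8 * b.y2 ^ 2 * σ b.y2 + a.x8 ^ 2 * a.y8 * b.x1 ^ 2 * σ b.x1 + σ a.x8 * a.y8 * σ a.y8 * b.x1 ^ 2 * σ b.x1 + a.y6 * a.y8 ^ 2 *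 σ a.y8 * b.x1 * σ b.x1 + a.y8 ^ 2 * (σ a.y8) ^ 2 * b.x1 * σ b.x1 * b.y2 + a.y8 ^ 3 * (σ a.y8) ^ 2 * b.x1 ^ 2 * σ b.x1)))) ∧
    (((∀ a b : U K, (a * b).x5 = a.x5 + b.x5 + a.x7 * σ b.y2 + σ a.x7 * b.x1 + a.x8 * b.x2 + a.y6 * b.y4 + σ a.y8 * b.x3 + a.x7 * σ a.y8 * σ b.x1 + a.x8 * a.y6 * σ b.x1 + a.x8 * b.x1 * b.y4 + σ a.x8 * b.x1 * σ b.y2 + a.y6 * a.y8 * σ b.y2 + a.y8 * σ a.y8 * b.x2 + σ a.y8 * b.y2 * b.y4 + a.x8 ^ 2 * b.x1 * σ b.x1 + σ a.x8 * σ a.y8 * b.x1 * σ b.x1 + a.y8 * σ a.y8 * b.x1 * b.y4 + a.y8 ^ 2 * (σ a.y8) ^ 2 * b.x1 * σ b.x1) ∧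
    ((∀ a b : U K, (a * b).y6 = a.y6 + b.y6 + a.x8 * b.x1 + σ a.y8 * b.y2 + a.y8 * σ a.y8 * b.x1) ∧
    (∀ a b : U K, (a * b).x6 = a.x6 + b.x6 + a.x7 * b.y4 + σ a.x7 * b.y2 + a.x8 * b.x3 + σ a.x8 * b.x2 + a.y6 * σ b.y6 + a.y8 * b.x5 + a.x7 * a.x8 * σ b.x1 + a.x7 * a.y8 * σ b.y2 + σ a.x7 * a.y8 * b.x1 + a.x8 * a.y8 * b.x2 + a.x8 * b.x1 * σ b.y6 + a.x8 * b.y2 * b.y4 + σ a.x8 * a.y6 * σ b.x1 + σ a.x8 * b.x1 * b.y4 + σ a.x8 * b.y2 * σ b.y2 + σ a.y8 * b.y2 * σ b.y6 + a.x8 * a.y8 * b.x1 * b.y4 + a.x8 ^ 2 * σ b.x1 * b.y2 + σ a.x8 * a.y8 * b.x1 * σ b.y2 + σ a.x8 * σ a.y8 * σ b.x1 * b.y2 + a.y6 * a.y8 ^ 2 * σ b.y2 + a.y8 * σ a.y8 * b.x1 * σ b.y6 + a.y8 ^ 2 * σ a.y8 * b.x2 + a.x8 ^ 2 * a.y8 * b.x1 * σ b.x1 + σ a.x8 * a.y8 * σ a.y8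 * b.x1 * σ b.x1 + a.y6 * a.y8 ^ 2 * σ a.y8 * σ b.x1 + a.y8 ^ 2 * σ a.y8 * b.x1 * b.y4 + a.y8 ^ 2 * (σ a.y8) ^ 2 * σ b.x1 * b.y2 + a.y8 ^ 3 * (σ a.y8) ^ 2 * b.x1 * σ b.x1))) ∧
    (((∀ a b : U K, (a * b).x7 = a.x7 + b.x7 + a.x8 * b.y2 + σ a.x8 * b.x1 + a.y8 * b.y6 + a.x8 * a.y8 * b.x1 + a.y8 ^ 2 * σ a.y8 * b.x1) ∧
    (∀ a b : U K, (a * b).y8 = a.y8 + b.y8)) ∧
    ((∀ a b : U K, (a * b).x8 = a.x8 + b.x8 + a.y8 * σ b.y8) ∧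
    (∀ a : U K, (a⁻¹).x1 = a.x1))))) ∧
    ((((∀ a : U K, (a⁻¹).y2 = a.y2 + a.x1 * a.y8) ∧
    ((∀ a : U K, (a⁻¹).x2 = a.x2 + a.x1 * a.y4 + σ a.x1 * a.y6 + a.y2 * σ a.y2 + a.x1 * σ a.x1 * a.x8 + a.x1 * σ a.y2 * a.y8 + a.x1 * σ a.x1 * a.y8 * σ a.y8) ∧
    (∀ a : U K, (a⁻¹).x3 = a.x3 + a.x1 * σ a.y6 + σ a.x1 * a.x7 + a.x2 * a.y8 + a.y2 * a.y4 + a.x1 * σ a.x1 * σ a.x8 + a.x1 * a.y4 * a.y8 + σ a.x1 * a.x8 * a.y2 + σ a.x1 * a.y6 * a.y8 + a.x1 * σ a.x1 * a.x8 * a.y8 + σ a.x1 * a.y2 * a.y8 * σ a.y8 + a.x1 * σ a.x1 * a.y8 ^ 2 * σ a.y8))) ∧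
    (((∀ a : U K, (a⁻¹).y4 = a.y4 + σ a.x1 * a.x8 + σ a.y2 * a.y8 + σ a.x1 * a.y8 * σ a.y8) ∧
    (∀ a : U K, (a⁻¹).x4 = a.x4 + a.x1 * a.x6 + a.x2 * a.x7 + σ a.x2 * a.x8 + a.x3 * a.y6 + σ a.x3 * a.y8 + a.x5 * a.y2 + a.y4 * σ a.y4 + a.x1 * a.x2 * σ a.x8 + a.x1 * a.x3 * a.x8 + a.x1 * a.x7 * a.y4 + a.x1 * σ a.x7 * a.y2 + a.x1 * a.y6 * σ a.y6 + σ a.x1 * a.x7 * a.y6 + a.x2 * a.x8 * a.y2 + σ a.x2 * a.y8 * σ a.y8 + a.x3 * a.y2 * σ a.y8 + a.y2 * a.y4 * a.y6 + a.x1 * σ a.x1 * a.x7 * a.x8 + a.x1 * σ a.x1 * σ a.x8 * a.y6 + a.x1 * a.y2 * σ a.y6 * σ a.y8 + a.x1 ^ 2 * σ a.x7 * a.y8 + a.x1 ^ 2 * σ a.x8 * a.y4 + σ a.x1 * a.x7 * a.y2 * σ a.y8 + σ a.x1 * a.x8 * a.y2 * a.y6 + σ a.x1 * a.y6 ^ 2 * a.y8 + a.x8 * a.y2 ^ 2 * σ a.y2 + a.y2 ^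 2 * a.y4 * σ a.y8 + a.x1 * σ a.x1 * a.x8 ^ 2 * a.y2 + a.x1 * σ a.x1 * σ a.x8 * a.y2 * σ a.y8 + a.x1 * a.x2 * a.y8 ^ 2 * σ a.y8 + a.x1 ^ 2 * σ a.x1 * a.x8 * σ a.x8 + a.x1 ^ 2 * σ a.y6 * a.y8 * σ a.y8 + σ a.x1 * a.x8 * a.y2 ^ 2 * σ a.y8 + a.y2 ^ 2 * σ a.y2 * a.y8 * σ a.y8 + a.x1 * σ a.x1 * a.y6 * a.y8 ^ 2 * σ a.y8 + a.x1 ^ 2 * σ a.x1 * a.x8 ^ 2 * a.y8 + a.x1 ^ 2 * a.y4 * a.y8 ^ 2 * σ a.y8 + σ a.x1 * a.y2 ^ 2 * a.y8 * (σ a.y8) ^ 2 + a.x1 * σ a.x1 * a.y2 * a.y8 ^ 2 * (σ a.y8) ^ 2 + a.x1 ^ 2 * σ a.x1 * a.x8 * a.y8 ^ 2 * σ a.y8)) ∧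
    ((∀ a : U K, (a⁻¹).x5 = a.x5 + a.x1 * σ a.x7 + a.x2 * a.x8 + a.x3 * σ a.y8 + a.x7 * σ a.y2 + a.y4 * a.y6 + a.x1 * σ a.x8 * σ a.y2 + a.x1 * σ a.y6 * σ a.y8 + σ a.x1 * a.x7 * σ a.y8 + σ a.x1 * a.x8 * a.y6 + a.x8 * a.y2 * σ a.y2 + a.x1 * σ a.x1 * a.x8 ^ 2 + a.x1 * σ a.x1 * σ a.x8 * σ a.y8 + a.x1 * σ a.y2 * a.y8 ^ 2 * σ a.y8 + a.x1 * σ a.x1 * a.y8 ^ 2 * (σ a.y8) ^ 2) ∧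
    (∀ a : U K, (a⁻¹).y6 = a.y6 + a.x1 * a.x8 + a.y2 * σ a.y8)))) ∧
    (((∀ a : U K, (a⁻¹).x6 = a.x6 + a.x2 * σ a.x8 + a.x3 * a.x8 + a.x5 * a.y8 + a.x7 * a.y4 + σ a.x7 * a.y2 + a.y6 * σ a.y6 + a.x1 * σ a.x7 * a.y8 + σ a.x1 * a.x7 * a.x8 + σ a.x1 * σ a.x8 * a.y6 + a.x2 * a.x8 * a.y8 + a.x3 * a.y8 * σ a.y8 + a.x7 * σ a.y2 * a.y8 + a.y2 * σ a.y6 * σ a.y8 + a.y4 * a.y6 * a.y8 + a.x1 * σ a.x8 * σ a.y2 * a.y8 + a.x1 * σ a.y6 * a.y8 * σ a.y8 + σ a.x1 * a.x7 * a.y8 * σ a.y8 + σ a.x1 * a.x8 * a.y6 * a.y8 + σ a.x1 * a.x8 ^ 2 * a.y2 + σ a.x1 * σ a.x8 * a.y2 * σ a.y8 + a.x2 * a.y8 ^ 2 * σ a.y8 + a.x8 * a.y2 * σ a.y2 * a.y8 + a.x1 * σ a.x1 * a.x8 ^ 2 * a.y8 + a.x1 * σ a.x1 * σ a.x8 * a.y8 * σ a.y8 + σ a.x1 * a.y6 * a.y8 ^ 2 * σ a.y8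 + a.x1 * σ a.y2 * a.y8 ^ 3 * σ a.y8 + σ a.x1 * a.y2 * a.y8 ^ 2 * (σ a.y8) ^ 2 + a.x1 * σ a.x1 * a.y8 ^ 3 * (σ a.y8) ^ 2) ∧
    ((∀ a : U K, (a⁻¹).x7 = a.x7 + a.x1 * σ a.x8 + a.x8 * a.y2 + a.y6 * a.y8 + a.x1 * a.x8 * a.y8 + a.y2 * a.y8 * σ a.y8 + a.x1 * a.y8 ^ 2 * σ a.y8) ∧
    (∀ a : U K, (a⁻¹).y8 = a.y8))) ∧
    (((∀ a : U K, (a⁻¹).x8 = a.x8 + a.y8 * σ a.y8) ∧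
    ((1 : U K).x1 = 0)) ∧
    (((1 : U K).y2 = 0) ∧
    ((1 : U K).x2 = 0)))))) ∧
    ((((((1 : U K).x3 = 0) ∧
    (((1 : U K).y4 = 0) ∧
    ((1 : U K).x4 = 0))) ∧
    ((((1 : U K).x5 = 0) ∧
    ((1 : U K).y6 = 0)) ∧
    (((1 : U K).x6 = 0) ∧
    ((1 : U K).x7 = 0)))) ∧
    ((((1 : U K).y8 = 0) ∧
    (((1 : U K).x8 = 0) ∧
    (∀ t : K, (X1 t).x1 = t))) ∧
    (((∀ t : K, (X1 t).y2 = 0) ∧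
    (∀ t : K, (X1 t).x2 = 0)) ∧
    ((∀ t : K, (X1 t).x3 = 0) ∧
    (∀ t : K, (X1 t).y4 = 0))))) ∧
    ((((∀ t : K, (X1 t).x4 = 0) ∧
    ((∀ t : K, (X1 t).x5 = 0) ∧
    (∀ t : K, (X1 t).y6 = 0))) ∧
    (((∀ t : K, (X1 t).x6 = 0) ∧
    (∀ t : K, (X1 t).x7 = 0)) ∧
    ((∀ t : K, (X1 t).y8 = 0) ∧
    (∀ t : K, (X1 t).x8 = 0)))) ∧
    (((∀ t : K, (Y2 t).x1 = 0) ∧
    ((∀ t : K, (Y2 t).y2 = t) ∧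
    (∀ t : K, (Y2 t).x2 = 0))) ∧
    (((∀ t : K, (Y2 t).x3 = 0) ∧
    (∀ t : K, (Y2 t).y4 = 0)) ∧
    ((∀ t : K, (Y2 t).x4 = 0) ∧
    (∀ t : K, (Y2 t).x5 = 0))))))) ∧
    ((((((∀ t : K, (Y2 t).y6 = 0) ∧
    ((∀ t : K, (Y2 t).x6 = 0) ∧
    (∀ t : K, (Y2 t).x7 = 0))) ∧
    ((∀ t : K, (Y2 t).y8 = 0) ∧
    ((∀ t : K, (Y2 t).x8 = 0) ∧
    (∀ t : K, (X2 t).x1 = 0)))) ∧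
    (((∀ t : K, (X2 t).y2 = 0) ∧
    ((∀ t : K, (X2 t).x2 = t) ∧
    (∀ t : K, (X2 t).x3 = 0))) ∧
    (((∀ t : K, (X2 t).y4 = 0) ∧
    (∀ t : K, (X2 t).x4 = 0)) ∧
    ((∀ t : K, (X2 t).x5 = 0) ∧
    (∀ t : K, (X2 t).y6 = 0))))) ∧
    ((((∀ t : K, (X2 t).x6 = 0) ∧
    ((∀ t : K, (X2 t).x7 = 0) ∧
    (∀ t : K, (X2 t).y8 = 0))) ∧
    (((∀ t : K, (X2 t).x8 = 0) ∧
    (∀ t : K, (X3 t).x1 = 0)) ∧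
    ((∀ t : K, (X3 t).y2 = 0) ∧
    (∀ t : K, (X3 t).x2 = 0)))) ∧
    (((∀ t : K, (X3 t).x3 = t) ∧
    ((∀ t : K, (X3 t).y4 = 0) ∧
    (∀ t : K, (X3 t).x4 = 0))) ∧
    (((∀ t : K, (X3 t).x5 = 0) ∧
    (∀ t : K, (X3 t).y6 = 0)) ∧
    ((∀ t : K, (X3 t).x6 = 0) ∧
    (∀ t : K, (X3 t).x7 = 0)))))) ∧
    (((((∀ t : K, (X3 t).y8 = 0) ∧
    ((∀ t : K, (X3 t).x8 = 0) ∧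
    (∀ t : K, (Y4 t).x1 = 0))) ∧
    (((∀ t : K, (Y4 t).y2 = 0) ∧
    (∀ t : K, (Y4 t).x2 = 0)) ∧
    ((∀ t : K, (Y4 t).x3 = 0) ∧
    (∀ t : K, (Y4 t).y4 = t)))) ∧
    (((∀ t : K, (Y4 t).x4 = 0) ∧
    ((∀ t : K, (Y4 t).x5 = 0) ∧
    (∀ t : K, (Y4 t).y6 = 0))) ∧
    (((∀ t : K, (Y4 t).x6 = 0) ∧
    (∀ t : K, (Y4 t).x7 = 0)) ∧
    ((∀ t : K, (Y4 t).y8 = 0) ∧
    (∀ t : K, (Y4 t).x8 = 0))))) ∧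
    ((((∀ t : K, (X4 t).x1 = 0) ∧
    ((∀ t : K, (X4 t).y2 = 0) ∧
    (∀ t : K, (X4 t).x2 = 0))) ∧
    (((∀ t : K, (X4 t).x3 = 0) ∧
    (∀ t : K, (X4 t).y4 = 0)) ∧
    ((∀ t : K, (X4 t).x4 = t) ∧
    (∀ t : K, (X4 t).x5 = 0)))) ∧
    (((∀ t : K, (X4 t).y6 = 0) ∧
    ((∀ t : K, (X4 t).x6 = 0) ∧
    (∀ t : K, (X4 t).x7 = 0))) ∧
    (((∀ t : K, (X4 t).y8 = 0) ∧
    (∀ t : K, (X4 t).x8 = 0)) ∧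
    ((∀ t : K, (X5 t).x1 = 0) ∧
    (∀ t : K, (X5 t).y2 = 0)))))))) ∧
    (((((((∀ t : K, (X5 t).x2 = 0) ∧
    ((∀ t : K, (X5 t).x3 = 0) ∧
    (∀ t : K, (X5 t).y4 = 0))) ∧
    ((∀ t : K, (X5 t).x4 = 0) ∧
    ((∀ t : K, (X5 t).x5 = t) ∧
    (∀ t : K, (X5 t).y6 = 0)))) ∧
    (((∀ t : K, (X5 t).x6 = 0) ∧
    ((∀ t : K, (X5 t).x7 = 0) ∧
    (∀ t : K, (X5 t).y8 = 0))) ∧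
    (((∀ t : K, (X5 t).x8 = 0) ∧
    (∀ t : K, (Y6 t).x1 = 0)) ∧
    ((∀ t : K, (Y6 t).y2 = 0) ∧
    (∀ t : K, (Y6 t).x2 = 0))))) ∧
    ((((∀ t : K, (Y6 t).x3 = 0) ∧
    ((∀ t : K, (Y6 t).y4 = 0) ∧
    (∀ t : K, (Y6 t).x4 = 0))) ∧
    (((∀ t : K, (Y6 t).x5 = 0) ∧
    (∀ t : K, (Y6 t).y6 = t)) ∧
    ((∀ t : K, (Y6 t).x6 = 0) ∧
    (∀ t : K, (Y6 t).x7 = 0)))) ∧
    (((∀ t : K, (Y6 t).y8 = 0) ∧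
    ((∀ t : K, (Y6 t).x8 = 0) ∧
    (∀ t : K, (X6 t).x1 = 0))) ∧
    (((∀ t : K, (X6 t).y2 = 0) ∧
    (∀ t : K, (X6 t).x2 = 0)) ∧
    ((∀ t : K, (X6 t).x3 = 0) ∧
    (∀ t : K, (X6 t).y4 = 0)))))) ∧
    (((((∀ t : K, (X6 t).x4 = 0) ∧
    ((∀ t : K, (X6 t).x5 = 0) ∧
    (∀ t : K, (X6 t).y6 = 0))) ∧
    (((∀ t : K, (X6 t).x6 = t) ∧
    (∀ t : K, (X6 t).x7 = 0)) ∧
    ((∀ t : K, (X6 t).y8 = 0) ∧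
    (∀ t : K, (X6 t).x8 = 0)))) ∧
    (((∀ t : K, (X7 t).x1 = 0) ∧
    ((∀ t : K, (X7 t).y2 = 0) ∧
    (∀ t : K, (X7 t).x2 = 0))) ∧
    (((∀ t : K, (X7 t).x3 = 0) ∧
    (∀ t : K, (X7 t).y4 = 0)) ∧
    ((∀ t : K, (X7 t).x4 = 0) ∧
    (∀ t : K, (X7 t).x5 = 0))))) ∧
    ((((∀ t : K, (X7 t).y6 = 0) ∧
    ((∀ t : K, (X7 t).x6 = 0) ∧
    (∀ t : K, (X7 t).x7 = t))) ∧
    (((∀ t : K, (X7 t).y8 = 0) ∧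
    (∀ t : K, (X7 t).x8 = 0)) ∧
    ((∀ t : K, (Y8 t).x1 = 0) ∧
    (∀ t : K, (Y8 t).y2 = 0)))) ∧
    (((∀ t : K, (Y8 t).x2 = 0) ∧
    ((∀ t : K, (Y8 t).x3 = 0) ∧
    (∀ t : K, (Y8 t).y4 = 0))) ∧
    (((∀ t : K, (Y8 t).x4 = 0) ∧
    (∀ t : K, (Y8 t).x5 = 0)) ∧
    ((∀ t : K, (Y8 t).y6 = 0) ∧
    (∀ t : K, (Y8 t).x6 = 0))))))) ∧
    ((((((∀ t : K, (Y8 t).x7 = 0) ∧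
    ((∀ t : K, (Y8 t).y8 = t) ∧
    (∀ t : K, (Y8 t).x8 = 0))) ∧
    ((∀ t : K, (X8 t).x1 = 0) ∧
    ((∀ t : K, (X8 t).y2 = 0) ∧
    (∀ t : K, (X8 t).x2 = 0)))) ∧
    (((∀ t : K, (X8 t).x3 = 0) ∧
    ((∀ t : K, (X8 t).y4 = 0) ∧
    (∀ t : K, (X8 t).x4 = 0))) ∧
    (((∀ t : K, (X8 t).x5 = 0) ∧
    (∀ t : K, (X8 t).y6 = 0)) ∧
    ((∀ t : K, (X8 t).x6 = 0) ∧
    (∀ t : K, (X8 t).x7 = 0))))) ∧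
    ((((∀ t : K, (X8 t).y8 = 0) ∧
    ((∀ t : K, (X8 t).x8 = t) ∧
    (∀ a : U K, (ω a).x1 = a.x7))) ∧
    (((∀ a : U K, (ω a).y2 = a.y6) ∧
    (∀ a : U K, (ω a).x2 = a.x6 + a.x7 * a.y4 + σ a.x7 * a.y2)) ∧
    ((∀ a : U K, (ω a).x3 = a.x5 + a.x1 * σ a.x7 + a.x7 * σ a.y2 + a.y4 * a.y6) ∧
    (∀ a : U K, (ω a).y4 = a.y4)))) ∧
    (((∀ a : U K, (ω a).x4 = a.x4 + a.x1 * a.x6 + a.x2 * a.x7 + a.x3 * a.y6 + a.x5 * a.y2 + a.x1 * a.x7 * a.y4 + a.x1 * σ a.x7 * a.y2 + a.x1 * a.y6 * σ a.y6 + σ a.x1 * a.x7 * a.y6 + a.y2 * a.y4 * a.y6) ∧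
    ((∀ a : U K, (ω a).x5 = a.x3 + a.x1 * σ a.y6 + σ a.x1 * a.x7 + a.y2 * a.y4) ∧
    (∀ a : U K, (ω a).y6 = a.y2))) ∧
    (((∀ a : U K, (ω a).x6 = a.x2 + a.x1 * a.y4 + σ a.x1 * a.y6) ∧
    (∀ a : U K, (ω a).x7 = a.x1)) ∧
    ((∀ a : U K, (ω a).y8 = 0) ∧
    (∀ a : U K, (ω a).x8 = 0)))))) ∧
    (((((∀ (ν : Kˣ) (a : U K), (η ν a).x1 = ((ν⁻¹ : Kˣ) : K) * σ ((ν⁻¹ : Kˣ) : K) * a.x1) ∧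
    ((∀ (ν : Kˣ) (a : U K), (η ν a).y2 = ((ν⁻¹ : Kˣ) : K) * a.y2) ∧
    (∀ (ν : Kˣ) (a : U K), (η ν a).x2 = ((ν⁻¹ : Kˣ) : K) * σ ((ν⁻¹ : Kˣ) : K) * a.x2))) ∧
    (((∀ (ν : Kˣ) (a : U K), (η ν a).x3 = ((ν⁻¹ : Kˣ) : K) * a.x3) ∧
    (∀ (ν : Kˣ) (a : U K), (η ν a).y4 = a.y4)) ∧
    ((∀ (ν : Kˣ) (a : U K), (η ν a).x4 = a.x4) ∧
    (∀ (ν : Kˣ) (a : U K), (η ν a).x5 = (ν : K) * a.x5)))) ∧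
    (((∀ (ν : Kˣ) (a : U K), (η ν a).y6 = (ν : K) * a.y6) ∧
    ((∀ (ν : Kˣ) (a : U K), (η ν a).x6 = (ν : K) * σ (ν : K) * a.x6) ∧
    (∀ (ν : Kˣ) (a : U K), (η ν a).x7 = (ν : K) * σ (ν : K) * a.x7))) ∧
    (((∀ (ν : Kˣ) (a : U K), (η ν a).y8 = σ (ν : K) * a.y8) ∧
    (∀ (ν : Kˣ) (a : U K), (η ν a).x8 = σ (ν : K) * (ν : K) ^ 2 * a.x8)) ∧
    ((∀ a b : K, σ (a + b) = σ a + σ b) ∧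
    (∀ a b : K, σ (a * b) = σ a * σ b))))) ∧
    ((((∀ (a : K) (n : ℕ), σ (a ^ n) = σ a ^ n) ∧
    ((∀ a : K, σ (σ a) = a ^ 2) ∧
    (σ (0 : K) = 0))) ∧
    (((σ (1 : K) = 1) ∧
    (∀ a : K, a * 0 = 0)) ∧
    ((∀ a : K, 0 * a = 0) ∧
    (∀ a : K, a + 0 = a)))) ∧
    (((∀ a : K, 0 + a = a) ∧
    ((∀ a : K, a * 1 = a) ∧
    (∀ a : K, 1 * a = a))) ∧
    ((((0 : K) ^ 2 = 0) ∧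
    ((0 : K) ^ 3 = 0)) ∧
    ((∀ n : ℕ, (1 : K) ^ n = 1) ∧
    (∀ a : K, a + a = 0))))))))) :=
  ⟨⟨⟨⟨⟨⟨⟨U.mul_x1, ⟨U.mul_y2, U.mul_x2⟩⟩, ⟨U.mul_x3, ⟨U.mul_y4, U.mul_x4⟩⟩⟩, ⟨⟨U.mul_x5, ⟨U.mul_y6, U.mul_x6⟩⟩, ⟨⟨U.mul_x7, U.mul_y8⟩, ⟨U.mul_x8, U.inv_x1⟩⟩⟩⟩, ⟨⟨⟨U.inv_y2, ⟨U.inv_x2, U.inv_x3⟩⟩, ⟨⟨U.inv_y4, U.inv_x4⟩, ⟨U.inv_x5, U.inv_y6⟩⟩⟩, ⟨⟨U.inv_x6, ⟨U.inv_x7, U.inv_y8⟩⟩, ⟨⟨U.inv_x8, rfl⟩, ⟨rfl, rfl⟩⟩⟩⟩⟩, ⟨⟨⟨⟨rfl, ⟨rfl, rfl⟩⟩, ⟨⟨rfl, rfl⟩, ⟨rfl, rfl⟩⟩⟩, ⟨⟨rfl, ⟨rfl, fun _ => rfl⟩⟩, ⟨⟨fun _ => rfl, fun _ => rfl⟩, ⟨fun _ => rfl, fun _ => rfl⟩⟩⟩⟩, ⟨⟨⟨fun _ => rfl, ⟨fun _ => rfl, fun _ => rfl⟩⟩, ⟨⟨fun _ => rfl, fun _ => rfl⟩, ⟨fun _ => rfl, fun _ => rfl⟩⟩⟩, ⟨⟨fun _ => rfl, ⟨fun _ => rfl, fun _ => rfl⟩⟩, ⟨⟨fun _ => rfl, fun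 _ => rfl⟩, ⟨fun _ => rfl, fun _ => rfl⟩⟩⟩⟩⟩⟩, ⟨⟨⟨⟨⟨fun _ => rfl, ⟨fun _ => rfl, fun _ => rfl⟩⟩, ⟨fun _ => rfl, ⟨fun _ => rfl, fun _ => rfl⟩⟩⟩, ⟨⟨fun _ => rfl, ⟨fun _ => rfl, fun _ => rfl⟩⟩, ⟨⟨fun _ => rfl, fun _ => rfl⟩, ⟨fun _ => rfl, fun _ => rfl⟩⟩⟩⟩, ⟨⟨⟨fun _ => rfl, ⟨fun _ => rfl, fun _ => rfl⟩⟩, ⟨⟨fun _ => rfl, fun _ => rfl⟩, ⟨fun _ => rfl, fun _ => rfl⟩⟩⟩, ⟨⟨fun _ => rfl, ⟨fun _ => rfl, fun _ => rfl⟩⟩, ⟨⟨fun _ => rfl, fun _ => rfl⟩, ⟨fun _ => rfl, fun _ => rfl⟩⟩⟩⟩⟩, ⟨⟨⟨⟨fun _ => rfl, ⟨fun _ => rfl, fun _ => rfl⟩⟩, ⟨⟨fun _ => rfl, fun _ => rfl⟩, ⟨fun _ => rfl, fun _ => rfl⟩⟩⟩, ⟨⟨fun _ => rfl, ⟨fun _ => rfl, fun _ => rfl⟩⟩, ⟨⟨fun _ => rfl, fun _ => rfl⟩, ⟨fun _ => rfl, fun _ => rfl⟩⟩⟩⟩, ⟨⟨⟨fun _ => rfl, ⟨fun _ =>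 rfl, fun _ => rfl⟩⟩, ⟨⟨fun _ => rfl, fun _ => rfl⟩, ⟨fun _ => rfl, fun _ => rfl⟩⟩⟩, ⟨⟨fun _ => rfl, ⟨fun _ => rfl, fun _ => rfl⟩⟩, ⟨⟨fun _ => rfl, fun _ => rfl⟩, ⟨fun _ => rfl, fun _ => rfl⟩⟩⟩⟩⟩⟩⟩, ⟨⟨⟨⟨⟨⟨fun _ => rfl, ⟨fun _ => rfl, fun _ => rfl⟩⟩, ⟨fun _ => rfl, ⟨fun _ => rfl, fun _ => rfl⟩⟩⟩, ⟨⟨fun _ => rfl, ⟨fun _ => rfl, fun _ => rfl⟩⟩, ⟨⟨fun _ => rfl, fun _ => rfl⟩, ⟨fun _ => rfl, fun _ => rfl⟩⟩⟩⟩, ⟨⟨⟨fun _ => rfl, ⟨fun _ => rfl, fun _ => rfl⟩⟩, ⟨⟨fun _ => rfl, fun _ => rfl⟩, ⟨fun _ => rfl, fun _ => rfl⟩⟩⟩, ⟨⟨fun _ => rfl, ⟨fun _ => rfl, fun _ => rfl⟩⟩, ⟨⟨fun _ => rfl, fun _ => rfl⟩, ⟨fun _ => rfl, fun _ => rfl⟩⟩⟩⟩⟩, ⟨⟨⟨⟨fun _ => rfl, ⟨fun _ => rfl, fun _ => rfl⟩⟩, ⟨⟨fun _ => rfl, fun _ => rfl⟩, ⟨fun _ => rfl, fun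 _ => rfl⟩⟩⟩, ⟨⟨fun _ => rfl, ⟨fun _ => rfl, fun _ => rfl⟩⟩, ⟨⟨fun _ => rfl, fun _ => rfl⟩, ⟨fun _ => rfl, fun _ => rfl⟩⟩⟩⟩, ⟨⟨⟨fun _ => rfl, ⟨fun _ => rfl, fun _ => rfl⟩⟩, ⟨⟨fun _ => rfl, fun _ => rfl⟩, ⟨fun _ => rfl, fun _ => rfl⟩⟩⟩, ⟨⟨fun _ => rfl, ⟨fun _ => rfl, fun _ => rfl⟩⟩, ⟨⟨fun _ => rfl, fun _ => rfl⟩, ⟨fun _ => rfl, fun _ => rfl⟩⟩⟩⟩⟩⟩, ⟨⟨⟨⟨⟨fun _ => rfl, ⟨fun _ => rfl, fun _ => rfl⟩⟩, ⟨fun _ => rfl, ⟨fun _ => rfl, fun _ => rfl⟩⟩⟩, ⟨⟨fun _ => rfl, ⟨fun _ => rfl, fun _ => rfl⟩⟩, ⟨⟨fun _ => rfl, fun _ => rfl⟩, ⟨fun _ => rfl, fun _ => rfl⟩⟩⟩⟩, ⟨⟨⟨fun _ => rfl, ⟨fun _ => rfl, fun _ => rfl⟩⟩, ⟨⟨fun _ => rfl, fun _ => rfl⟩, ⟨fun _ => rfl, fun _ => rfl⟩⟩⟩, ⟨⟨fun _ => rfl, ⟨fun _ => rfl, fun _ => rfl⟩⟩, ⟨⟨fun _ => rfl,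 fun _ => rfl⟩, ⟨fun _ => rfl, fun _ => rfl⟩⟩⟩⟩⟩, ⟨⟨⟨⟨fun _ _ => rfl, ⟨fun _ _ => rfl, fun _ _ => rfl⟩⟩, ⟨⟨fun _ _ => rfl, fun _ _ => rfl⟩, ⟨fun _ _ => rfl, fun _ _ => rfl⟩⟩⟩, ⟨⟨fun _ _ => rfl, ⟨fun _ _ => rfl, fun _ _ => rfl⟩⟩, ⟨⟨fun _ _ => rfl, fun _ _ => rfl⟩, ⟨map_add _, map_mul _⟩⟩⟩⟩, ⟨⟨⟨map_pow _, ⟨σσ, map_zero _⟩⟩, ⟨⟨map_one _, mul_zero⟩, ⟨zero_mul, add_zero⟩⟩⟩, ⟨⟨zero_add, ⟨mul_one, one_mul⟩⟩, ⟨⟨by simp, by simp⟩, ⟨one_pow, CharTwo.add_self_eq_zero⟩⟩⟩⟩⟩⟩⟩⟩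

theorem σ_inj : Function.Injective (σ : K → K) := (σ : K →+* K).injective

theorem σ_eq_zero {t : K} : σ t = 0 ↔ t = 0 := map_eq_zero _

theorem mul_σ_eq_zero {t : K} (h : t * σ t = 0) : t = 0 := by
  rcases mul_eq_zero.1 h with h | h
  exacts [h, σ_eq_zero.1 h]

theorem decomp (a : U K) : a = X1 a.x1 * Y2 a.y2 * X2 a.x2 * X3 a.x3 * Y4 a.y4 * X4 a.x4 * X5 a.x5 *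
    Y6 a.y6 * X6 a.x6 * X7 a.x7 * Y8 a.y8 * X8 a.x8 := by
  ext <;> simp only [UE]

theorem ω_eq (a : U K) : ω a = X7 a.x1 * Y6 a.y2 * X6 a.x2 * X5 a.x3 * Y4 a.y4 * X4 a.x4 * X3 a.x5 *
    Y2 a.y6 * X2 a.x6 * X1 a.x7 := by
  ext <;> simp only [UE] <;> grind

@[simp] theorem X1_zero : X1 (0 : K) = 1 := rfl
@[simp] theorem Y2_zero : Y2 (0 : K) = 1 := rfl
@[simp] theorem X2_zero : X2 (0 : K) = 1 := rfl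
@[simp] theorem X3_zero : X3 (0 : K) = 1 := rfl
@[simp] theorem Y4_zero : Y4 (0 : K) = 1 := rfl
@[simp] theorem X4_zero : X4 (0 : K) = 1 := rfl
@[simp] theorem X5_zero : X5 (0 : K) = 1 := rfl
@[simp] theorem Y6_zero : Y6 (0 : K) = 1 := rfl
@[simp] theorem X6_zero : X6 (0 : K) = 1 := rfl
@[simp] theorem X7_zero : X7 (0 : K) = 1 := rfl
@[simp] theorem Y8_zero : Y8 (0 : K) = 1 := rfl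
@[simp] theorem X8_zero : X8 (0 : K) = 1 := rfl

/-- The centre. -/
def Zs : Subgroup (U K) where
  carrier := {u | u.x1 = 0 ∧ u.y2 = 0 ∧ u.x2 = 0 ∧ u.x3 = 0 ∧ u.y4 = 0 ∧ u.x5 = 0 ∧ u.y6 = 0 ∧ u.x6 = 0 ∧ u.x7 = 0 ∧ u.y8 = 0 ∧ u.x8 = 0}
  mul_mem' := fun {a b} ⟨h0, h1, h2, h3, h4, h5, h6, h7, h8, h9, h10⟩ ⟨k0, k1, k2, k3, k4, k5, k6, k7, k8, k9, k10⟩ => by
    simp only [Set.mem_ofPred_eq, UE, h0, h1, h2, h3, h4, h5, h6, h7, h8, h9, h10, k0, k1, k2, k3, k4, k5, k6, k7, k8, k9, k10, and_self]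
  one_mem' := by simp only [Set.mem_ofPred_eq, UE, and_self]
  inv_mem' := fun {a} ⟨h0, h1, h2, h3, h4, h5, h6, h7, h8, h9, h10⟩ => by
    simp only [Set.mem_ofPred_eq, UE, h0, h1, h2, h3, h4, h5, h6, h7, h8, h9, h10, and_self]

theorem mem_Zs {u : U K} : u ∈ Zs ↔ u.x1 = 0 ∧ u.y2 = 0 ∧ u.x2 = 0 ∧ u.x3 = 0 ∧ u.y4 = 0 ∧ u.x5 = 0 ∧ u.y6 = 0 ∧ u.x6 = 0 ∧ u.x7 = 0 ∧ u.y8 = 0 ∧ u.x8 = 0 := Iff.rfl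

/-- The second centre. -/
def Ws : Subgroup (U K) where
  carrier := {u | u.x1 = 0 ∧ u.y2 = 0 ∧ u.x2 = 0 ∧ u.x3 = 0 ∧ u.y4 = 0 ∧ u.x5 = 0 ∧ u.y6 = 0 ∧ u.x7 = 0 ∧ u.y8 = 0 ∧ u.x8 = 0}
  mul_mem' := fun {a b} ⟨h0, h1, h2, h3, h4, h5, h6, h7, h8, h9⟩ ⟨k0, k1, k2, k3, k4, k5, k6, k7, k8, k9⟩ => by
    simp only [Set.mem_ofPred_eq, UE, h0, h1, h2, h3, h4, h5, h6, h7, h8, h9, k0, k1, k2, k3, k4, k5, k6, k7, k8, k9, and_self]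
  one_mem' := by simp only [Set.mem_ofPred_eq, UE, and_self]
  inv_mem' := fun {a} ⟨h0, h1, h2, h3, h4, h5, h6, h7, h8, h9⟩ => by
    simp only [Set.mem_ofPred_eq, UE, h0, h1, h2, h3, h4, h5, h6, h7, h8, h9, and_self]

theorem mem_Ws {u : U K} : u ∈ Ws ↔ u.x1 = 0 ∧ u.y2 = 0 ∧ u.x2 = 0 ∧ u.x3 = 0 ∧ u.y4 = 0 ∧ u.x5 = 0 ∧ u.y6 = 0 ∧ u.x7 = 0 ∧ u.y8 = 0 ∧ u.x8 = 0 := Iff.rfl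

/-- The third centre. -/
def Ys : Subgroup (U K) where
  carrier := {u | u.x1 = 0 ∧ u.y2 = 0 ∧ u.x2 = 0 ∧ u.x3 = 0 ∧ u.y4 = 0 ∧ u.y6 = 0 ∧ u.x7 = 0 ∧ u.y8 = 0 ∧ u.x8 = 0}
  mul_mem' := fun {a b} ⟨h0, h1, h2, h3, h4, h5, h6, h7, h8⟩ ⟨k0, k1, k2, k3, k4, k5, k6, k7, k8⟩ => by
    simp only [Set.mem_ofPred_eq, UE, h0, h1, h2, h3, h4, h5, h6, h7, h8, k0, k1, k2, k3, k4, k5, k6, k7, k8, and_self]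
  one_mem' := by simp only [Set.mem_ofPred_eq, UE, and_self]
  inv_mem' := fun {a} ⟨h0, h1, h2, h3, h4, h5, h6, h7, h8⟩ => by
    simp only [Set.mem_ofPred_eq, UE, h0, h1, h2, h3, h4, h5, h6, h7, h8, and_self]

theorem mem_Ys {u : U K} : u ∈ Ys ↔ u.x1 = 0 ∧ u.y2 = 0 ∧ u.x2 = 0 ∧ u.x3 = 0 ∧ u.y4 = 0 ∧ u.y6 = 0 ∧ u.x7 = 0 ∧ u.y8 = 0 ∧ u.x8 = 0 := Iff.rfl

/-- The second centre of `Q`. -/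
def As : Subgroup (U K) where
  carrier := {u | u.x1 = 0 ∧ u.y2 = 0 ∧ u.y4 = 0 ∧ u.y6 = 0 ∧ u.x7 = 0 ∧ u.y8 = 0 ∧ u.x8 = 0}
  mul_mem' := fun {a b} ⟨h0, h1, h2, h3, h4, h5, h6⟩ ⟨k0, k1, k2, k3, k4, k5, k6⟩ => by
    simp only [Set.mem_ofPred_eq, UE, h0, h1, h2, h3, h4, h5, h6, k0, k1, k2, k3, k4, k5, k6, and_self]
  one_mem' := by simp only [Set.mem_ofPred_eq, UE, and_self]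
  inv_mem' := fun {a} ⟨h0, h1, h2, h3, h4, h5, h6⟩ => by
    simp only [Set.mem_ofPred_eq, UE, h0, h1, h2, h3, h4, h5, h6, and_self]

theorem mem_As {u : U K} : u ∈ As ↔ u.x1 = 0 ∧ u.y2 = 0 ∧ u.y4 = 0 ∧ u.y6 = 0 ∧ u.x7 = 0 ∧ u.y8 = 0 ∧ u.x8 = 0 := Iff.rfl

/-- A conjugate of `As`. -/
def Bs : Subgroup (U K) where
  carrier := {u | u.x1 = 0 ∧ u.y2 = 0 ∧ u.x2 = 0 ∧ u.x3 = 0 ∧ u.y4 = 0 ∧ u.y6 = 0 ∧ u.y8 = 0}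
  mul_mem' := fun {a b} ⟨h0, h1, h2, h3, h4, h5, h6⟩ ⟨k0, k1, k2, k3, k4, k5, k6⟩ => by
    simp only [Set.mem_ofPred_eq, UE, h0, h1, h2, h3, h4, h5, h6, k0, k1, k2, k3, k4, k5, k6, and_self]
  one_mem' := by simp only [Set.mem_ofPred_eq, UE, and_self]
  inv_mem' := fun {a} ⟨h0, h1, h2, h3, h4, h5, h6⟩ => by
    simp only [Set.mem_ofPred_eq, UE, h0, h1, h2, h3, h4, h5, h6, and_self]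

theorem mem_Bs {u : U K} : u ∈ Bs ↔ u.x1 = 0 ∧ u.y2 = 0 ∧ u.x2 = 0 ∧ u.x3 = 0 ∧ u.y4 = 0 ∧ u.y6 = 0 ∧ u.y8 = 0 := Iff.rfl

/-- The unipotent radical `Q`. -/
def Qs : Subgroup (U K) where
  carrier := {u | u.y8 = 0 ∧ u.x8 = 0}
  mul_mem' := fun {a b} ⟨h0, h1⟩ ⟨k0, k1⟩ => by
    simp only [Set.mem_ofPred_eq, UE, h0, h1, k0, k1, and_self]
  one_mem' := by simp only [Set.mem_ofPred_eq, UE, and_self]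
  inv_mem' := fun {a} ⟨h0, h1⟩ => by
    simp only [Set.mem_ofPred_eq, UE, h0, h1, and_self]

theorem mem_Qs {u : U K} : u ∈ Qs ↔ u.y8 = 0 ∧ u.x8 = 0 := Iff.rfl

/-- The unipotent radical `R`. -/
def Rs : Subgroup (U K) where
  carrier := {u | u.x1 = 0}
  mul_mem' := fun {a b} (h0 : a.x1 = 0) (k0 : b.x1 = 0) => by
    simp only [Set.mem_ofPred_eq, UE, h0, k0]
  one_mem' := by simp only [Set.mem_ofPred_eq, UE]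
  inv_mem' := fun {a} (h0 : a.x1 = 0) => by
    simp only [Set.mem_ofPred_eq, UE, h0]

theorem mem_Rs {u : U K} : u ∈ Rs ↔ u.x1 = 0 := Iff.rfl

/-- A conjugate of the centre. -/
def V6 : Subgroup (U K) where
  carrier := {u | u.x1 = 0 ∧ u.y2 = 0 ∧ u.x2 = 0 ∧ u.x3 = 0 ∧ u.y4 = 0 ∧ u.x4 = 0 ∧ u.x5 = 0 ∧ u.y6 = 0 ∧ u.x7 = 0 ∧ u.y8 = 0 ∧ u.x8 = 0}
  mul_mem' := fun {a b} ⟨h0, h1, h2, h3, h4, h5, h6, h7, h8, h9, h10⟩ ⟨k0, k1, k2, k3, k4, k5, k6, k7, k8, k9, k10⟩ => by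
    simp only [Set.mem_ofPred_eq, UE, h0, h1, h2, h3, h4, h5, h6, h7, h8, h9, h10, k0, k1, k2, k3, k4, k5, k6, k7, k8, k9, k10, and_self]
  one_mem' := by simp only [Set.mem_ofPred_eq, UE, and_self]
  inv_mem' := fun {a} ⟨h0, h1, h2, h3, h4, h5, h6, h7, h8, h9, h10⟩ => by
    simp only [Set.mem_ofPred_eq, UE, h0, h1, h2, h3, h4, h5, h6, h7, h8, h9, h10, and_self]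

theorem mem_V6 {u : U K} : u ∈ V6 ↔ u.x1 = 0 ∧ u.y2 = 0 ∧ u.x2 = 0 ∧ u.x3 = 0 ∧ u.y4 = 0 ∧ u.x4 = 0 ∧ u.x5 = 0 ∧ u.y6 = 0 ∧ u.x7 = 0 ∧ u.y8 = 0 ∧ u.x8 = 0 := Iff.rfl

/-- A conjugate of the centre. -/
def V8 : Subgroup (U K) where
  carrier := {u | u.x1 = 0 ∧ u.y2 = 0 ∧ u.x2 = 0 ∧ u.x3 = 0 ∧ u.y4 = 0 ∧ u.x4 = 0 ∧ u.x5 = 0 ∧ u.y6 = 0 ∧ u.x6 = 0 ∧ u.x7 = 0 ∧ u.y8 = 0}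
  mul_mem' := fun {a b} ⟨h0, h1, h2, h3, h4, h5, h6, h7, h8, h9, h10⟩ ⟨k0, k1, k2, k3, k4, k5, k6, k7, k8, k9, k10⟩ => by
    simp only [Set.mem_ofPred_eq, UE, h0, h1, h2, h3, h4, h5, h6, h7, h8, h9, h10, k0, k1, k2, k3, k4, k5, k6, k7, k8, k9, k10, and_self]
  one_mem' := by simp only [Set.mem_ofPred_eq, UE, and_self]
  inv_mem' := fun {a} ⟨h0, h1, h2, h3, h4, h5, h6, h7, h8, h9, h10⟩ => by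
    simp only [Set.mem_ofPred_eq, UE, h0, h1, h2, h3, h4, h5, h6, h7, h8, h9, h10, and_self]

theorem mem_V8 {u : U K} : u ∈ V8 ↔ u.x1 = 0 ∧ u.y2 = 0 ∧ u.x2 = 0 ∧ u.x3 = 0 ∧ u.y4 = 0 ∧ u.x4 = 0 ∧ u.x5 = 0 ∧ u.y6 = 0 ∧ u.x6 = 0 ∧ u.x7 = 0 ∧ u.y8 = 0 := Iff.rfl

/-- A conjugate of `Ws`. -/
def W3 : Subgroup (U K) where
  carrier := {u | u.x1 = 0 ∧ u.y2 = 0 ∧ u.x2 = 0 ∧ u.x3 = 0 ∧ u.y4 = 0 ∧ u.x4 = 0 ∧ u.x5 = 0 ∧ u.y6 = 0 ∧ u.x7 = 0 ∧ u.y8 = 0}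
  mul_mem' := fun {a b} ⟨h0, h1, h2, h3, h4, h5, h6, h7, h8, h9⟩ ⟨k0, k1, k2, k3, k4, k5, k6, k7, k8, k9⟩ => by
    simp only [Set.mem_ofPred_eq, UE, h0, h1, h2, h3, h4, h5, h6, h7, h8, h9, k0, k1, k2, k3, k4, k5, k6, k7, k8, k9, and_self]
  one_mem' := by simp only [Set.mem_ofPred_eq, UE, and_self]
  inv_mem' := fun {a} ⟨h0, h1, h2, h3, h4, h5, h6, h7, h8, h9⟩ => by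
    simp only [Set.mem_ofPred_eq, UE, h0, h1, h2, h3, h4, h5, h6, h7, h8, h9, and_self]

theorem mem_W3 {u : U K} : u ∈ W3 ↔ u.x1 = 0 ∧ u.y2 = 0 ∧ u.x2 = 0 ∧ u.x3 = 0 ∧ u.y4 = 0 ∧ u.x4 = 0 ∧ u.x5 = 0 ∧ u.y6 = 0 ∧ u.x7 = 0 ∧ u.y8 = 0 := Iff.rfl

/-- The elements whose coordinates of index less than `k` vanish. -/
def Lo (k : ℕ) : Subgroup (U K) where
  carrier := {u | (1 < k → u.x1 = 0) ∧ (2 < k → u.y2 = 0 ∧ u.x2 = 0) ∧ (3 < k → u.x3 = 0) ∧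
    (4 < k → u.y4 = 0 ∧ u.x4 = 0) ∧ (5 < k → u.x5 = 0) ∧ (6 < k → u.y6 = 0 ∧ u.x6 = 0) ∧
    (7 < k → u.x7 = 0) ∧ (8 < k → u.y8 = 0 ∧ u.x8 = 0)}
  mul_mem' := fun {a b} h h' => by
    simp only [Set.mem_ofPred_eq] at *
    rcases (by omega : k ≤ 1 ∨ k = 2 ∨ k = 3 ∨ k = 4 ∨ k = 5 ∨ k = 6 ∨ k = 7 ∨ k = 8 ∨ 8 < k) with
      e | e | e | e | e | e | e | e | e
    · refine ⟨?_, ?_, ?_, ?_, ?_, ?_, ?_, ?_⟩ <;> intro <;> omega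
    iterate 7 subst e; simp_all [UE]
    have e1 : 1 < k := by omega
    have e2 : 2 < k := by omega
    have e3 : 3 < k := by omega
    have e4 : 4 < k := by omega
    have e5 : 5 < k := by omega
    have e6 : 6 < k := by omega
    have e7 : 7 < k := by omega
    simp_all [UE]
  one_mem' := by simp only [Set.mem_ofPred_eq, UE, and_self, implies_true]
  inv_mem' := fun {a} h => by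
    simp only [Set.mem_ofPred_eq] at *
    rcases (by omega : k ≤ 1 ∨ k = 2 ∨ k = 3 ∨ k = 4 ∨ k = 5 ∨ k = 6 ∨ k = 7 ∨ k = 8 ∨ 8 < k) with
      e | e | e | e | e | e | e | e | e
    · refine ⟨?_, ?_, ?_, ?_, ?_, ?_, ?_, ?_⟩ <;> intro <;> omega
    iterate 7 subst e; simp_all [UE]
    have e1 : 1 < k := by omega
    have e2 : 2 < k := by omega
    have e3 : 3 < k := by omega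
    have e4 : 4 < k := by omega
    have e5 : 5 < k := by omega
    have e6 : 6 < k := by omega
    have e7 : 7 < k := by omega
    simp_all [UE]

theorem mem_Lo {k : ℕ} {u : U K} : u ∈ Lo k ↔ (1 < k → u.x1 = 0) ∧ (2 < k → u.y2 = 0 ∧ u.x2 = 0) ∧
    (3 < k → u.x3 = 0) ∧ (4 < k → u.y4 = 0 ∧ u.x4 = 0) ∧ (5 < k → u.x5 = 0) ∧
    (6 < k → u.y6 = 0 ∧ u.x6 = 0) ∧ (7 < k → u.x7 = 0) ∧ (8 < k → u.y8 = 0 ∧ u.x8 = 0) := Iff.rfl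

/-- The coordinates. -/
def U.equiv : U K ≃ (Fin 12 → K) where
  toFun a := ![a.x1, a.y2, a.x2, a.x3, a.y4, a.x4, a.x5, a.y6, a.x6, a.x7, a.y8, a.x8]
  invFun f := ⟨f 0, f 1, f 2, f 3, f 4, f 5, f 6, f 7, f 8, f 9, f 10, f 11⟩
  left_inv _ := rfl
  right_inv f := by funext i; fin_cases i <;> rfl

instance [Finite K] : Finite (U K) := Finite.of_equiv _ U.equiv.symm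

theorem card_U [Finite K] : Nat.card (U K) = Nat.card K ^ 12 := by
  rw [Nat.card_congr U.equiv, Nat.card_fun, Nat.card_fin]

theorem isPGroup_U [Finite K] : IsPGroup 2 (U K) := by
  have := Fintype.ofFinite K
  obtain ⟨n, -, hn⟩ := FiniteField.card K 2
  exact IsPGroup.of_card (n := n * 12) (by rw [card_U, Nat.card_eq_fintype_card, hn, pow_mul])

theorem σ_surj [Finite K] : Function.Surjective (σ : K → K) := Finite.injective_iff_surjective.1 σ_inj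

/-- The inverse of the Tits endomorphism. -/
noncomputable def θ [Finite K] : K →+* K :=
  ((RingEquiv.ofBijective (σ : K →+* K) ⟨σ_inj, σ_surj⟩).symm : K →+* K)

theorem σθ [Finite K] (t : K) : σ (θ t) = t :=
  (RingEquiv.ofBijective (σ : K →+* K) ⟨σ_inj, σ_surj⟩).apply_symm_apply t

theorem θσ [Finite K] (t : K) : θ (σ t) = t := σ_inj (σθ _)

theorem σ_eq [Finite K] (t : K) : σ t = θ t ^ 2 := by rw [← σσ, σθ]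

theorem exists_unit [Finite K] (f : Kˣ →* Kˣ) (hf : ∀ ν, f ν = 1 → ν = 1) {t : K} (ht : t ≠ 0) :
    ∃ ν, (f ν : K) = t := by
  obtain ⟨ν, h⟩ := Finite.injective_iff_surjective.1 ((injective_iff_map_eq_one f).2 hf) (Units.mk0 t ht)
  exact ⟨ν, by rw [h]; rfl⟩

theorem exists_w6 [Finite K] {t : K} (ht : t ≠ 0) : ∃ ν : Kˣ, (ν : K) * σ (ν : K) * t = 1 := by
  obtain ⟨ν, h⟩ := exists_unit (MonoidHom.id Kˣ * Units.map (σ : K →+* K).toMonoidHom) (fun ν h => by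
    have h1 : (ν : K) * σ (ν : K) = 1 := congrArg Units.val h
    have h2 := congrArg σ h1
    simp only [UE] at h2
    ext
    change (ν : K) = 1
    grind) (inv_ne_zero ht)
  exact ⟨ν, (congrArg (· * t) h).trans (inv_mul_cancel₀ ht)⟩

theorem exists_w8 [Finite K] {t : K} (ht : t ≠ 0) : ∃ ν : Kˣ, σ (ν : K) * (ν : K) ^ 2 * t = 1 := by
  obtain ⟨ν, h⟩ := exists_unit (Units.map (σ : K →+* K).toMonoidHom * (MonoidHom.id Kˣ * MonoidHom.id Kˣ))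
    (fun ν h => by
    have h1 : σ (ν : K) * (ν * ν) = 1 := congrArg Units.val h
    have h2 := congrArg σ h1
    simp only [UE] at h2
    ext
    change (ν : K) = 1
    grind) (inv_ne_zero ht)
  refine ⟨ν, Eq.trans ?_ ((congrArg (· * t) h).trans (inv_mul_cancel₀ ht))⟩
  rw [pow_two]; rfl

end Cfsg.Agent.Oct
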